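import Cfsg.Agent.L0.Fi24.Grp
import Cfsg.Agent.L0.Fi24.Chn
import Cfsg.Agent.L0.Fi23.Mult

/-! The commutator subgroup of Fi24: order, action and base. -/

set_option autoImplicit false
set_option maxRecDepth 100000

namespace Cfsg.Agent.L0.Fi24G

open Cfsg.Spor

instance instFinite : Finite Fi24 := (card_le Fi23G.upper).1

theorem of_x {i : ℕ} (hi : i < 12) : Abelianization.of (x i) = Abelianization.of (x 5) := by
  have br : ∀ a b, a < 12 ∧ b < 12 ∧ [a, b, a, b, a, b] ∈ Rs →
      Abelianization.of (x a) = Abelianization.of (x b) := fun a b hab =>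
    of_eq_of_braid (sq hab.1) (sq hab.2.1) (by
      simpa [pow_succ, mul_assoc] using isPres0.rel _ hab.2.2)
  have a0 := br 0 1 (by decide +kernel)
  have a1 := br 1 2 (by decide +kernel)
  have a2 := br 2 3 (by decide +kernel)
  have a3 := br 3 4 (by decide +kernel)
  have a4 := br 4 5 (by decide +kernel)
  have a5 := br 5 6 (by decide +kernel)
  have a6 := br 6 7 (by decide +kernel)
  have a7 := br 7 8 (by decide +kernel)
  have a8 := br 8 9 (by decide +kernel)
  have a9 := br 5 10 (by decide +kernel)
  have a10 := br 10 11 (by decide +kernel)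
  interval_cases i <;> simp only [a0, a1, a2, a3, a4, ← a10, ← a9, ← a8, ← a7, ← a6, ← a5]

theorem mul_mem_comm {i j : ℕ} (hi : i < 12) (hj : j < 12) : x i * x j ∈ commutator Fi24 := by
  rw [← Abelianization.ker_of, MonoidHom.mem_ker, map_mul, of_x hi, of_x hj, ← map_mul,
    sq (by norm_num), map_one]

/-- the products of two generators as elements of the commutator subgroup -/
noncomputable def xp (s : ℕ) : Fi24' :=
  if h : s < 144 then ⟨x (s / 12) * x (s % 12), mul_mem_comm (by omega) (by omega)⟩ else 1

theorem xp_val {s : ℕ} (h : s < 144) : (xp s).1 = x (s / 12) * x (s % 12) := by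
  rw [xp, dif_pos h]

theorem exists_sign : ∃ f : Fi24 →* Multiplicative (ZMod 2),
    ∀ i < 12, f (x i) = Multiplicative.ofAdd 1 :=
  isPres0.exists_hom (fun _ => Multiplicative.ofAdd 1) (by decide +kernel)

theorem card_comm_le : Nat.card Fi24' ≤ 1255205709190661721292800 := by
  obtain ⟨f, hf⟩ := exists_sign
  have h1 : commutator Fi24 ≤ f.ker := Abelianization.commutator_subset_ker f
  have h2 : (commutator Fi24).index ≠ 1 := fun h => by
    have h3 := h1 ((Subgroup.index_eq_one.mp h) ▸ Subgroup.mem_top (x 0))
    rw [MonoidHom.mem_ker, hf 0 (by norm_num)] at h3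
    exact absurd h3 (by decide)
  have h3 := (commutator Fi24).card_mul_index
  have h4 := (card_le Fi23G.upper).2
  have h5 := (commutator Fi24).index_ne_zero_of_finite
  have h6 : Nat.card Fi24' * 2 ≤ Nat.card Fi24 := h3 ▸ Nat.mul_le_mul_left _ (by omega)
  omega

/-- the action of `Fi24` on `306936` points, with the table of the commutator subgroup -/
theorem exists_act' : ∃ A : RAct Fi24 306936, A.Tab x 12 T ∧
    (A.comap (commutator Fi24).subtype).Tab xp 144 TP ∧
    (A.comap (commutator Fi24).subtype).IsBase Fi24Chn.B ∧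
    Nat.card Fi24' = 1255205709190661721292800 := by
  obtain ⟨A, h⟩ := exists_act
  have h1 : A.Tab x 12 T := fun i hi c hc => by rw [← h i (by omega) c hc, xe_eq hi]
  have h2 : (A.comap (commutator Fi24).subtype).Tab xp 144 TP := fun s hs c hc => by
    have := h1.pair (by norm_num) s hs c hc
    beta_reduce at this
    rw [← xp_val hs] at this
    exact this
  exact ⟨A, h1, h2, Fi24Chn.ch h2 card_comm_le⟩

end Cfsg.Agent.L0.Fi24G
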