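import Cfsg.Agent.L0.Fi24.Cov3T

/-! Generated checks. -/

set_option autoImplicit false
set_option maxRecDepth 100000

namespace Cfsg.Agent.L0.Fi24Cov3

theorem b25 : allR chk 9 25 = true := by decide +kernel
theorem b26 : allR chk 9 26 = true := by decide +kernel
theorem b27 : allR chk 9 27 = true := by decide +kernel
theorem b28 : allR chk 9 28 = true := by decide +kernel
theorem b29 : allR chk 9 29 = true := by decide +kernel
theorem b30 : allR chk 9 30 = true := by decide +kernel
theorem b31 : allR chk 9 31 = true := by decide +kernel
theorem b32 : allR chk 9 32 = true := by decide +kernel
theorem b33 : allR chk 9 33 = true := by decide +kernel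
theorem b34 : allR chk 9 34 = true := by decide +kernel
theorem b35 : allR chk 9 35 = true := by decide +kernel
theorem b36 : allR chk 9 36 = true := by decide +kernel
theorem b37 : allR chk 9 37 = true := by decide +kernel
theorem b38 : allR chk 9 38 = true := by decide +kernel
theorem b39 : allR chk 9 39 = true := by decide +kernel
theorem b40 : allR chk 9 40 = true := by decide +kernel
theorem b41 : allR chk 9 41 = true := by decide +kernel
theorem b42 : allR chk 9 42 = true := by decide +kernel
theorem b43 : allR chk 9 43 = true := by decide +kernel
theorem b44 : allR chk 9 44 = true := by decide +kernel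
theorem b45 : allR chk 9 45 = true := by decide +kernel
theorem b46 : allR chk 9 46 = true := by decide +kernel
theorem b47 : allR chk 9 47 = true := by decide +kernel
theorem b48 : allR chk 9 48 = true := by decide +kernel
theorem b49 : allR chk 9 49 = true := by decide +kernel

end Cfsg.Agent.L0.Fi24Cov3
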