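import Cfsg.Agent.L0.Fi24.Cov3T

/-! Generated checks. -/

set_option autoImplicit false
set_option maxRecDepth 100000

namespace Cfsg.Agent.L0.Fi24Cov3

theorem b275 : allR chk 9 275 = true := by decide +kernel
theorem b276 : allR chk 9 276 = true := by decide +kernel
theorem b277 : allR chk 9 277 = true := by decide +kernel
theorem b278 : allR chk 9 278 = true := by decide +kernel
theorem b279 : allR chk 9 279 = true := by decide +kernel
theorem b280 : allR chk 9 280 = true := by decide +kernel
theorem b281 : allR chk 9 281 = true := by decide +kernel
theorem b282 : allR chk 9 282 = true := by decide +kernel
theorem b283 : allR chk 9 283 = true := by decide +kernel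
theorem b284 : allR chk 9 284 = true := by decide +kernel
theorem b285 : allR chk 9 285 = true := by decide +kernel
theorem b286 : allR chk 9 286 = true := by decide +kernel
theorem b287 : allR chk 9 287 = true := by decide +kernel
theorem b288 : allR chk 9 288 = true := by decide +kernel
theorem b289 : allR chk 9 289 = true := by decide +kernel
theorem b290 : allR chk 9 290 = true := by decide +kernel
theorem b291 : allR chk 9 291 = true := by decide +kernel
theorem b292 : allR chk 9 292 = true := by decide +kernel
theorem b293 : allR chk 9 293 = true := by decide +kernel
theorem b294 : allR chk 9 294 = true := by decide +kernel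
theorem b295 : allR chk 9 295 = true := by decide +kernel
theorem b296 : allR chk 9 296 = true := by decide +kernel
theorem b297 : allR chk 9 297 = true := by decide +kernel
theorem b298 : allR chk 9 298 = true := by decide +kernel
theorem b299 : allR chk 9 299 = true := by decide +kernel

end Cfsg.Agent.L0.Fi24Cov3
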