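import Cfsg.Agent.L0.Fi24.Cov3T

/-! Generated checks. -/

set_option autoImplicit false
set_option maxRecDepth 100000

namespace Cfsg.Agent.L0.Fi24Cov3

theorem b350 : allR chk 9 350 = true := by decide +kernel
theorem b351 : allR chk 9 351 = true := by decide +kernel
theorem b352 : allR chk 9 352 = true := by decide +kernel
theorem b353 : allR chk 9 353 = true := by decide +kernel
theorem b354 : allR chk 9 354 = true := by decide +kernel
theorem b355 : allR chk 9 355 = true := by decide +kernel
theorem b356 : allR chk 9 356 = true := by decide +kernel
theorem b357 : allR chk 9 357 = true := by decide +kernel
theorem b358 : allR chk 9 358 = true := by decide +kernel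
theorem b359 : allR chk 9 359 = true := by decide +kernel
theorem b360 : allR chk 9 360 = true := by decide +kernel
theorem b361 : allR chk 9 361 = true := by decide +kernel
theorem b362 : allR chk 9 362 = true := by decide +kernel
theorem b363 : allR chk 9 363 = true := by decide +kernel
theorem b364 : allR chk 9 364 = true := by decide +kernel
theorem b365 : allR chk 9 365 = true := by decide +kernel
theorem b366 : allR chk 9 366 = true := by decide +kernel
theorem b367 : allR chk 9 367 = true := by decide +kernel
theorem b368 : allR chk 9 368 = true := by decide +kernel
theorem b369 : allR chk 9 369 = true := by decide +kernel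
theorem b370 : allR chk 9 370 = true := by decide +kernel
theorem b371 : allR chk 9 371 = true := by decide +kernel
theorem b372 : allR chk 9 372 = true := by decide +kernel
theorem b373 : allR chk 9 373 = true := by decide +kernel
theorem b374 : allR chk 9 374 = true := by decide +kernel

end Cfsg.Agent.L0.Fi24Cov3
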