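import Cfsg.Agent.L0.Fi24.Cov3T

/-! Generated checks. -/

set_option autoImplicit false
set_option maxRecDepth 100000

namespace Cfsg.Agent.L0.Fi24Cov3

theorem b400 : allR chk 9 400 = true := by decide +kernel
theorem b401 : allR chk 9 401 = true := by decide +kernel
theorem b402 : allR chk 9 402 = true := by decide +kernel
theorem b403 : allR chk 9 403 = true := by decide +kernel
theorem b404 : allR chk 9 404 = true := by decide +kernel
theorem b405 : allR chk 9 405 = true := by decide +kernel
theorem b406 : allR chk 9 406 = true := by decide +kernel
theorem b407 : allR chk 9 407 = true := by decide +kernel
theorem b408 : allR chk 9 408 = true := by decide +kernel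
theorem b409 : allR chk 9 409 = true := by decide +kernel
theorem b410 : allR chk 9 410 = true := by decide +kernel
theorem b411 : allR chk 9 411 = true := by decide +kernel
theorem b412 : allR chk 9 412 = true := by decide +kernel
theorem b413 : allR chk 9 413 = true := by decide +kernel
theorem b414 : allR chk 9 414 = true := by decide +kernel
theorem b415 : allR chk 9 415 = true := by decide +kernel
theorem b416 : allR chk 9 416 = true := by decide +kernel
theorem b417 : allR chk 9 417 = true := by decide +kernel
theorem b418 : allR chk 9 418 = true := by decide +kernel
theorem b419 : allR chk 9 419 = true := by decide +kernel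
theorem b420 : allR chk 9 420 = true := by decide +kernel
theorem b421 : allR chk 9 421 = true := by decide +kernel
theorem b422 : allR chk 9 422 = true := by decide +kernel
theorem b423 : allR chk 9 423 = true := by decide +kernel
theorem b424 : allR chk 9 424 = true := by decide +kernel

end Cfsg.Agent.L0.Fi24Cov3
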