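import Cfsg.Agent.L0.Fi24.Cov3T

/-! Generated checks. -/

set_option autoImplicit false
set_option maxRecDepth 100000

namespace Cfsg.Agent.L0.Fi24Cov3

theorem b425 : allR chk 9 425 = true := by decide +kernel
theorem b426 : allR chk 9 426 = true := by decide +kernel
theorem b427 : allR chk 9 427 = true := by decide +kernel
theorem b428 : allR chk 9 428 = true := by decide +kernel
theorem b429 : allR chk 9 429 = true := by decide +kernel
theorem b430 : allR chk 9 430 = true := by decide +kernel
theorem b431 : allR chk 9 431 = true := by decide +kernel
theorem b432 : allR chk 9 432 = true := by decide +kernel
theorem b433 : allR chk 9 433 = true := by decide +kernel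
theorem b434 : allR chk 9 434 = true := by decide +kernel
theorem b435 : allR chk 9 435 = true := by decide +kernel
theorem b436 : allR chk 9 436 = true := by decide +kernel
theorem b437 : allR chk 9 437 = true := by decide +kernel
theorem b438 : allR chk 9 438 = true := by decide +kernel
theorem b439 : allR chk 9 439 = true := by decide +kernel
theorem b440 : allR chk 9 440 = true := by decide +kernel
theorem b441 : allR chk 9 441 = true := by decide +kernel
theorem b442 : allR chk 9 442 = true := by decide +kernel
theorem b443 : allR chk 9 443 = true := by decide +kernel
theorem b444 : allR chk 9 444 = true := by decide +kernel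
theorem b445 : allR chk 9 445 = true := by decide +kernel
theorem b446 : allR chk 9 446 = true := by decide +kernel
theorem b447 : allR chk 9 447 = true := by decide +kernel
theorem b448 : allR chk 9 448 = true := by decide +kernel
theorem b449 : allR chk 9 449 = true := by decide +kernel

end Cfsg.Agent.L0.Fi24Cov3
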