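import Cfsg.Agent.L0.Fi24.Cov3T

/-! Generated checks. -/

set_option autoImplicit false
set_option maxRecDepth 100000

namespace Cfsg.Agent.L0.Fi24Cov3

theorem b475 : allR chk 9 475 = true := by decide +kernel
theorem b476 : allR chk 9 476 = true := by decide +kernel
theorem b477 : allR chk 9 477 = true := by decide +kernel
theorem b478 : allR chk 9 478 = true := by decide +kernel
theorem b479 : allR chk 9 479 = true := by decide +kernel
theorem b480 : allR chk 9 480 = true := by decide +kernel
theorem b481 : allR chk 9 481 = true := by decide +kernel
theorem b482 : allR chk 9 482 = true := by decide +kernel
theorem b483 : allR chk 9 483 = true := by decide +kernel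
theorem b484 : allR chk 9 484 = true := by decide +kernel
theorem b485 : allR chk 9 485 = true := by decide +kernel
theorem b486 : allR chk 9 486 = true := by decide +kernel
theorem b487 : allR chk 9 487 = true := by decide +kernel
theorem b488 : allR chk 9 488 = true := by decide +kernel
theorem b489 : allR chk 9 489 = true := by decide +kernel
theorem b490 : allR chk 9 490 = true := by decide +kernel
theorem b491 : allR chk 9 491 = true := by decide +kernel
theorem b492 : allR chk 9 492 = true := by decide +kernel
theorem b493 : allR chk 9 493 = true := by decide +kernel
theorem b494 : allR chk 9 494 = true := by decide +kernel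
theorem b495 : allR chk 9 495 = true := by decide +kernel
theorem b496 : allR chk 9 496 = true := by decide +kernel
theorem b497 : allR chk 9 497 = true := by decide +kernel
theorem b498 : allR chk 9 498 = true := by decide +kernel
theorem b499 : allR chk 9 499 = true := by decide +kernel

end Cfsg.Agent.L0.Fi24Cov3
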