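import Cfsg.Agent.L0.Fi24.Cov3T

/-! Generated checks. -/

set_option autoImplicit false
set_option maxRecDepth 100000

namespace Cfsg.Agent.L0.Fi24Cov3

theorem b50 : allR chk 9 50 = true := by decide +kernel
theorem b51 : allR chk 9 51 = true := by decide +kernel
theorem b52 : allR chk 9 52 = true := by decide +kernel
theorem b53 : allR chk 9 53 = true := by decide +kernel
theorem b54 : allR chk 9 54 = true := by decide +kernel
theorem b55 : allR chk 9 55 = true := by decide +kernel
theorem b56 : allR chk 9 56 = true := by decide +kernel
theorem b57 : allR chk 9 57 = true := by decide +kernel
theorem b58 : allR chk 9 58 = true := by decide +kernel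
theorem b59 : allR chk 9 59 = true := by decide +kernel
theorem b60 : allR chk 9 60 = true := by decide +kernel
theorem b61 : allR chk 9 61 = true := by decide +kernel
theorem b62 : allR chk 9 62 = true := by decide +kernel
theorem b63 : allR chk 9 63 = true := by decide +kernel
theorem b64 : allR chk 9 64 = true := by decide +kernel
theorem b65 : allR chk 9 65 = true := by decide +kernel
theorem b66 : allR chk 9 66 = true := by decide +kernel
theorem b67 : allR chk 9 67 = true := by decide +kernel
theorem b68 : allR chk 9 68 = true := by decide +kernel
theorem b69 : allR chk 9 69 = true := by decide +kernel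
theorem b70 : allR chk 9 70 = true := by decide +kernel
theorem b71 : allR chk 9 71 = true := by decide +kernel
theorem b72 : allR chk 9 72 = true := by decide +kernel
theorem b73 : allR chk 9 73 = true := by decide +kernel
theorem b74 : allR chk 9 74 = true := by decide +kernel

end Cfsg.Agent.L0.Fi24Cov3
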