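import Cfsg.Agent.L0.Fi24.Cov3T

/-! Generated checks. -/

set_option autoImplicit false
set_option maxRecDepth 100000

namespace Cfsg.Agent.L0.Fi24Cov3

theorem b500 : allR chk 9 500 = true := by decide +kernel
theorem b501 : allR chk 9 501 = true := by decide +kernel
theorem b502 : allR chk 9 502 = true := by decide +kernel
theorem b503 : allR chk 9 503 = true := by decide +kernel
theorem b504 : allR chk 9 504 = true := by decide +kernel
theorem b505 : allR chk 9 505 = true := by decide +kernel
theorem b506 : allR chk 9 506 = true := by decide +kernel
theorem b507 : allR chk 9 507 = true := by decide +kernel
theorem b508 : allR chk 9 508 = true := by decide +kernel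
theorem b509 : allR chk 9 509 = true := by decide +kernel
theorem b510 : allR chk 9 510 = true := by decide +kernel
theorem b511 : allR chk 9 511 = true := by decide +kernel
theorem b512 : allR chk 9 512 = true := by decide +kernel
theorem b513 : allR chk 9 513 = true := by decide +kernel
theorem b514 : allR chk 9 514 = true := by decide +kernel
theorem b515 : allR chk 9 515 = true := by decide +kernel
theorem b516 : allR chk 9 516 = true := by decide +kernel
theorem b517 : allR chk 9 517 = true := by decide +kernel
theorem b518 : allR chk 9 518 = true := by decide +kernel
theorem b519 : allR chk 9 519 = true := by decide +kernel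
theorem b520 : allR chk 9 520 = true := by decide +kernel
theorem b521 : allR chk 9 521 = true := by decide +kernel
theorem b522 : allR chk 9 522 = true := by decide +kernel
theorem b523 : allR chk 9 523 = true := by decide +kernel
theorem b524 : allR chk 9 524 = true := by decide +kernel

end Cfsg.Agent.L0.Fi24Cov3
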