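import Cfsg.Agent.L0.Fi24.Cov3T

/-! Generated checks. -/

set_option autoImplicit false
set_option maxRecDepth 100000

namespace Cfsg.Agent.L0.Fi24Cov3

theorem b525 : allR chk 9 525 = true := by decide +kernel
theorem b526 : allR chk 9 526 = true := by decide +kernel
theorem b527 : allR chk 9 527 = true := by decide +kernel
theorem b528 : allR chk 9 528 = true := by decide +kernel
theorem b529 : allR chk 9 529 = true := by decide +kernel
theorem b530 : allR chk 9 530 = true := by decide +kernel
theorem b531 : allR chk 9 531 = true := by decide +kernel
theorem b532 : allR chk 9 532 = true := by decide +kernel
theorem b533 : allR chk 9 533 = true := by decide +kernel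
theorem b534 : allR chk 9 534 = true := by decide +kernel
theorem b535 : allR chk 9 535 = true := by decide +kernel
theorem b536 : allR chk 9 536 = true := by decide +kernel
theorem b537 : allR chk 9 537 = true := by decide +kernel
theorem b538 : allR chk 9 538 = true := by decide +kernel
theorem b539 : allR chk 9 539 = true := by decide +kernel
theorem b540 : allR chk 9 540 = true := by decide +kernel
theorem b541 : allR chk 9 541 = true := by decide +kernel
theorem b542 : allR chk 9 542 = true := by decide +kernel
theorem b543 : allR chk 9 543 = true := by decide +kernel
theorem b544 : allR chk 9 544 = true := by decide +kernel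
theorem b545 : allR chk 9 545 = true := by decide +kernel
theorem b546 : allR chk 9 546 = true := by decide +kernel
theorem b547 : allR chk 9 547 = true := by decide +kernel
theorem b548 : allR chk 9 548 = true := by decide +kernel
theorem b549 : allR chk 9 549 = true := by decide +kernel

end Cfsg.Agent.L0.Fi24Cov3
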