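import Cfsg.Agent.L0.Fi24.Cov3T

/-! Generated checks. -/

set_option autoImplicit false
set_option maxRecDepth 100000

namespace Cfsg.Agent.L0.Fi24Cov3

theorem b550 : allR chk 9 550 = true := by decide +kernel
theorem b551 : allR chk 9 551 = true := by decide +kernel
theorem b552 : allR chk 9 552 = true := by decide +kernel
theorem b553 : allR chk 9 553 = true := by decide +kernel
theorem b554 : allR chk 9 554 = true := by decide +kernel
theorem b555 : allR chk 9 555 = true := by decide +kernel
theorem b556 : allR chk 9 556 = true := by decide +kernel
theorem b557 : allR chk 9 557 = true := by decide +kernel
theorem b558 : allR chk 9 558 = true := by decide +kernel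
theorem b559 : allR chk 9 559 = true := by decide +kernel
theorem b560 : allR chk 9 560 = true := by decide +kernel
theorem b561 : allR chk 9 561 = true := by decide +kernel
theorem b562 : allR chk 9 562 = true := by decide +kernel
theorem b563 : allR chk 9 563 = true := by decide +kernel
theorem b564 : allR chk 9 564 = true := by decide +kernel
theorem b565 : allR chk 9 565 = true := by decide +kernel
theorem b566 : allR chk 9 566 = true := by decide +kernel
theorem b567 : allR chk 9 567 = true := by decide +kernel
theorem b568 : allR chk 9 568 = true := by decide +kernel
theorem b569 : allR chk 9 569 = true := by decide +kernel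
theorem b570 : allR chk 9 570 = true := by decide +kernel
theorem b571 : allR chk 9 571 = true := by decide +kernel
theorem b572 : allR chk 9 572 = true := by decide +kernel
theorem b573 : allR chk 9 573 = true := by decide +kernel
theorem b574 : allR chk 9 574 = true := by decide +kernel

end Cfsg.Agent.L0.Fi24Cov3
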