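import Cfsg.Agent.L0.Fi24.Cov3T

/-! Generated checks. -/

set_option autoImplicit false
set_option maxRecDepth 100000

namespace Cfsg.Agent.L0.Fi24Cov3

theorem b100 : allR chk 9 100 = true := by decide +kernel
theorem b101 : allR chk 9 101 = true := by decide +kernel
theorem b102 : allR chk 9 102 = true := by decide +kernel
theorem b103 : allR chk 9 103 = true := by decide +kernel
theorem b104 : allR chk 9 104 = true := by decide +kernel
theorem b105 : allR chk 9 105 = true := by decide +kernel
theorem b106 : allR chk 9 106 = true := by decide +kernel
theorem b107 : allR chk 9 107 = true := by decide +kernel
theorem b108 : allR chk 9 108 = true := by decide +kernel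
theorem b109 : allR chk 9 109 = true := by decide +kernel
theorem b110 : allR chk 9 110 = true := by decide +kernel
theorem b111 : allR chk 9 111 = true := by decide +kernel
theorem b112 : allR chk 9 112 = true := by decide +kernel
theorem b113 : allR chk 9 113 = true := by decide +kernel
theorem b114 : allR chk 9 114 = true := by decide +kernel
theorem b115 : allR chk 9 115 = true := by decide +kernel
theorem b116 : allR chk 9 116 = true := by decide +kernel
theorem b117 : allR chk 9 117 = true := by decide +kernel
theorem b118 : allR chk 9 118 = true := by decide +kernel
theorem b119 : allR chk 9 119 = true := by decide +kernel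
theorem b120 : allR chk 9 120 = true := by decide +kernel
theorem b121 : allR chk 9 121 = true := by decide +kernel
theorem b122 : allR chk 9 122 = true := by decide +kernel
theorem b123 : allR chk 9 123 = true := by decide +kernel
theorem b124 : allR chk 9 124 = true := by decide +kernel

end Cfsg.Agent.L0.Fi24Cov3
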