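import Cfsg.Agent.L0.Fi24.Cov3T

/-! Generated checks. -/

set_option autoImplicit false
set_option maxRecDepth 100000

namespace Cfsg.Agent.L0.Fi24Cov3

theorem b125 : allR chk 9 125 = true := by decide +kernel
theorem b126 : allR chk 9 126 = true := by decide +kernel
theorem b127 : allR chk 9 127 = true := by decide +kernel
theorem b128 : allR chk 9 128 = true := by decide +kernel
theorem b129 : allR chk 9 129 = true := by decide +kernel
theorem b130 : allR chk 9 130 = true := by decide +kernel
theorem b131 : allR chk 9 131 = true := by decide +kernel
theorem b132 : allR chk 9 132 = true := by decide +kernel
theorem b133 : allR chk 9 133 = true := by decide +kernel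
theorem b134 : allR chk 9 134 = true := by decide +kernel
theorem b135 : allR chk 9 135 = true := by decide +kernel
theorem b136 : allR chk 9 136 = true := by decide +kernel
theorem b137 : allR chk 9 137 = true := by decide +kernel
theorem b138 : allR chk 9 138 = true := by decide +kernel
theorem b139 : allR chk 9 139 = true := by decide +kernel
theorem b140 : allR chk 9 140 = true := by decide +kernel
theorem b141 : allR chk 9 141 = true := by decide +kernel
theorem b142 : allR chk 9 142 = true := by decide +kernel
theorem b143 : allR chk 9 143 = true := by decide +kernel
theorem b144 : allR chk 9 144 = true := by decide +kernel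
theorem b145 : allR chk 9 145 = true := by decide +kernel
theorem b146 : allR chk 9 146 = true := by decide +kernel
theorem b147 : allR chk 9 147 = true := by decide +kernel
theorem b148 : allR chk 9 148 = true := by decide +kernel
theorem b149 : allR chk 9 149 = true := by decide +kernel

end Cfsg.Agent.L0.Fi24Cov3
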