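import Cfsg.Agent.L0.Fi24.Cov3T

/-! Generated checks. -/

set_option autoImplicit false
set_option maxRecDepth 100000

namespace Cfsg.Agent.L0.Fi24Cov3

theorem b150 : allR chk 9 150 = true := by decide +kernel
theorem b151 : allR chk 9 151 = true := by decide +kernel
theorem b152 : allR chk 9 152 = true := by decide +kernel
theorem b153 : allR chk 9 153 = true := by decide +kernel
theorem b154 : allR chk 9 154 = true := by decide +kernel
theorem b155 : allR chk 9 155 = true := by decide +kernel
theorem b156 : allR chk 9 156 = true := by decide +kernel
theorem b157 : allR chk 9 157 = true := by decide +kernel
theorem b158 : allR chk 9 158 = true := by decide +kernel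
theorem b159 : allR chk 9 159 = true := by decide +kernel
theorem b160 : allR chk 9 160 = true := by decide +kernel
theorem b161 : allR chk 9 161 = true := by decide +kernel
theorem b162 : allR chk 9 162 = true := by decide +kernel
theorem b163 : allR chk 9 163 = true := by decide +kernel
theorem b164 : allR chk 9 164 = true := by decide +kernel
theorem b165 : allR chk 9 165 = true := by decide +kernel
theorem b166 : allR chk 9 166 = true := by decide +kernel
theorem b167 : allR chk 9 167 = true := by decide +kernel
theorem b168 : allR chk 9 168 = true := by decide +kernel
theorem b169 : allR chk 9 169 = true := by decide +kernel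
theorem b170 : allR chk 9 170 = true := by decide +kernel
theorem b171 : allR chk 9 171 = true := by decide +kernel
theorem b172 : allR chk 9 172 = true := by decide +kernel
theorem b173 : allR chk 9 173 = true := by decide +kernel
theorem b174 : allR chk 9 174 = true := by decide +kernel

end Cfsg.Agent.L0.Fi24Cov3
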