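import Cfsg.Agent.L0.Fi24.Cov3T

/-! Generated checks. -/

set_option autoImplicit false
set_option maxRecDepth 100000

namespace Cfsg.Agent.L0.Fi24Cov3

theorem b200 : allR chk 9 200 = true := by decide +kernel
theorem b201 : allR chk 9 201 = true := by decide +kernel
theorem b202 : allR chk 9 202 = true := by decide +kernel
theorem b203 : allR chk 9 203 = true := by decide +kernel
theorem b204 : allR chk 9 204 = true := by decide +kernel
theorem b205 : allR chk 9 205 = true := by decide +kernel
theorem b206 : allR chk 9 206 = true := by decide +kernel
theorem b207 : allR chk 9 207 = true := by decide +kernel
theorem b208 : allR chk 9 208 = true := by decide +kernel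
theorem b209 : allR chk 9 209 = true := by decide +kernel
theorem b210 : allR chk 9 210 = true := by decide +kernel
theorem b211 : allR chk 9 211 = true := by decide +kernel
theorem b212 : allR chk 9 212 = true := by decide +kernel
theorem b213 : allR chk 9 213 = true := by decide +kernel
theorem b214 : allR chk 9 214 = true := by decide +kernel
theorem b215 : allR chk 9 215 = true := by decide +kernel
theorem b216 : allR chk 9 216 = true := by decide +kernel
theorem b217 : allR chk 9 217 = true := by decide +kernel
theorem b218 : allR chk 9 218 = true := by decide +kernel
theorem b219 : allR chk 9 219 = true := by decide +kernel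
theorem b220 : allR chk 9 220 = true := by decide +kernel
theorem b221 : allR chk 9 221 = true := by decide +kernel
theorem b222 : allR chk 9 222 = true := by decide +kernel
theorem b223 : allR chk 9 223 = true := by decide +kernel
theorem b224 : allR chk 9 224 = true := by decide +kernel

end Cfsg.Agent.L0.Fi24Cov3
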