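import Cfsg.Agent.L0.Fi24.Cov3T

/-! Generated checks. -/

set_option autoImplicit false
set_option maxRecDepth 100000

namespace Cfsg.Agent.L0.Fi24Cov3

theorem b225 : allR chk 9 225 = true := by decide +kernel
theorem b226 : allR chk 9 226 = true := by decide +kernel
theorem b227 : allR chk 9 227 = true := by decide +kernel
theorem b228 : allR chk 9 228 = true := by decide +kernel
theorem b229 : allR chk 9 229 = true := by decide +kernel
theorem b230 : allR chk 9 230 = true := by decide +kernel
theorem b231 : allR chk 9 231 = true := by decide +kernel
theorem b232 : allR chk 9 232 = true := by decide +kernel
theorem b233 : allR chk 9 233 = true := by decide +kernel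
theorem b234 : allR chk 9 234 = true := by decide +kernel
theorem b235 : allR chk 9 235 = true := by decide +kernel
theorem b236 : allR chk 9 236 = true := by decide +kernel
theorem b237 : allR chk 9 237 = true := by decide +kernel
theorem b238 : allR chk 9 238 = true := by decide +kernel
theorem b239 : allR chk 9 239 = true := by decide +kernel
theorem b240 : allR chk 9 240 = true := by decide +kernel
theorem b241 : allR chk 9 241 = true := by decide +kernel
theorem b242 : allR chk 9 242 = true := by decide +kernel
theorem b243 : allR chk 9 243 = true := by decide +kernel
theorem b244 : allR chk 9 244 = true := by decide +kernel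
theorem b245 : allR chk 9 245 = true := by decide +kernel
theorem b246 : allR chk 9 246 = true := by decide +kernel
theorem b247 : allR chk 9 247 = true := by decide +kernel
theorem b248 : allR chk 9 248 = true := by decide +kernel
theorem b249 : allR chk 9 249 = true := by decide +kernel

end Cfsg.Agent.L0.Fi24Cov3
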