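import Cfsg.Agent.L0.Fi24.Cov3C0
import Cfsg.Agent.L0.Fi24.Cov3C1
import Cfsg.Agent.L0.Fi24.Cov3C2
import Cfsg.Agent.L0.Fi24.Cov3C3
import Cfsg.Agent.L0.Fi24.Cov3C4
import Cfsg.Agent.L0.Fi24.Cov3C5
import Cfsg.Agent.L0.Fi24.Cov3C6
import Cfsg.Agent.L0.Fi24.Cov3C7
import Cfsg.Agent.L0.Fi24.Cov3C8
import Cfsg.Agent.L0.Fi24.Cov3C9
import Cfsg.Agent.L0.Fi24.Cov3C10
import Cfsg.Agent.L0.Fi24.Cov3C11
import Cfsg.Agent.L0.Fi24.Cov3C12
import Cfsg.Agent.L0.Fi24.Cov3C13
import Cfsg.Agent.L0.Fi24.Cov3C14
import Cfsg.Agent.L0.Fi24.Cov3C15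
import Cfsg.Agent.L0.Fi24.Cov3C16
import Cfsg.Agent.L0.Fi24.Cov3C17
import Cfsg.Agent.L0.Fi24.Cov3C18
import Cfsg.Agent.L0.Fi24.Cov3C19
import Cfsg.Agent.L0.Fi24.Cov3C20
import Cfsg.Agent.L0.Fi24.Cov3C21
import Cfsg.Agent.L0.Fi24.Cov3C22
import Cfsg.Agent.L0.Fi24.Cov3C23

/-! Generated action table. -/

set_option autoImplicit false
set_option maxRecDepth 100000

namespace Cfsg.Agent.L0.Fi24Cov3

theorem a50 : ∀ j < 50, allR chk 9 j = true := (forall_lt_succ' (forall_lt_succ' (forall_lt_succ' (forall_lt_succ' (forall_lt_succ' (forall_lt_succ' (forall_lt_succ' (forall_lt_succ' (forall_lt_succ' (forall_lt_succ' (forall_lt_succ' (forall_lt_succ' (forall_lt_succ' (forall_lt_succ' (forall_lt_succ' (forall_lt_succ' (forall_lt_succ' (forall_lt_succ' (forall_lt_succ' (forall_lt_succ' (forall_lt_succ' (forall_lt_succ' (forall_lt_succ' (forall_lt_succ' (forall_lt_succ' (forall_lt_succ' (forall_lt_succ' (forall_lt_succ' (forall_lt_succ' (forall_lt_succ' (forall_lt_succ' (forall_lt_succ' (forall_lt_succ' (forall_lt_succ' (forall_lt_succ'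 (forall_lt_succ' (forall_lt_succ' (forall_lt_succ' (forall_lt_succ' (forall_lt_succ' (forall_lt_succ' (forall_lt_succ' (forall_lt_succ' (forall_lt_succ' (forall_lt_succ' (forall_lt_succ' (forall_lt_succ' (forall_lt_succ' (forall_lt_succ' (forall_lt_succ' forall_lt_zero' b0) b1) b2) b3) b4) b5) b6) b7) b8) b9) b10) b11) b12) b13) b14) b15) b16) b17) b18) b19) b20) b21) b22) b23) b24) b25) b26) b27) b28) b29) b30) b31) b32) b33) b34) b35) b36) b37) b38) b39) b40) b41) b42) b43) b44) b45) b46) b47) b48) b49)
theorem a100 : ∀ j < 100, allR chk 9 j = true := (forall_lt_succ' (forall_lt_succ' (forall_lt_succ' (forall_lt_succ' (forall_lt_succ' (forall_lt_succ' (forall_lt_succ' (forall_lt_succ' (forall_lt_succ' (forall_lt_succ' (forall_lt_succ' (forall_lt_succ' (forall_lt_succ' (forall_lt_succ' (forall_lt_succ' (forall_lt_succ' (forall_lt_succ' (forall_lt_succ' (forall_lt_succ' (forall_lt_succ' (forall_lt_succ' (forall_lt_succ' (forall_lt_succ' (forall_lt_succ' (forall_lt_succ' (forall_lt_succ' (forall_lt_succ' (forall_lt_succ'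 (forall_lt_succ' (forall_lt_succ' (forall_lt_succ' (forall_lt_succ' (forall_lt_succ' (forall_lt_succ' (forall_lt_succ' (forall_lt_succ' (forall_lt_succ' (forall_lt_succ' (forall_lt_succ' (forall_lt_succ' (forall_lt_succ' (forall_lt_succ' (forall_lt_succ' (forall_lt_succ' (forall_lt_succ' (forall_lt_succ' (forall_lt_succ' (forall_lt_succ' (forall_lt_succ' (forall_lt_succ' a50 b50) b51) b52) b53) b54) b55) b56) b57) b58) b59) b60) b61) b62) b63) b64) b65) b66) b67) b68) b69) b70) b71) b72) b73) b74) b75) b76) b77) b78) b79) b80) b81) b82) b83) b84) b85) b86) b87) b88) b89) b90) b91) b92) b93) b94) b95) b96) b97) b98) b99)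
theorem a150 : ∀ j < 150, allR chk 9 j = true := (forall_lt_succ' (forall_lt_succ' (forall_lt_succ' (forall_lt_succ' (forall_lt_succ' (forall_lt_succ' (forall_lt_succ' (forall_lt_succ' (forall_lt_succ' (forall_lt_succ' (forall_lt_succ' (forall_lt_succ' (forall_lt_succ' (forall_lt_succ' (forall_lt_succ' (forall_lt_succ' (forall_lt_succ' (forall_lt_succ' (forall_lt_succ' (forall_lt_succ' (forall_lt_succ' (forall_lt_succ' (forall_lt_succ' (forall_lt_succ' (forall_lt_succ' (forall_lt_succ' (forall_lt_succ' (forall_lt_succ' (forall_lt_succ' (forall_lt_succ' (forall_lt_succ' (forall_lt_succ' (forall_lt_succ' (forall_lt_succ' (forall_lt_succ' (forall_lt_succ' (forall_lt_succ' (forall_lt_succ' (forall_lt_succ' (forall_lt_succ' (forall_lt_succ' (forall_lt_succ' (forall_lt_succ' (forall_lt_succ' (forall_lt_succ' (forall_lt_succ' (forall_lt_succ' (forall_lt_succ' (forall_lt_succ' (forall_lt_succ' a100 b100) b101) b102) b103) b104) b105) b106) b107) b108) b109) b110) b111) b112) b113) b114) b115) b116) b117) b118) b119) b120) b121)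 b122) b123) b124) b125) b126) b127) b128) b129) b130) b131) b132) b133) b134) b135) b136) b137) b138) b139) b140) b141) b142) b143) b144) b145) b146) b147) b148) b149)
theorem a200 : ∀ j < 200, allR chk 9 j = true := (forall_lt_succ' (forall_lt_succ' (forall_lt_succ' (forall_lt_succ' (forall_lt_succ' (forall_lt_succ' (forall_lt_succ' (forall_lt_succ' (forall_lt_succ' (forall_lt_succ' (forall_lt_succ' (forall_lt_succ' (forall_lt_succ' (forall_lt_succ' (forall_lt_succ' (forall_lt_succ' (forall_lt_succ' (forall_lt_succ' (forall_lt_succ' (forall_lt_succ' (forall_lt_succ' (forall_lt_succ' (forall_lt_succ' (forall_lt_succ' (forall_lt_succ' (forall_lt_succ' (forall_lt_succ' (forall_lt_succ' (forall_lt_succ' (forall_lt_succ' (forall_lt_succ' (forall_lt_succ' (forall_lt_succ' (forall_lt_succ' (forall_lt_succ' (forall_lt_succ' (forall_lt_succ' (forall_lt_succ' (forall_lt_succ' (forall_lt_succ' (forall_lt_succ' (forall_lt_succ' (forall_lt_succ' (forall_lt_succ' (forall_lt_succ' (forall_lt_succ' (forall_lt_succ' (forall_lt_succ'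 (forall_lt_succ' (forall_lt_succ' a150 b150) b151) b152) b153) b154) b155) b156) b157) b158) b159) b160) b161) b162) b163) b164) b165) b166) b167) b168) b169) b170) b171) b172) b173) b174) b175) b176) b177) b178) b179) b180) b181) b182) b183) b184) b185) b186) b187) b188) b189) b190) b191) b192) b193) b194) b195) b196) b197) b198) b199)
theorem a250 : ∀ j < 250, allR chk 9 j = true := (forall_lt_succ' (forall_lt_succ' (forall_lt_succ' (forall_lt_succ' (forall_lt_succ' (forall_lt_succ' (forall_lt_succ' (forall_lt_succ' (forall_lt_succ' (forall_lt_succ' (forall_lt_succ' (forall_lt_succ' (forall_lt_succ' (forall_lt_succ' (forall_lt_succ' (forall_lt_succ' (forall_lt_succ' (forall_lt_succ' (forall_lt_succ' (forall_lt_succ' (forall_lt_succ' (forall_lt_succ' (forall_lt_succ' (forall_lt_succ' (forall_lt_succ' (forall_lt_succ' (forall_lt_succ' (forall_lt_succ' (forall_lt_succ' (forall_lt_succ' (forall_lt_succ' (forall_lt_succ' (forall_lt_succ' (forall_lt_succ' (forall_lt_succ' (forall_lt_succ' (forall_lt_succ' (forall_lt_succ'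 (forall_lt_succ' (forall_lt_succ' (forall_lt_succ' (forall_lt_succ' (forall_lt_succ' (forall_lt_succ' (forall_lt_succ' (forall_lt_succ' (forall_lt_succ' (forall_lt_succ' (forall_lt_succ' (forall_lt_succ' a200 b200) b201) b202) b203) b204) b205) b206) b207) b208) b209) b210) b211) b212) b213) b214) b215) b216) b217) b218) b219) b220) b221) b222) b223) b224) b225) b226) b227) b228) b229) b230) b231) b232) b233) b234) b235) b236) b237) b238) b239) b240) b241) b242) b243) b244) b245) b246) b247) b248) b249)
theorem a300 : ∀ j < 300, allR chk 9 j = true := (forall_lt_succ' (forall_lt_succ' (forall_lt_succ' (forall_lt_succ' (forall_lt_succ' (forall_lt_succ' (forall_lt_succ' (forall_lt_succ' (forall_lt_succ' (forall_lt_succ' (forall_lt_succ' (forall_lt_succ' (forall_lt_succ' (forall_lt_succ' (forall_lt_succ' (forall_lt_succ' (forall_lt_succ' (forall_lt_succ' (forall_lt_succ' (forall_lt_succ' (forall_lt_succ' (forall_lt_succ' (forall_lt_succ' (forall_lt_succ' (forall_lt_succ' (forall_lt_succ' (forall_lt_succ' (forall_lt_succ'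 (forall_lt_succ' (forall_lt_succ' (forall_lt_succ' (forall_lt_succ' (forall_lt_succ' (forall_lt_succ' (forall_lt_succ' (forall_lt_succ' (forall_lt_succ' (forall_lt_succ' (forall_lt_succ' (forall_lt_succ' (forall_lt_succ' (forall_lt_succ' (forall_lt_succ' (forall_lt_succ' (forall_lt_succ' (forall_lt_succ' (forall_lt_succ' (forall_lt_succ' (forall_lt_succ' (forall_lt_succ' a250 b250) b251) b252) b253) b254) b255) b256) b257) b258) b259) b260) b261) b262) b263) b264) b265) b266) b267) b268) b269) b270) b271) b272) b273) b274) b275) b276) b277) b278) b279) b280) b281) b282) b283) b284) b285) b286) b287) b288) b289) b290) b291) b292) b293) b294) b295) b296) b297) b298) b299)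
theorem a350 : ∀ j < 350, allR chk 9 j = true := (forall_lt_succ' (forall_lt_succ' (forall_lt_succ' (forall_lt_succ' (forall_lt_succ' (forall_lt_succ' (forall_lt_succ' (forall_lt_succ' (forall_lt_succ' (forall_lt_succ' (forall_lt_succ' (forall_lt_succ' (forall_lt_succ' (forall_lt_succ' (forall_lt_succ' (forall_lt_succ' (forall_lt_succ' (forall_lt_succ' (forall_lt_succ' (forall_lt_succ' (forall_lt_succ' (forall_lt_succ' (forall_lt_succ' (forall_lt_succ' (forall_lt_succ' (forall_lt_succ' (forall_lt_succ' (forall_lt_succ' (forall_lt_succ' (forall_lt_succ' (forall_lt_succ' (forall_lt_succ' (forall_lt_succ' (forall_lt_succ' (forall_lt_succ' (forall_lt_succ' (forall_lt_succ' (forall_lt_succ' (forall_lt_succ' (forall_lt_succ' (forall_lt_succ' (forall_lt_succ' (forall_lt_succ' (forall_lt_succ' (forall_lt_succ' (forall_lt_succ' (forall_lt_succ' (forall_lt_succ' (forall_lt_succ' (forall_lt_succ' a300 b300) b301) b302) b303) b304) b305) b306) b307) b308) b309) b310) b311) b312) b313) b314) b315) b316) b317) b318) b319) b320) b321)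 b322) b323) b324) b325) b326) b327) b328) b329) b330) b331) b332) b333) b334) b335) b336) b337) b338) b339) b340) b341) b342) b343) b344) b345) b346) b347) b348) b349)
theorem a400 : ∀ j < 400, allR chk 9 j = true := (forall_lt_succ' (forall_lt_succ' (forall_lt_succ' (forall_lt_succ' (forall_lt_succ' (forall_lt_succ' (forall_lt_succ' (forall_lt_succ' (forall_lt_succ' (forall_lt_succ' (forall_lt_succ' (forall_lt_succ' (forall_lt_succ' (forall_lt_succ' (forall_lt_succ' (forall_lt_succ' (forall_lt_succ' (forall_lt_succ' (forall_lt_succ' (forall_lt_succ' (forall_lt_succ' (forall_lt_succ' (forall_lt_succ' (forall_lt_succ' (forall_lt_succ' (forall_lt_succ' (forall_lt_succ' (forall_lt_succ' (forall_lt_succ' (forall_lt_succ' (forall_lt_succ' (forall_lt_succ' (forall_lt_succ' (forall_lt_succ' (forall_lt_succ' (forall_lt_succ' (forall_lt_succ' (forall_lt_succ' (forall_lt_succ' (forall_lt_succ' (forall_lt_succ' (forall_lt_succ' (forall_lt_succ' (forall_lt_succ' (forall_lt_succ' (forall_lt_succ' (forall_lt_succ' (forall_lt_succ'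 (forall_lt_succ' (forall_lt_succ' a350 b350) b351) b352) b353) b354) b355) b356) b357) b358) b359) b360) b361) b362) b363) b364) b365) b366) b367) b368) b369) b370) b371) b372) b373) b374) b375) b376) b377) b378) b379) b380) b381) b382) b383) b384) b385) b386) b387) b388) b389) b390) b391) b392) b393) b394) b395) b396) b397) b398) b399)
theorem a450 : ∀ j < 450, allR chk 9 j = true := (forall_lt_succ' (forall_lt_succ' (forall_lt_succ' (forall_lt_succ' (forall_lt_succ' (forall_lt_succ' (forall_lt_succ' (forall_lt_succ' (forall_lt_succ' (forall_lt_succ' (forall_lt_succ' (forall_lt_succ' (forall_lt_succ' (forall_lt_succ' (forall_lt_succ' (forall_lt_succ' (forall_lt_succ' (forall_lt_succ' (forall_lt_succ' (forall_lt_succ' (forall_lt_succ' (forall_lt_succ' (forall_lt_succ' (forall_lt_succ' (forall_lt_succ' (forall_lt_succ' (forall_lt_succ' (forall_lt_succ' (forall_lt_succ' (forall_lt_succ' (forall_lt_succ' (forall_lt_succ' (forall_lt_succ' (forall_lt_succ' (forall_lt_succ' (forall_lt_succ' (forall_lt_succ' (forall_lt_succ'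 (forall_lt_succ' (forall_lt_succ' (forall_lt_succ' (forall_lt_succ' (forall_lt_succ' (forall_lt_succ' (forall_lt_succ' (forall_lt_succ' (forall_lt_succ' (forall_lt_succ' (forall_lt_succ' (forall_lt_succ' a400 b400) b401) b402) b403) b404) b405) b406) b407) b408) b409) b410) b411) b412) b413) b414) b415) b416) b417) b418) b419) b420) b421) b422) b423) b424) b425) b426) b427) b428) b429) b430) b431) b432) b433) b434) b435) b436) b437) b438) b439) b440) b441) b442) b443) b444) b445) b446) b447) b448) b449)
theorem a500 : ∀ j < 500, allR chk 9 j = true := (forall_lt_succ' (forall_lt_succ' (forall_lt_succ' (forall_lt_succ' (forall_lt_succ' (forall_lt_succ' (forall_lt_succ' (forall_lt_succ' (forall_lt_succ' (forall_lt_succ' (forall_lt_succ' (forall_lt_succ' (forall_lt_succ' (forall_lt_succ' (forall_lt_succ' (forall_lt_succ' (forall_lt_succ' (forall_lt_succ' (forall_lt_succ' (forall_lt_succ' (forall_lt_succ' (forall_lt_succ' (forall_lt_succ' (forall_lt_succ' (forall_lt_succ' (forall_lt_succ' (forall_lt_succ' (forall_lt_succ'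 (forall_lt_succ' (forall_lt_succ' (forall_lt_succ' (forall_lt_succ' (forall_lt_succ' (forall_lt_succ' (forall_lt_succ' (forall_lt_succ' (forall_lt_succ' (forall_lt_succ' (forall_lt_succ' (forall_lt_succ' (forall_lt_succ' (forall_lt_succ' (forall_lt_succ' (forall_lt_succ' (forall_lt_succ' (forall_lt_succ' (forall_lt_succ' (forall_lt_succ' (forall_lt_succ' (forall_lt_succ' a450 b450) b451) b452) b453) b454) b455) b456) b457) b458) b459) b460) b461) b462) b463) b464) b465) b466) b467) b468) b469) b470) b471) b472) b473) b474) b475) b476) b477) b478) b479) b480) b481) b482) b483) b484) b485) b486) b487) b488) b489) b490) b491) b492) b493) b494) b495) b496) b497) b498) b499)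
theorem a550 : ∀ j < 550, allR chk 9 j = true := (forall_lt_succ' (forall_lt_succ' (forall_lt_succ' (forall_lt_succ' (forall_lt_succ' (forall_lt_succ' (forall_lt_succ' (forall_lt_succ' (forall_lt_succ' (forall_lt_succ' (forall_lt_succ' (forall_lt_succ' (forall_lt_succ' (forall_lt_succ' (forall_lt_succ' (forall_lt_succ' (forall_lt_succ' (forall_lt_succ' (forall_lt_succ' (forall_lt_succ' (forall_lt_succ' (forall_lt_succ' (forall_lt_succ' (forall_lt_succ' (forall_lt_succ' (forall_lt_succ' (forall_lt_succ' (forall_lt_succ' (forall_lt_succ' (forall_lt_succ' (forall_lt_succ' (forall_lt_succ' (forall_lt_succ' (forall_lt_succ' (forall_lt_succ' (forall_lt_succ' (forall_lt_succ' (forall_lt_succ' (forall_lt_succ' (forall_lt_succ' (forall_lt_succ' (forall_lt_succ' (forall_lt_succ' (forall_lt_succ' (forall_lt_succ' (forall_lt_succ' (forall_lt_succ' (forall_lt_succ' (forall_lt_succ' (forall_lt_succ' a500 b500) b501) b502) b503) b504) b505) b506) b507) b508) b509) b510) b511) b512) b513) b514) b515) b516) b517) b518) b519) b520) b521)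 b522) b523) b524) b525) b526) b527) b528) b529) b530) b531) b532) b533) b534) b535) b536) b537) b538) b539) b540) b541) b542) b543) b544) b545) b546) b547) b548) b549)
theorem a600 : ∀ j < 600, allR chk 9 j = true := (forall_lt_succ' (forall_lt_succ' (forall_lt_succ' (forall_lt_succ' (forall_lt_succ' (forall_lt_succ' (forall_lt_succ' (forall_lt_succ' (forall_lt_succ' (forall_lt_succ' (forall_lt_succ' (forall_lt_succ' (forall_lt_succ' (forall_lt_succ' (forall_lt_succ' (forall_lt_succ' (forall_lt_succ' (forall_lt_succ' (forall_lt_succ' (forall_lt_succ' (forall_lt_succ' (forall_lt_succ' (forall_lt_succ' (forall_lt_succ' (forall_lt_succ' (forall_lt_succ' (forall_lt_succ' (forall_lt_succ' (forall_lt_succ' (forall_lt_succ' (forall_lt_succ' (forall_lt_succ' (forall_lt_succ' (forall_lt_succ' (forall_lt_succ' (forall_lt_succ' (forall_lt_succ' (forall_lt_succ' (forall_lt_succ' (forall_lt_succ' (forall_lt_succ' (forall_lt_succ' (forall_lt_succ' (forall_lt_succ' (forall_lt_succ' (forall_lt_succ' (forall_lt_succ' (forall_lt_succ'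 (forall_lt_succ' (forall_lt_succ' a550 b550) b551) b552) b553) b554) b555) b556) b557) b558) b559) b560) b561) b562) b563) b564) b565) b566) b567) b568) b569) b570) b571) b572) b573) b574) b575) b576) b577) b578) b579) b580) b581) b582) b583) b584) b585) b586) b587) b588) b589) b590) b591) b592) b593) b594) b595) b596) b597) b598) b599)
theorem all : ∀ c < 306936, chk c = true := fun c hc =>
  allR_glue (d := 9) (n := 600) a600 c (lt_of_lt_of_le hc (by norm_num))

theorem rep {R : List (List ℕ)} (hR : RL.map Prod.fst = R) :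
    Rep 14 R (ZMod 3) 2 (valL RL 3) :=
  rep_of_chk hR (by norm_num) (by norm_num) (hR ▸ by decide +kernel) (hR ▸ by decide +kernel)
    (hR ▸ by decide +kernel) le_rfl all

end Cfsg.Agent.L0.Fi24Cov3
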