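import Cfsg.Agent.L0.Fi24.Cov3T

/-! Generated checks. -/

set_option autoImplicit false
set_option maxRecDepth 100000

namespace Cfsg.Agent.L0.Fi24Cov3

theorem b375 : allR chk 9 375 = true := by decide +kernel
theorem b376 : allR chk 9 376 = true := by decide +kernel
theorem b377 : allR chk 9 377 = true := by decide +kernel
theorem b378 : allR chk 9 378 = true := by decide +kernel
theorem b379 : allR chk 9 379 = true := by decide +kernel
theorem b380 : allR chk 9 380 = true := by decide +kernel
theorem b381 : allR chk 9 381 = true := by decide +kernel
theorem b382 : allR chk 9 382 = true := by decide +kernel
theorem b383 : allR chk 9 383 = true := by decide +kernel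
theorem b384 : allR chk 9 384 = true := by decide +kernel
theorem b385 : allR chk 9 385 = true := by decide +kernel
theorem b386 : allR chk 9 386 = true := by decide +kernel
theorem b387 : allR chk 9 387 = true := by decide +kernel
theorem b388 : allR chk 9 388 = true := by decide +kernel
theorem b389 : allR chk 9 389 = true := by decide +kernel
theorem b390 : allR chk 9 390 = true := by decide +kernel
theorem b391 : allR chk 9 391 = true := by decide +kernel
theorem b392 : allR chk 9 392 = true := by decide +kernel
theorem b393 : allR chk 9 393 = true := by decide +kernel
theorem b394 : allR chk 9 394 = true := by decide +kernel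
theorem b395 : allR chk 9 395 = true := by decide +kernel
theorem b396 : allR chk 9 396 = true := by decide +kernel
theorem b397 : allR chk 9 397 = true := by decide +kernel
theorem b398 : allR chk 9 398 = true := by decide +kernel
theorem b399 : allR chk 9 399 = true := by decide +kernel

end Cfsg.Agent.L0.Fi24Cov3
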