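import Cfsg.Agent.L0.Fi24.Cov3T
import Cfsg.Agent.L0.ChainT

/-! The tables of the action of Fi24 and of its commutator subgroup. -/

set_option autoImplicit false

namespace Cfsg.Agent.L0.Fi24G

/-- the table of the action on `306936` points -/
noncomputable def T : ℕ → ℕ → ℕ := tgt Fi24Cov3.E (nat_lit 2)

/-- the table of the products of two generators -/
noncomputable def TP : ℕ → ℕ → ℕ := pairT T (nat_lit 12)

end Cfsg.Agent.L0.Fi24G
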