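import Cfsg.Agent.L0.Fi24.Tc1T

/-! Generated checks. -/

set_option autoImplicit false
set_option maxRecDepth 100000

namespace Cfsg.Agent.L0.Fi24Tc1

theorem b440 : allR chk 9 440 = true := by decide +kernel
theorem b441 : allR chk 9 441 = true := by decide +kernel
theorem b442 : allR chk 9 442 = true := by decide +kernel
theorem b443 : allR chk 9 443 = true := by decide +kernel
theorem b444 : allR chk 9 444 = true := by decide +kernel
theorem b445 : allR chk 9 445 = true := by decide +kernel
theorem b446 : allR chk 9 446 = true := by decide +kernel
theorem b447 : allR chk 9 447 = true := by decide +kernel
theorem b448 : allR chk 9 448 = true := by decide +kernel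
theorem b449 : allR chk 9 449 = true := by decide +kernel
theorem b450 : allR chk 9 450 = true := by decide +kernel
theorem b451 : allR chk 9 451 = true := by decide +kernel
theorem b452 : allR chk 9 452 = true := by decide +kernel
theorem b453 : allR chk 9 453 = true := by decide +kernel
theorem b454 : allR chk 9 454 = true := by decide +kernel
theorem b455 : allR chk 9 455 = true := by decide +kernel
theorem b456 : allR chk 9 456 = true := by decide +kernel
theorem b457 : allR chk 9 457 = true := by decide +kernel
theorem b458 : allR chk 9 458 = true := by decide +kernel
theorem b459 : allR chk 9 459 = true := by decide +kernel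
theorem b460 : allR chk 9 460 = true := by decide +kernel
theorem b461 : allR chk 9 461 = true := by decide +kernel
theorem b462 : allR chk 9 462 = true := by decide +kernel
theorem b463 : allR chk 9 463 = true := by decide +kernel
theorem b464 : allR chk 9 464 = true := by decide +kernel
theorem b465 : allR chk 9 465 = true := by decide +kernel
theorem b466 : allR chk 9 466 = true := by decide +kernel
theorem b467 : allR chk 9 467 = true := by decide +kernel
theorem b468 : allR chk 9 468 = true := by decide +kernel
theorem b469 : allR chk 9 469 = true := by decide +kernel
theorem b470 : allR chk 9 470 = true := by decide +kernel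
theorem b471 : allR chk 9 471 = true := by decide +kernel
theorem b472 : allR chk 9 472 = true := by decide +kernel
theorem b473 : allR chk 9 473 = true := by decide +kernel
theorem b474 : allR chk 9 474 = true := by decide +kernel
theorem b475 : allR chk 9 475 = true := by decide +kernel
theorem b476 : allR chk 9 476 = true := by decide +kernel
theorem b477 : allR chk 9 477 = true := by decide +kernel
theorem b478 : allR chk 9 478 = true := by decide +kernel
theorem b479 : allR chk 9 479 = true := by decide +kernel

end Cfsg.Agent.L0.Fi24Tc1
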