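import Cfsg.Agent.L0.Fi24.Tc1T

/-! Generated checks. -/

set_option autoImplicit false
set_option maxRecDepth 100000

namespace Cfsg.Agent.L0.Fi24Tc1

theorem b520 : allR chk 9 520 = true := by decide +kernel
theorem b521 : allR chk 9 521 = true := by decide +kernel
theorem b522 : allR chk 9 522 = true := by decide +kernel
theorem b523 : allR chk 9 523 = true := by decide +kernel
theorem b524 : allR chk 9 524 = true := by decide +kernel
theorem b525 : allR chk 9 525 = true := by decide +kernel
theorem b526 : allR chk 9 526 = true := by decide +kernel
theorem b527 : allR chk 9 527 = true := by decide +kernel
theorem b528 : allR chk 9 528 = true := by decide +kernel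
theorem b529 : allR chk 9 529 = true := by decide +kernel
theorem b530 : allR chk 9 530 = true := by decide +kernel
theorem b531 : allR chk 9 531 = true := by decide +kernel
theorem b532 : allR chk 9 532 = true := by decide +kernel
theorem b533 : allR chk 9 533 = true := by decide +kernel
theorem b534 : allR chk 9 534 = true := by decide +kernel
theorem b535 : allR chk 9 535 = true := by decide +kernel
theorem b536 : allR chk 9 536 = true := by decide +kernel
theorem b537 : allR chk 9 537 = true := by decide +kernel
theorem b538 : allR chk 9 538 = true := by decide +kernel
theorem b539 : allR chk 9 539 = true := by decide +kernel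
theorem b540 : allR chk 9 540 = true := by decide +kernel
theorem b541 : allR chk 9 541 = true := by decide +kernel
theorem b542 : allR chk 9 542 = true := by decide +kernel
theorem b543 : allR chk 9 543 = true := by decide +kernel
theorem b544 : allR chk 9 544 = true := by decide +kernel
theorem b545 : allR chk 9 545 = true := by decide +kernel
theorem b546 : allR chk 9 546 = true := by decide +kernel
theorem b547 : allR chk 9 547 = true := by decide +kernel
theorem b548 : allR chk 9 548 = true := by decide +kernel
theorem b549 : allR chk 9 549 = true := by decide +kernel
theorem b550 : allR chk 9 550 = true := by decide +kernel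
theorem b551 : allR chk 9 551 = true := by decide +kernel
theorem b552 : allR chk 9 552 = true := by decide +kernel
theorem b553 : allR chk 9 553 = true := by decide +kernel
theorem b554 : allR chk 9 554 = true := by decide +kernel
theorem b555 : allR chk 9 555 = true := by decide +kernel
theorem b556 : allR chk 9 556 = true := by decide +kernel
theorem b557 : allR chk 9 557 = true := by decide +kernel
theorem b558 : allR chk 9 558 = true := by decide +kernel
theorem b559 : allR chk 9 559 = true := by decide +kernel

end Cfsg.Agent.L0.Fi24Tc1
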