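import Cfsg.Agent.L0.Fi24.Tc1T

/-! Generated checks. -/

set_option autoImplicit false
set_option maxRecDepth 100000

namespace Cfsg.Agent.L0.Fi24Tc1

theorem b600 : allR chk 9 600 = true := by decide +kernel
theorem b601 : allR chk 9 601 = true := by decide +kernel
theorem b602 : allR chk 9 602 = true := by decide +kernel
theorem b603 : allR chk 9 603 = true := by decide +kernel
theorem b604 : allR chk 9 604 = true := by decide +kernel
theorem b605 : allR chk 9 605 = true := by decide +kernel
theorem b606 : allR chk 9 606 = true := by decide +kernel
theorem b607 : allR chk 9 607 = true := by decide +kernel
theorem b608 : allR chk 9 608 = true := by decide +kernel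
theorem b609 : allR chk 9 609 = true := by decide +kernel
theorem b610 : allR chk 9 610 = true := by decide +kernel
theorem b611 : allR chk 9 611 = true := by decide +kernel
theorem b612 : allR chk 9 612 = true := by decide +kernel
theorem b613 : allR chk 9 613 = true := by decide +kernel
theorem b614 : allR chk 9 614 = true := by decide +kernel
theorem b615 : allR chk 9 615 = true := by decide +kernel
theorem b616 : allR chk 9 616 = true := by decide +kernel
theorem b617 : allR chk 9 617 = true := by decide +kernel
theorem b618 : allR chk 9 618 = true := by decide +kernel
theorem b619 : allR chk 9 619 = true := by decide +kernel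
theorem b620 : allR chk 9 620 = true := by decide +kernel
theorem b621 : allR chk 9 621 = true := by decide +kernel
theorem b622 : allR chk 9 622 = true := by decide +kernel
theorem b623 : allR chk 9 623 = true := by decide +kernel
theorem b624 : allR chk 9 624 = true := by decide +kernel
theorem b625 : allR chk 9 625 = true := by decide +kernel
theorem b626 : allR chk 9 626 = true := by decide +kernel
theorem b627 : allR chk 9 627 = true := by decide +kernel
theorem b628 : allR chk 9 628 = true := by decide +kernel
theorem b629 : allR chk 9 629 = true := by decide +kernel
theorem b630 : allR chk 9 630 = true := by decide +kernel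
theorem b631 : allR chk 9 631 = true := by decide +kernel
theorem b632 : allR chk 9 632 = true := by decide +kernel
theorem b633 : allR chk 9 633 = true := by decide +kernel
theorem b634 : allR chk 9 634 = true := by decide +kernel
theorem b635 : allR chk 9 635 = true := by decide +kernel
theorem b636 : allR chk 9 636 = true := by decide +kernel
theorem b637 : allR chk 9 637 = true := by decide +kernel
theorem b638 : allR chk 9 638 = true := by decide +kernel
theorem b639 : allR chk 9 639 = true := by decide +kernel

end Cfsg.Agent.L0.Fi24Tc1
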