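import Cfsg.Agent.L0.Fi24.Tc1T

/-! Generated checks. -/

set_option autoImplicit false
set_option maxRecDepth 100000

namespace Cfsg.Agent.L0.Fi24Tc1

theorem b640 : allR chk 9 640 = true := by decide +kernel
theorem b641 : allR chk 9 641 = true := by decide +kernel
theorem b642 : allR chk 9 642 = true := by decide +kernel
theorem b643 : allR chk 9 643 = true := by decide +kernel
theorem b644 : allR chk 9 644 = true := by decide +kernel
theorem b645 : allR chk 9 645 = true := by decide +kernel
theorem b646 : allR chk 9 646 = true := by decide +kernel
theorem b647 : allR chk 9 647 = true := by decide +kernel
theorem b648 : allR chk 9 648 = true := by decide +kernel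
theorem b649 : allR chk 9 649 = true := by decide +kernel
theorem b650 : allR chk 9 650 = true := by decide +kernel
theorem b651 : allR chk 9 651 = true := by decide +kernel
theorem b652 : allR chk 9 652 = true := by decide +kernel
theorem b653 : allR chk 9 653 = true := by decide +kernel
theorem b654 : allR chk 9 654 = true := by decide +kernel
theorem b655 : allR chk 9 655 = true := by decide +kernel
theorem b656 : allR chk 9 656 = true := by decide +kernel
theorem b657 : allR chk 9 657 = true := by decide +kernel
theorem b658 : allR chk 9 658 = true := by decide +kernel
theorem b659 : allR chk 9 659 = true := by decide +kernel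
theorem b660 : allR chk 9 660 = true := by decide +kernel
theorem b661 : allR chk 9 661 = true := by decide +kernel
theorem b662 : allR chk 9 662 = true := by decide +kernel
theorem b663 : allR chk 9 663 = true := by decide +kernel
theorem b664 : allR chk 9 664 = true := by decide +kernel
theorem b665 : allR chk 9 665 = true := by decide +kernel
theorem b666 : allR chk 9 666 = true := by decide +kernel
theorem b667 : allR chk 9 667 = true := by decide +kernel
theorem b668 : allR chk 9 668 = true := by decide +kernel
theorem b669 : allR chk 9 669 = true := by decide +kernel
theorem b670 : allR chk 9 670 = true := by decide +kernel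
theorem b671 : allR chk 9 671 = true := by decide +kernel
theorem b672 : allR chk 9 672 = true := by decide +kernel
theorem b673 : allR chk 9 673 = true := by decide +kernel
theorem b674 : allR chk 9 674 = true := by decide +kernel
theorem b675 : allR chk 9 675 = true := by decide +kernel
theorem b676 : allR chk 9 676 = true := by decide +kernel
theorem b677 : allR chk 9 677 = true := by decide +kernel
theorem b678 : allR chk 9 678 = true := by decide +kernel
theorem b679 : allR chk 9 679 = true := by decide +kernel

end Cfsg.Agent.L0.Fi24Tc1
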