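import Cfsg.Agent.L0.Fi24.Tc1T

/-! Generated checks. -/

set_option autoImplicit false
set_option maxRecDepth 100000

namespace Cfsg.Agent.L0.Fi24Tc1

theorem b680 : allR chk 9 680 = true := by decide +kernel
theorem b681 : allR chk 9 681 = true := by decide +kernel
theorem b682 : allR chk 9 682 = true := by decide +kernel
theorem b683 : allR chk 9 683 = true := by decide +kernel
theorem b684 : allR chk 9 684 = true := by decide +kernel
theorem b685 : allR chk 9 685 = true := by decide +kernel
theorem b686 : allR chk 9 686 = true := by decide +kernel
theorem b687 : allR chk 9 687 = true := by decide +kernel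
theorem b688 : allR chk 9 688 = true := by decide +kernel
theorem b689 : allR chk 9 689 = true := by decide +kernel
theorem b690 : allR chk 9 690 = true := by decide +kernel
theorem b691 : allR chk 9 691 = true := by decide +kernel

end Cfsg.Agent.L0.Fi24Tc1
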