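import Cfsg.Agent.L0.Fi24.Tc1T

/-! Generated checks. -/

set_option autoImplicit false
set_option maxRecDepth 100000

namespace Cfsg.Agent.L0.Fi24Tc1

theorem b80 : allR chk 9 80 = true := by decide +kernel
theorem b81 : allR chk 9 81 = true := by decide +kernel
theorem b82 : allR chk 9 82 = true := by decide +kernel
theorem b83 : allR chk 9 83 = true := by decide +kernel
theorem b84 : allR chk 9 84 = true := by decide +kernel
theorem b85 : allR chk 9 85 = true := by decide +kernel
theorem b86 : allR chk 9 86 = true := by decide +kernel
theorem b87 : allR chk 9 87 = true := by decide +kernel
theorem b88 : allR chk 9 88 = true := by decide +kernel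
theorem b89 : allR chk 9 89 = true := by decide +kernel
theorem b90 : allR chk 9 90 = true := by decide +kernel
theorem b91 : allR chk 9 91 = true := by decide +kernel
theorem b92 : allR chk 9 92 = true := by decide +kernel
theorem b93 : allR chk 9 93 = true := by decide +kernel
theorem b94 : allR chk 9 94 = true := by decide +kernel
theorem b95 : allR chk 9 95 = true := by decide +kernel
theorem b96 : allR chk 9 96 = true := by decide +kernel
theorem b97 : allR chk 9 97 = true := by decide +kernel
theorem b98 : allR chk 9 98 = true := by decide +kernel
theorem b99 : allR chk 9 99 = true := by decide +kernel
theorem b100 : allR chk 9 100 = true := by decide +kernel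
theorem b101 : allR chk 9 101 = true := by decide +kernel
theorem b102 : allR chk 9 102 = true := by decide +kernel
theorem b103 : allR chk 9 103 = true := by decide +kernel
theorem b104 : allR chk 9 104 = true := by decide +kernel
theorem b105 : allR chk 9 105 = true := by decide +kernel
theorem b106 : allR chk 9 106 = true := by decide +kernel
theorem b107 : allR chk 9 107 = true := by decide +kernel
theorem b108 : allR chk 9 108 = true := by decide +kernel
theorem b109 : allR chk 9 109 = true := by decide +kernel
theorem b110 : allR chk 9 110 = true := by decide +kernel
theorem b111 : allR chk 9 111 = true := by decide +kernel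
theorem b112 : allR chk 9 112 = true := by decide +kernel
theorem b113 : allR chk 9 113 = true := by decide +kernel
theorem b114 : allR chk 9 114 = true := by decide +kernel
theorem b115 : allR chk 9 115 = true := by decide +kernel
theorem b116 : allR chk 9 116 = true := by decide +kernel
theorem b117 : allR chk 9 117 = true := by decide +kernel
theorem b118 : allR chk 9 118 = true := by decide +kernel
theorem b119 : allR chk 9 119 = true := by decide +kernel

end Cfsg.Agent.L0.Fi24Tc1
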