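import Cfsg.Agent.L0.Fi24.Tc1T

/-! Generated checks. -/

set_option autoImplicit false
set_option maxRecDepth 100000

namespace Cfsg.Agent.L0.Fi24Tc1

theorem b280 : allR chk 9 280 = true := by decide +kernel
theorem b281 : allR chk 9 281 = true := by decide +kernel
theorem b282 : allR chk 9 282 = true := by decide +kernel
theorem b283 : allR chk 9 283 = true := by decide +kernel
theorem b284 : allR chk 9 284 = true := by decide +kernel
theorem b285 : allR chk 9 285 = true := by decide +kernel
theorem b286 : allR chk 9 286 = true := by decide +kernel
theorem b287 : allR chk 9 287 = true := by decide +kernel
theorem b288 : allR chk 9 288 = true := by decide +kernel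
theorem b289 : allR chk 9 289 = true := by decide +kernel
theorem b290 : allR chk 9 290 = true := by decide +kernel
theorem b291 : allR chk 9 291 = true := by decide +kernel
theorem b292 : allR chk 9 292 = true := by decide +kernel
theorem b293 : allR chk 9 293 = true := by decide +kernel
theorem b294 : allR chk 9 294 = true := by decide +kernel
theorem b295 : allR chk 9 295 = true := by decide +kernel
theorem b296 : allR chk 9 296 = true := by decide +kernel
theorem b297 : allR chk 9 297 = true := by decide +kernel
theorem b298 : allR chk 9 298 = true := by decide +kernel
theorem b299 : allR chk 9 299 = true := by decide +kernel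
theorem b300 : allR chk 9 300 = true := by decide +kernel
theorem b301 : allR chk 9 301 = true := by decide +kernel
theorem b302 : allR chk 9 302 = true := by decide +kernel
theorem b303 : allR chk 9 303 = true := by decide +kernel
theorem b304 : allR chk 9 304 = true := by decide +kernel
theorem b305 : allR chk 9 305 = true := by decide +kernel
theorem b306 : allR chk 9 306 = true := by decide +kernel
theorem b307 : allR chk 9 307 = true := by decide +kernel
theorem b308 : allR chk 9 308 = true := by decide +kernel
theorem b309 : allR chk 9 309 = true := by decide +kernel
theorem b310 : allR chk 9 310 = true := by decide +kernel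
theorem b311 : allR chk 9 311 = true := by decide +kernel
theorem b312 : allR chk 9 312 = true := by decide +kernel
theorem b313 : allR chk 9 313 = true := by decide +kernel
theorem b314 : allR chk 9 314 = true := by decide +kernel
theorem b315 : allR chk 9 315 = true := by decide +kernel
theorem b316 : allR chk 9 316 = true := by decide +kernel
theorem b317 : allR chk 9 317 = true := by decide +kernel
theorem b318 : allR chk 9 318 = true := by decide +kernel
theorem b319 : allR chk 9 319 = true := by decide +kernel

end Cfsg.Agent.L0.Fi24Tc1
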