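import Cfsg.Agent.L0.Fi24.Tc1T

/-! Generated checks. -/

set_option autoImplicit false
set_option maxRecDepth 100000

namespace Cfsg.Agent.L0.Fi24Tc1

theorem b360 : allR chk 9 360 = true := by decide +kernel
theorem b361 : allR chk 9 361 = true := by decide +kernel
theorem b362 : allR chk 9 362 = true := by decide +kernel
theorem b363 : allR chk 9 363 = true := by decide +kernel
theorem b364 : allR chk 9 364 = true := by decide +kernel
theorem b365 : allR chk 9 365 = true := by decide +kernel
theorem b366 : allR chk 9 366 = true := by decide +kernel
theorem b367 : allR chk 9 367 = true := by decide +kernel
theorem b368 : allR chk 9 368 = true := by decide +kernel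
theorem b369 : allR chk 9 369 = true := by decide +kernel
theorem b370 : allR chk 9 370 = true := by decide +kernel
theorem b371 : allR chk 9 371 = true := by decide +kernel
theorem b372 : allR chk 9 372 = true := by decide +kernel
theorem b373 : allR chk 9 373 = true := by decide +kernel
theorem b374 : allR chk 9 374 = true := by decide +kernel
theorem b375 : allR chk 9 375 = true := by decide +kernel
theorem b376 : allR chk 9 376 = true := by decide +kernel
theorem b377 : allR chk 9 377 = true := by decide +kernel
theorem b378 : allR chk 9 378 = true := by decide +kernel
theorem b379 : allR chk 9 379 = true := by decide +kernel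
theorem b380 : allR chk 9 380 = true := by decide +kernel
theorem b381 : allR chk 9 381 = true := by decide +kernel
theorem b382 : allR chk 9 382 = true := by decide +kernel
theorem b383 : allR chk 9 383 = true := by decide +kernel
theorem b384 : allR chk 9 384 = true := by decide +kernel
theorem b385 : allR chk 9 385 = true := by decide +kernel
theorem b386 : allR chk 9 386 = true := by decide +kernel
theorem b387 : allR chk 9 387 = true := by decide +kernel
theorem b388 : allR chk 9 388 = true := by decide +kernel
theorem b389 : allR chk 9 389 = true := by decide +kernel
theorem b390 : allR chk 9 390 = true := by decide +kernel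
theorem b391 : allR chk 9 391 = true := by decide +kernel
theorem b392 : allR chk 9 392 = true := by decide +kernel
theorem b393 : allR chk 9 393 = true := by decide +kernel
theorem b394 : allR chk 9 394 = true := by decide +kernel
theorem b395 : allR chk 9 395 = true := by decide +kernel
theorem b396 : allR chk 9 396 = true := by decide +kernel
theorem b397 : allR chk 9 397 = true := by decide +kernel
theorem b398 : allR chk 9 398 = true := by decide +kernel
theorem b399 : allR chk 9 399 = true := by decide +kernel

end Cfsg.Agent.L0.Fi24Tc1
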