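import Cfsg.Agent.L0.Fi24.Tc1C0
import Cfsg.Agent.L0.Fi24.Tc1C1
import Cfsg.Agent.L0.Fi24.Tc1C2
import Cfsg.Agent.L0.Fi24.Tc1C3
import Cfsg.Agent.L0.Fi24.Tc1C4
import Cfsg.Agent.L0.Fi24.Tc1C5
import Cfsg.Agent.L0.Fi24.Tc1C6
import Cfsg.Agent.L0.Fi24.Tc1C7
import Cfsg.Agent.L0.Fi24.Tc1C8
import Cfsg.Agent.L0.Fi24.Tc1C9
import Cfsg.Agent.L0.Fi24.Tc1C10
import Cfsg.Agent.L0.Fi24.Tc1C11
import Cfsg.Agent.L0.Fi24.Tc1C12
import Cfsg.Agent.L0.Fi24.Tc1C13
import Cfsg.Agent.L0.Fi24.Tc1C14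
import Cfsg.Agent.L0.Fi24.Tc1C15
import Cfsg.Agent.L0.Fi24.Tc1C16
import Cfsg.Agent.L0.Fi24.Tc1C17

/-! Generated coset table certificate. -/

set_option autoImplicit false
set_option maxRecDepth 100000

namespace Cfsg.Agent.L0.Fi24Tc1

noncomputable def T : CT := ⟨row, nat_lit 354049, nat_lit 306936, nat_lit 0x7ffff, nat_lit 0x7f80000, nat_lit 27, nat_lit 0xff, nat_lit 0, nat_lit 0x7ffff, nat_lit 19, nat_lit 0x1ff, nat_lit 0x3f0000000, nat_lit 454, nat_lit 489, nat_lit 3, nat_lit 238, [], cols, erots, gens⟩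

theorem a50 : ∀ j < 50, allR chk 9 j = true := (forall_lt_succ' (forall_lt_succ' (forall_lt_succ' (forall_lt_succ' (forall_lt_succ' (forall_lt_succ' (forall_lt_succ' (forall_lt_succ' (forall_lt_succ' (forall_lt_succ' (forall_lt_succ' (forall_lt_succ' (forall_lt_succ' (forall_lt_succ' (forall_lt_succ' (forall_lt_succ' (forall_lt_succ' (forall_lt_succ' (forall_lt_succ' (forall_lt_succ' (forall_lt_succ' (forall_lt_succ' (forall_lt_succ' (forall_lt_succ' (forall_lt_succ' (forall_lt_succ' (forall_lt_succ' (forall_lt_succ' (forall_lt_succ' (forall_lt_succ' (forall_lt_succ' (forall_lt_succ' (forall_lt_succ' (forall_lt_succ' (forall_lt_succ' (forall_lt_succ' (forall_lt_succ' (forall_lt_succ' (forall_lt_succ' (forall_lt_succ' (forall_lt_succ' (forall_lt_succ' (forall_lt_succ' (forall_lt_succ' (forall_lt_succ' (forall_lt_succ' (forall_lt_succ' (forall_lt_succ' (forall_lt_succ' (forall_lt_succ' forall_lt_zero' b0) b1) b2) b3) b4) b5) b6) b7) b8) b9) b10) b11)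 b12) b13) b14) b15) b16) b17) b18) b19) b20) b21) b22) b23) b24) b25) b26) b27) b28) b29) b30) b31) b32) b33) b34) b35) b36) b37) b38) b39) b40) b41) b42) b43) b44) b45) b46) b47) b48) b49)
theorem a100 : ∀ j < 100, allR chk 9 j = true := (forall_lt_succ' (forall_lt_succ' (forall_lt_succ' (forall_lt_succ' (forall_lt_succ' (forall_lt_succ' (forall_lt_succ' (forall_lt_succ' (forall_lt_succ' (forall_lt_succ' (forall_lt_succ' (forall_lt_succ' (forall_lt_succ' (forall_lt_succ' (forall_lt_succ' (forall_lt_succ' (forall_lt_succ' (forall_lt_succ' (forall_lt_succ' (forall_lt_succ' (forall_lt_succ' (forall_lt_succ' (forall_lt_succ' (forall_lt_succ' (forall_lt_succ' (forall_lt_succ' (forall_lt_succ' (forall_lt_succ' (forall_lt_succ' (forall_lt_succ' (forall_lt_succ' (forall_lt_succ' (forall_lt_succ' (forall_lt_succ' (forall_lt_succ' (forall_lt_succ' (forall_lt_succ' (forall_lt_succ' (forall_lt_succ' (forall_lt_succ' (forall_lt_succ' (forall_lt_succ' (forall_lt_succ'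 (forall_lt_succ' (forall_lt_succ' (forall_lt_succ' (forall_lt_succ' (forall_lt_succ' (forall_lt_succ' (forall_lt_succ' a50 b50) b51) b52) b53) b54) b55) b56) b57) b58) b59) b60) b61) b62) b63) b64) b65) b66) b67) b68) b69) b70) b71) b72) b73) b74) b75) b76) b77) b78) b79) b80) b81) b82) b83) b84) b85) b86) b87) b88) b89) b90) b91) b92) b93) b94) b95) b96) b97) b98) b99)
theorem a150 : ∀ j < 150, allR chk 9 j = true := (forall_lt_succ' (forall_lt_succ' (forall_lt_succ' (forall_lt_succ' (forall_lt_succ' (forall_lt_succ' (forall_lt_succ' (forall_lt_succ' (forall_lt_succ' (forall_lt_succ' (forall_lt_succ' (forall_lt_succ' (forall_lt_succ' (forall_lt_succ' (forall_lt_succ' (forall_lt_succ' (forall_lt_succ' (forall_lt_succ' (forall_lt_succ' (forall_lt_succ' (forall_lt_succ' (forall_lt_succ' (forall_lt_succ' (forall_lt_succ' (forall_lt_succ' (forall_lt_succ' (forall_lt_succ' (forall_lt_succ' (forall_lt_succ' (forall_lt_succ' (forall_lt_succ' (forall_lt_succ'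 (forall_lt_succ' (forall_lt_succ' (forall_lt_succ' (forall_lt_succ' (forall_lt_succ' (forall_lt_succ' (forall_lt_succ' (forall_lt_succ' (forall_lt_succ' (forall_lt_succ' (forall_lt_succ' (forall_lt_succ' (forall_lt_succ' (forall_lt_succ' (forall_lt_succ' (forall_lt_succ' (forall_lt_succ' (forall_lt_succ' a100 b100) b101) b102) b103) b104) b105) b106) b107) b108) b109) b110) b111) b112) b113) b114) b115) b116) b117) b118) b119) b120) b121) b122) b123) b124) b125) b126) b127) b128) b129) b130) b131) b132) b133) b134) b135) b136) b137) b138) b139) b140) b141) b142) b143) b144) b145) b146) b147) b148) b149)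
theorem a200 : ∀ j < 200, allR chk 9 j = true := (forall_lt_succ' (forall_lt_succ' (forall_lt_succ' (forall_lt_succ' (forall_lt_succ' (forall_lt_succ' (forall_lt_succ' (forall_lt_succ' (forall_lt_succ' (forall_lt_succ' (forall_lt_succ' (forall_lt_succ' (forall_lt_succ' (forall_lt_succ' (forall_lt_succ' (forall_lt_succ' (forall_lt_succ' (forall_lt_succ' (forall_lt_succ' (forall_lt_succ' (forall_lt_succ' (forall_lt_succ' (forall_lt_succ' (forall_lt_succ' (forall_lt_succ' (forall_lt_succ' (forall_lt_succ' (forall_lt_succ' (forall_lt_succ' (forall_lt_succ' (forall_lt_succ' (forall_lt_succ' (forall_lt_succ' (forall_lt_succ' (forall_lt_succ' (forall_lt_succ' (forall_lt_succ' (forall_lt_succ' (forall_lt_succ' (forall_lt_succ' (forall_lt_succ' (forall_lt_succ' (forall_lt_succ' (forall_lt_succ' (forall_lt_succ' (forall_lt_succ' (forall_lt_succ' (forall_lt_succ' (forall_lt_succ' (forall_lt_succ' a150 b150) b151) b152) b153) b154) b155) b156) b157) b158) b159)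 b160) b161) b162) b163) b164) b165) b166) b167) b168) b169) b170) b171) b172) b173) b174) b175) b176) b177) b178) b179) b180) b181) b182) b183) b184) b185) b186) b187) b188) b189) b190) b191) b192) b193) b194) b195) b196) b197) b198) b199)
theorem a250 : ∀ j < 250, allR chk 9 j = true := (forall_lt_succ' (forall_lt_succ' (forall_lt_succ' (forall_lt_succ' (forall_lt_succ' (forall_lt_succ' (forall_lt_succ' (forall_lt_succ' (forall_lt_succ' (forall_lt_succ' (forall_lt_succ' (forall_lt_succ' (forall_lt_succ' (forall_lt_succ' (forall_lt_succ' (forall_lt_succ' (forall_lt_succ' (forall_lt_succ' (forall_lt_succ' (forall_lt_succ' (forall_lt_succ' (forall_lt_succ' (forall_lt_succ' (forall_lt_succ' (forall_lt_succ' (forall_lt_succ' (forall_lt_succ' (forall_lt_succ' (forall_lt_succ' (forall_lt_succ' (forall_lt_succ' (forall_lt_succ' (forall_lt_succ' (forall_lt_succ' (forall_lt_succ' (forall_lt_succ' (forall_lt_succ' (forall_lt_succ' (forall_lt_succ' (forall_lt_succ'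 (forall_lt_succ' (forall_lt_succ' (forall_lt_succ' (forall_lt_succ' (forall_lt_succ' (forall_lt_succ' (forall_lt_succ' (forall_lt_succ' (forall_lt_succ' (forall_lt_succ' a200 b200) b201) b202) b203) b204) b205) b206) b207) b208) b209) b210) b211) b212) b213) b214) b215) b216) b217) b218) b219) b220) b221) b222) b223) b224) b225) b226) b227) b228) b229) b230) b231) b232) b233) b234) b235) b236) b237) b238) b239) b240) b241) b242) b243) b244) b245) b246) b247) b248) b249)
theorem a300 : ∀ j < 300, allR chk 9 j = true := (forall_lt_succ' (forall_lt_succ' (forall_lt_succ' (forall_lt_succ' (forall_lt_succ' (forall_lt_succ' (forall_lt_succ' (forall_lt_succ' (forall_lt_succ' (forall_lt_succ' (forall_lt_succ' (forall_lt_succ' (forall_lt_succ' (forall_lt_succ' (forall_lt_succ' (forall_lt_succ' (forall_lt_succ' (forall_lt_succ' (forall_lt_succ' (forall_lt_succ' (forall_lt_succ' (forall_lt_succ' (forall_lt_succ' (forall_lt_succ' (forall_lt_succ' (forall_lt_succ'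 (forall_lt_succ' (forall_lt_succ' (forall_lt_succ' (forall_lt_succ' (forall_lt_succ' (forall_lt_succ' (forall_lt_succ' (forall_lt_succ' (forall_lt_succ' (forall_lt_succ' (forall_lt_succ' (forall_lt_succ' (forall_lt_succ' (forall_lt_succ' (forall_lt_succ' (forall_lt_succ' (forall_lt_succ' (forall_lt_succ' (forall_lt_succ' (forall_lt_succ' (forall_lt_succ' (forall_lt_succ' (forall_lt_succ' (forall_lt_succ' a250 b250) b251) b252) b253) b254) b255) b256) b257) b258) b259) b260) b261) b262) b263) b264) b265) b266) b267) b268) b269) b270) b271) b272) b273) b274) b275) b276) b277) b278) b279) b280) b281) b282) b283) b284) b285) b286) b287) b288) b289) b290) b291) b292) b293) b294) b295) b296) b297) b298) b299)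
theorem a350 : ∀ j < 350, allR chk 9 j = true := (forall_lt_succ' (forall_lt_succ' (forall_lt_succ' (forall_lt_succ' (forall_lt_succ' (forall_lt_succ' (forall_lt_succ' (forall_lt_succ' (forall_lt_succ' (forall_lt_succ' (forall_lt_succ' (forall_lt_succ' (forall_lt_succ' (forall_lt_succ' (forall_lt_succ' (forall_lt_succ' (forall_lt_succ' (forall_lt_succ' (forall_lt_succ' (forall_lt_succ' (forall_lt_succ' (forall_lt_succ' (forall_lt_succ' (forall_lt_succ' (forall_lt_succ' (forall_lt_succ' (forall_lt_succ' (forall_lt_succ' (forall_lt_succ' (forall_lt_succ' (forall_lt_succ' (forall_lt_succ' (forall_lt_succ' (forall_lt_succ' (forall_lt_succ' (forall_lt_succ' (forall_lt_succ' (forall_lt_succ' (forall_lt_succ' (forall_lt_succ' (forall_lt_succ' (forall_lt_succ' (forall_lt_succ' (forall_lt_succ' (forall_lt_succ' (forall_lt_succ' (forall_lt_succ' (forall_lt_succ' (forall_lt_succ' (forall_lt_succ' a300 b300) b301) b302) b303) b304) b305) b306) b307) b308) b309)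 b310) b311) b312) b313) b314) b315) b316) b317) b318) b319) b320) b321) b322) b323) b324) b325) b326) b327) b328) b329) b330) b331) b332) b333) b334) b335) b336) b337) b338) b339) b340) b341) b342) b343) b344) b345) b346) b347) b348) b349)
theorem a400 : ∀ j < 400, allR chk 9 j = true := (forall_lt_succ' (forall_lt_succ' (forall_lt_succ' (forall_lt_succ' (forall_lt_succ' (forall_lt_succ' (forall_lt_succ' (forall_lt_succ' (forall_lt_succ' (forall_lt_succ' (forall_lt_succ' (forall_lt_succ' (forall_lt_succ' (forall_lt_succ' (forall_lt_succ' (forall_lt_succ' (forall_lt_succ' (forall_lt_succ' (forall_lt_succ' (forall_lt_succ' (forall_lt_succ' (forall_lt_succ' (forall_lt_succ' (forall_lt_succ' (forall_lt_succ' (forall_lt_succ' (forall_lt_succ' (forall_lt_succ' (forall_lt_succ' (forall_lt_succ' (forall_lt_succ' (forall_lt_succ' (forall_lt_succ' (forall_lt_succ' (forall_lt_succ' (forall_lt_succ' (forall_lt_succ' (forall_lt_succ' (forall_lt_succ' (forall_lt_succ'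 (forall_lt_succ' (forall_lt_succ' (forall_lt_succ' (forall_lt_succ' (forall_lt_succ' (forall_lt_succ' (forall_lt_succ' (forall_lt_succ' (forall_lt_succ' (forall_lt_succ' a350 b350) b351) b352) b353) b354) b355) b356) b357) b358) b359) b360) b361) b362) b363) b364) b365) b366) b367) b368) b369) b370) b371) b372) b373) b374) b375) b376) b377) b378) b379) b380) b381) b382) b383) b384) b385) b386) b387) b388) b389) b390) b391) b392) b393) b394) b395) b396) b397) b398) b399)
theorem a450 : ∀ j < 450, allR chk 9 j = true := (forall_lt_succ' (forall_lt_succ' (forall_lt_succ' (forall_lt_succ' (forall_lt_succ' (forall_lt_succ' (forall_lt_succ' (forall_lt_succ' (forall_lt_succ' (forall_lt_succ' (forall_lt_succ' (forall_lt_succ' (forall_lt_succ' (forall_lt_succ' (forall_lt_succ' (forall_lt_succ' (forall_lt_succ' (forall_lt_succ' (forall_lt_succ' (forall_lt_succ' (forall_lt_succ' (forall_lt_succ' (forall_lt_succ' (forall_lt_succ' (forall_lt_succ' (forall_lt_succ'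 (forall_lt_succ' (forall_lt_succ' (forall_lt_succ' (forall_lt_succ' (forall_lt_succ' (forall_lt_succ' (forall_lt_succ' (forall_lt_succ' (forall_lt_succ' (forall_lt_succ' (forall_lt_succ' (forall_lt_succ' (forall_lt_succ' (forall_lt_succ' (forall_lt_succ' (forall_lt_succ' (forall_lt_succ' (forall_lt_succ' (forall_lt_succ' (forall_lt_succ' (forall_lt_succ' (forall_lt_succ' (forall_lt_succ' (forall_lt_succ' a400 b400) b401) b402) b403) b404) b405) b406) b407) b408) b409) b410) b411) b412) b413) b414) b415) b416) b417) b418) b419) b420) b421) b422) b423) b424) b425) b426) b427) b428) b429) b430) b431) b432) b433) b434) b435) b436) b437) b438) b439) b440) b441) b442) b443) b444) b445) b446) b447) b448) b449)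
theorem a500 : ∀ j < 500, allR chk 9 j = true := (forall_lt_succ' (forall_lt_succ' (forall_lt_succ' (forall_lt_succ' (forall_lt_succ' (forall_lt_succ' (forall_lt_succ' (forall_lt_succ' (forall_lt_succ' (forall_lt_succ' (forall_lt_succ' (forall_lt_succ' (forall_lt_succ' (forall_lt_succ' (forall_lt_succ' (forall_lt_succ' (forall_lt_succ' (forall_lt_succ' (forall_lt_succ' (forall_lt_succ' (forall_lt_succ' (forall_lt_succ' (forall_lt_succ' (forall_lt_succ' (forall_lt_succ' (forall_lt_succ' (forall_lt_succ' (forall_lt_succ' (forall_lt_succ' (forall_lt_succ' (forall_lt_succ' (forall_lt_succ' (forall_lt_succ' (forall_lt_succ' (forall_lt_succ' (forall_lt_succ' (forall_lt_succ' (forall_lt_succ' (forall_lt_succ' (forall_lt_succ' (forall_lt_succ' (forall_lt_succ' (forall_lt_succ' (forall_lt_succ' (forall_lt_succ' (forall_lt_succ' (forall_lt_succ' (forall_lt_succ' (forall_lt_succ' (forall_lt_succ' a450 b450) b451) b452) b453) b454) b455) b456) b457) b458) b459)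 b460) b461) b462) b463) b464) b465) b466) b467) b468) b469) b470) b471) b472) b473) b474) b475) b476) b477) b478) b479) b480) b481) b482) b483) b484) b485) b486) b487) b488) b489) b490) b491) b492) b493) b494) b495) b496) b497) b498) b499)
theorem a550 : ∀ j < 550, allR chk 9 j = true := (forall_lt_succ' (forall_lt_succ' (forall_lt_succ' (forall_lt_succ' (forall_lt_succ' (forall_lt_succ' (forall_lt_succ' (forall_lt_succ' (forall_lt_succ' (forall_lt_succ' (forall_lt_succ' (forall_lt_succ' (forall_lt_succ' (forall_lt_succ' (forall_lt_succ' (forall_lt_succ' (forall_lt_succ' (forall_lt_succ' (forall_lt_succ' (forall_lt_succ' (forall_lt_succ' (forall_lt_succ' (forall_lt_succ' (forall_lt_succ' (forall_lt_succ' (forall_lt_succ' (forall_lt_succ' (forall_lt_succ' (forall_lt_succ' (forall_lt_succ' (forall_lt_succ' (forall_lt_succ' (forall_lt_succ' (forall_lt_succ' (forall_lt_succ' (forall_lt_succ' (forall_lt_succ' (forall_lt_succ' (forall_lt_succ' (forall_lt_succ'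 (forall_lt_succ' (forall_lt_succ' (forall_lt_succ' (forall_lt_succ' (forall_lt_succ' (forall_lt_succ' (forall_lt_succ' (forall_lt_succ' (forall_lt_succ' (forall_lt_succ' a500 b500) b501) b502) b503) b504) b505) b506) b507) b508) b509) b510) b511) b512) b513) b514) b515) b516) b517) b518) b519) b520) b521) b522) b523) b524) b525) b526) b527) b528) b529) b530) b531) b532) b533) b534) b535) b536) b537) b538) b539) b540) b541) b542) b543) b544) b545) b546) b547) b548) b549)
theorem a600 : ∀ j < 600, allR chk 9 j = true := (forall_lt_succ' (forall_lt_succ' (forall_lt_succ' (forall_lt_succ' (forall_lt_succ' (forall_lt_succ' (forall_lt_succ' (forall_lt_succ' (forall_lt_succ' (forall_lt_succ' (forall_lt_succ' (forall_lt_succ' (forall_lt_succ' (forall_lt_succ' (forall_lt_succ' (forall_lt_succ' (forall_lt_succ' (forall_lt_succ' (forall_lt_succ' (forall_lt_succ' (forall_lt_succ' (forall_lt_succ' (forall_lt_succ' (forall_lt_succ' (forall_lt_succ' (forall_lt_succ'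 (forall_lt_succ' (forall_lt_succ' (forall_lt_succ' (forall_lt_succ' (forall_lt_succ' (forall_lt_succ' (forall_lt_succ' (forall_lt_succ' (forall_lt_succ' (forall_lt_succ' (forall_lt_succ' (forall_lt_succ' (forall_lt_succ' (forall_lt_succ' (forall_lt_succ' (forall_lt_succ' (forall_lt_succ' (forall_lt_succ' (forall_lt_succ' (forall_lt_succ' (forall_lt_succ' (forall_lt_succ' (forall_lt_succ' (forall_lt_succ' a550 b550) b551) b552) b553) b554) b555) b556) b557) b558) b559) b560) b561) b562) b563) b564) b565) b566) b567) b568) b569) b570) b571) b572) b573) b574) b575) b576) b577) b578) b579) b580) b581) b582) b583) b584) b585) b586) b587) b588) b589) b590) b591) b592) b593) b594) b595) b596) b597) b598) b599)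
theorem a650 : ∀ j < 650, allR chk 9 j = true := (forall_lt_succ' (forall_lt_succ' (forall_lt_succ' (forall_lt_succ' (forall_lt_succ' (forall_lt_succ' (forall_lt_succ' (forall_lt_succ' (forall_lt_succ' (forall_lt_succ' (forall_lt_succ' (forall_lt_succ' (forall_lt_succ' (forall_lt_succ' (forall_lt_succ' (forall_lt_succ' (forall_lt_succ' (forall_lt_succ' (forall_lt_succ' (forall_lt_succ' (forall_lt_succ' (forall_lt_succ' (forall_lt_succ' (forall_lt_succ' (forall_lt_succ' (forall_lt_succ' (forall_lt_succ' (forall_lt_succ' (forall_lt_succ' (forall_lt_succ' (forall_lt_succ' (forall_lt_succ' (forall_lt_succ' (forall_lt_succ' (forall_lt_succ' (forall_lt_succ' (forall_lt_succ' (forall_lt_succ' (forall_lt_succ' (forall_lt_succ' (forall_lt_succ' (forall_lt_succ' (forall_lt_succ' (forall_lt_succ' (forall_lt_succ' (forall_lt_succ' (forall_lt_succ' (forall_lt_succ' (forall_lt_succ' (forall_lt_succ' a600 b600) b601) b602) b603) b604) b605) b606) b607) b608) b609)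 b610) b611) b612) b613) b614) b615) b616) b617) b618) b619) b620) b621) b622) b623) b624) b625) b626) b627) b628) b629) b630) b631) b632) b633) b634) b635) b636) b637) b638) b639) b640) b641) b642) b643) b644) b645) b646) b647) b648) b649)
theorem all : ∀ c < 354049, chk c = true := fun c hc =>
  allR_glue (d := 9) (n := 692) (forall_lt_succ' (forall_lt_succ' (forall_lt_succ' (forall_lt_succ' (forall_lt_succ' (forall_lt_succ' (forall_lt_succ' (forall_lt_succ' (forall_lt_succ' (forall_lt_succ' (forall_lt_succ' (forall_lt_succ' (forall_lt_succ' (forall_lt_succ' (forall_lt_succ' (forall_lt_succ' (forall_lt_succ' (forall_lt_succ' (forall_lt_succ' (forall_lt_succ' (forall_lt_succ' (forall_lt_succ' (forall_lt_succ' (forall_lt_succ' (forall_lt_succ' (forall_lt_succ' (forall_lt_succ' (forall_lt_succ' (forall_lt_succ' (forall_lt_succ' (forall_lt_succ' (forall_lt_succ' (forall_lt_succ' (forall_lt_succ' (forall_lt_succ' (forall_lt_succ' (forall_lt_succ' (forall_lt_succ'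 (forall_lt_succ' (forall_lt_succ' (forall_lt_succ' (forall_lt_succ' a650 b650) b651) b652) b653) b654) b655) b656) b657) b658) b659) b660) b661) b662) b663) b664) b665) b666) b667) b668) b669) b670) b671) b672) b673) b674) b675) b676) b677) b678) b679) b680) b681) b682) b683) b684) b685) b686) b687) b688) b689) b690) b691) c (lt_of_lt_of_le hc (by norm_num))

/-- the relators used -/
def R : List (List ℕ) := [[nat_lit 0, nat_lit 0],
  [nat_lit 1, nat_lit 1],
  [nat_lit 2, nat_lit 2],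
  [nat_lit 3, nat_lit 3],
  [nat_lit 4, nat_lit 4],
  [nat_lit 5, nat_lit 5],
  [nat_lit 6, nat_lit 6],
  [nat_lit 7, nat_lit 7],
  [nat_lit 8, nat_lit 8],
  [nat_lit 9, nat_lit 9],
  [nat_lit 10, nat_lit 10],
  [nat_lit 11, nat_lit 11],
  [nat_lit 0, nat_lit 1, nat_lit 0, nat_lit 1, nat_lit 0, nat_lit 1],
  [nat_lit 0, nat_lit 2, nat_lit 0, nat_lit 2],
  [nat_lit 0, nat_lit 3, nat_lit 0, nat_lit 3],
  [nat_lit 0, nat_lit 4, nat_lit 0, nat_lit 4],
  [nat_lit 0, nat_lit 5, nat_lit 0, nat_lit 5],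
  [nat_lit 0, nat_lit 6, nat_lit 0, nat_lit 6],
  [nat_lit 0, nat_lit 7, nat_lit 0, nat_lit 7],
  [nat_lit 0, nat_lit 8, nat_lit 0, nat_lit 8],
  [nat_lit 0, nat_lit 9, nat_lit 0, nat_lit 9],
  [nat_lit 0, nat_lit 10, nat_lit 0, nat_lit 10],
  [nat_lit 0, nat_lit 11, nat_lit 0, nat_lit 11],
  [nat_lit 1, nat_lit 2, nat_lit 1, nat_lit 2, nat_lit 1, nat_lit 2],
  [nat_lit 1, nat_lit 3, nat_lit 1, nat_lit 3],
  [nat_lit 1, nat_lit 4, nat_lit 1, nat_lit 4],
  [nat_lit 1, nat_lit 5, nat_lit 1, nat_lit 5],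
  [nat_lit 1, nat_lit 6, nat_lit 1, nat_lit 6],
  [nat_lit 1, nat_lit 7, nat_lit 1, nat_lit 7],
  [nat_lit 1, nat_lit 8, nat_lit 1, nat_lit 8],
  [nat_lit 1, nat_lit 9, nat_lit 1, nat_lit 9],
  [nat_lit 1, nat_lit 10, nat_lit 1, nat_lit 10],
  [nat_lit 1, nat_lit 11, nat_lit 1, nat_lit 11],
  [nat_lit 2, nat_lit 3, nat_lit 2, nat_lit 3, nat_lit 2, nat_lit 3],
  [nat_lit 2, nat_lit 4, nat_lit 2, nat_lit 4],
  [nat_lit 2, nat_lit 5, nat_lit 2, nat_lit 5],
  [nat_lit 2, nat_lit 6, nat_lit 2, nat_lit 6],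
  [nat_lit 2, nat_lit 7, nat_lit 2, nat_lit 7],
  [nat_lit 2, nat_lit 8, nat_lit 2, nat_lit 8],
  [nat_lit 2, nat_lit 9, nat_lit 2, nat_lit 9],
  [nat_lit 2, nat_lit 10, nat_lit 2, nat_lit 10],
  [nat_lit 2, nat_lit 11, nat_lit 2, nat_lit 11],
  [nat_lit 3, nat_lit 4, nat_lit 3, nat_lit 4, nat_lit 3, nat_lit 4],
  [nat_lit 3, nat_lit 5, nat_lit 3, nat_lit 5],
  [nat_lit 3, nat_lit 6, nat_lit 3, nat_lit 6],
  [nat_lit 3, nat_lit 7, nat_lit 3, nat_lit 7],
  [nat_lit 3, nat_lit 8, nat_lit 3, nat_lit 8],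
  [nat_lit 3, nat_lit 9, nat_lit 3, nat_lit 9],
  [nat_lit 3, nat_lit 10, nat_lit 3, nat_lit 10],
  [nat_lit 3, nat_lit 11, nat_lit 3, nat_lit 11],
  [nat_lit 4, nat_lit 5, nat_lit 4, nat_lit 5, nat_lit 4, nat_lit 5],
  [nat_lit 4, nat_lit 6, nat_lit 4, nat_lit 6],
  [nat_lit 4, nat_lit 7, nat_lit 4, nat_lit 7],
  [nat_lit 4, nat_lit 8, nat_lit 4, nat_lit 8],
  [nat_lit 4, nat_lit 9, nat_lit 4, nat_lit 9],
  [nat_lit 4, nat_lit 10, nat_lit 4, nat_lit 10],
  [nat_lit 4, nat_lit 11, nat_lit 4, nat_lit 11],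
  [nat_lit 5, nat_lit 6, nat_lit 5, nat_lit 6, nat_lit 5, nat_lit 6],
  [nat_lit 5, nat_lit 7, nat_lit 5, nat_lit 7],
  [nat_lit 5, nat_lit 8, nat_lit 5, nat_lit 8],
  [nat_lit 5, nat_lit 9, nat_lit 5, nat_lit 9],
  [nat_lit 5, nat_lit 10, nat_lit 5, nat_lit 10, nat_lit 5, nat_lit 10],
  [nat_lit 5, nat_lit 11, nat_lit 5, nat_lit 11],
  [nat_lit 6, nat_lit 7, nat_lit 6, nat_lit 7, nat_lit 6, nat_lit 7],
  [nat_lit 6, nat_lit 8, nat_lit 6, nat_lit 8],
  [nat_lit 6, nat_lit 9, nat_lit 6, nat_lit 9],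
  [nat_lit 6, nat_lit 10, nat_lit 6, nat_lit 10],
  [nat_lit 6, nat_lit 11, nat_lit 6, nat_lit 11],
  [nat_lit 7, nat_lit 8, nat_lit 7, nat_lit 8, nat_lit 7, nat_lit 8],
  [nat_lit 7, nat_lit 9, nat_lit 7, nat_lit 9],
  [nat_lit 7, nat_lit 10, nat_lit 7, nat_lit 10],
  [nat_lit 7, nat_lit 11, nat_lit 7, nat_lit 11],
  [nat_lit 8, nat_lit 9, nat_lit 8, nat_lit 9, nat_lit 8, nat_lit 9],
  [nat_lit 8, nat_lit 10, nat_lit 8, nat_lit 10],
  [nat_lit 8, nat_lit 11, nat_lit 8, nat_lit 11],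
  [nat_lit 9, nat_lit 10, nat_lit 9, nat_lit 10],
  [nat_lit 9, nat_lit 11, nat_lit 9, nat_lit 11],
  [nat_lit 10, nat_lit 11, nat_lit 10, nat_lit 11, nat_lit 10, nat_lit 11],
  [nat_lit 0, nat_lit 10, nat_lit 7, nat_lit 6, nat_lit 5, nat_lit 4, nat_lit 3, nat_lit 2, nat_lit 10, nat_lit 7, nat_lit 6, nat_lit 5, nat_lit 4, nat_lit 3, nat_lit 2, nat_lit 10, nat_lit 7, nat_lit 6, nat_lit 5, nat_lit 4, nat_lit 3, nat_lit 2, nat_lit 10, nat_lit 7, nat_lit 6, nat_lit 5, nat_lit 4, nat_lit 3, nat_lit 2, nat_lit 10, nat_lit 7, nat_lit 6, nat_lit 5, nat_lit 4, nat_lit 3, nat_lit 2, nat_lit 10, nat_lit 7, nat_lit 6, nat_lit 5, nat_lit 4, nat_lit 3, nat_lit 2, nat_lit 10, nat_lit 7, nat_lit 6, nat_lit 5, nat_lit 4, nat_lit 3, nat_lit 2, nat_lit 10, nat_lit 7, nat_lit 6, nat_lit 5, nat_lit 4, nat_lit 3, nat_lit 2, nat_lit 10, nat_lit 7, nat_lit 6, nat_lit 5, nat_lit 4, nat_lit 3, nat_lit 2],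
  [nat_lit 5, nat_lit 4, nat_lit 3, nat_lit 2, nat_lit 1, nat_lit 0, nat_lit 5, nat_lit 6, nat_lit 7, nat_lit 8, nat_lit 9, nat_lit 5, nat_lit 10, nat_lit 11, nat_lit 5, nat_lit 4, nat_lit 3, nat_lit 2, nat_lit 1, nat_lit 0, nat_lit 5, nat_lit 6, nat_lit 7, nat_lit 8, nat_lit 9, nat_lit 5, nat_lit 10, nat_lit 11, nat_lit 5, nat_lit 4, nat_lit 3, nat_lit 2, nat_lit 1, nat_lit 0, nat_lit 5, nat_lit 6, nat_lit 7, nat_lit 8, nat_lit 9, nat_lit 5, nat_lit 10, nat_lit 11, nat_lit 5, nat_lit 4, nat_lit 3, nat_lit 2, nat_lit 1, nat_lit 0, nat_lit 5, nat_lit 6, nat_lit 7, nat_lit 8, nat_lit 9, nat_lit 5, nat_lit 10, nat_lit 11, nat_lit 5, nat_lit 4, nat_lit 3, nat_lit 2, nat_lit 1, nat_lit 0, nat_lit 5, nat_lit 6, nat_lit 7, nat_lit 8, nat_lit 9, nat_lit 5, nat_lit 10, nat_lit 11, nat_lit 5, nat_lit 4, nat_lit 3, nat_lit 2, nat_lit 1, nat_lit 0, nat_lit 5, nat_lit 6, nat_lit 7, nat_lit 8, nat_lit 9, nat_lit 5, nat_lit 10, nat_lit 11, nat_lit 5, nat_lit 4, nat_lit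 3, nat_lit 2, nat_lit 1, nat_lit 0, nat_lit 5, nat_lit 6, nat_lit 7, nat_lit 8, nat_lit 9, nat_lit 5, nat_lit 10, nat_lit 11, nat_lit 5, nat_lit 4, nat_lit 3, nat_lit 2, nat_lit 1, nat_lit 0, nat_lit 5, nat_lit 6, nat_lit 7, nat_lit 8, nat_lit 9, nat_lit 5, nat_lit 10, nat_lit 11, nat_lit 5, nat_lit 4, nat_lit 3, nat_lit 2, nat_lit 1, nat_lit 0, nat_lit 5, nat_lit 6, nat_lit 7, nat_lit 8, nat_lit 9, nat_lit 5, nat_lit 10, nat_lit 11, nat_lit 5, nat_lit 4, nat_lit 3, nat_lit 2, nat_lit 1, nat_lit 0, nat_lit 5, nat_lit 6, nat_lit 7, nat_lit 8, nat_lit 9, nat_lit 5, nat_lit 10, nat_lit 11, nat_lit 5, nat_lit 4, nat_lit 3, nat_lit 2, nat_lit 1, nat_lit 0, nat_lit 5, nat_lit 6, nat_lit 7, nat_lit 8, nat_lit 9, nat_lit 5, nat_lit 10, nat_lit 11, nat_lit 5, nat_lit 4, nat_lit 3, nat_lit 2, nat_lit 1, nat_lit 0, nat_lit 5, nat_lit 6, nat_lit 7, nat_lit 8, nat_lit 9, nat_lit 5, nat_lit 10, nat_lit 11, nat_lit 5, nat_lit 4, nat_lit 3, nat_lit 2, nat_lit 1, nat_lit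 0, nat_lit 5, nat_lit 6, nat_lit 7, nat_lit 8, nat_lit 9, nat_lit 5, nat_lit 10, nat_lit 11, nat_lit 5, nat_lit 4, nat_lit 3, nat_lit 2, nat_lit 1, nat_lit 0, nat_lit 5, nat_lit 6, nat_lit 7, nat_lit 8, nat_lit 9, nat_lit 5, nat_lit 10, nat_lit 11, nat_lit 5, nat_lit 4, nat_lit 3, nat_lit 2, nat_lit 1, nat_lit 0, nat_lit 5, nat_lit 6, nat_lit 7, nat_lit 8, nat_lit 9, nat_lit 5, nat_lit 10, nat_lit 11, nat_lit 5, nat_lit 4, nat_lit 3, nat_lit 2, nat_lit 1, nat_lit 0, nat_lit 5, nat_lit 6, nat_lit 7, nat_lit 8, nat_lit 9, nat_lit 5, nat_lit 10, nat_lit 11, nat_lit 5, nat_lit 4, nat_lit 3, nat_lit 2, nat_lit 1, nat_lit 0, nat_lit 5, nat_lit 6, nat_lit 7, nat_lit 8, nat_lit 9, nat_lit 5, nat_lit 10, nat_lit 11]]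

theorem cert : Cert T (R.map fun r => (r, 0)) ([0, 2, 3, 4, 5, 6, 7, 8, 9, 10, 11].map fun y => (y, 0)) 34 35 [0, 1, 2, 3, 4, 5, 6, 7, 8, 9, 10, 11] :=
  ⟨by decide +kernel, ⟨[[(0, 0), (21, 0), (22, 0), (16, 0), (17, 0), (15, 0), (13, 0), (18, 0), (14, 0), (19, 0), (20, 0), (78, 0), (12, 0), (79, 5)], [(1, 0), (24, 0), (32, 0), (31, 0), (26, 0), (25, 0), (27, 0), (28, 0), (29, 0), (30, 0), (12, 1), (23, 0), (79, 4)], [(2, 0), (13, 1), (35, 0), (40, 0), (41, 0), (34, 0), (36, 0), (37, 0), (38, 0), (39, 0), (23, 1), (33, 0), (78, 7), (78, 63), (78, 14), (78, 56), (78, 49), (79, 3), (78, 28), (78, 21), (78, 35), (78, 42)], [(3, 0), (14, 1), (24, 1), (43, 0), (48, 0), (49, 0), (44, 0), (45, 0), (46, 0), (47, 0), (33, 1), (42, 0), (78, 6), (79, 2), (78, 13), (78, 62), (78, 55), (78, 48), (78, 20), (78, 27), (78, 34), (78, 41)], [(4, 0), (15, 1), (25, 1), (34, 1), (55, 0), (56, 0), (51, 0), (52, 0), (53, 0), (54, 0), (50, 0), (42, 1), (78, 5), (79, 1),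 (78, 12), (78, 61), (78, 33), (78, 40), (78, 19), (78, 26), (78, 47), (78, 54)], [(5, 0), (16, 1), (26, 1), (35, 1), (43, 1), (62, 0), (58, 0), (59, 0), (60, 0), (50, 1), (57, 0), (61, 0), (78, 4), (78, 11), (78, 53), (78, 32), (78, 39), (78, 18), (78, 25), (79, 6), (78, 60), (79, 0), (78, 46), (79, 11)], [(6, 0), (17, 1), (27, 1), (36, 1), (44, 1), (51, 1), (66, 0), (67, 0), (64, 0), (65, 0), (57, 1), (63, 0), (78, 3), (79, 7), (78, 10), (78, 24), (78, 52), (78, 17), (78, 31), (78, 38), (78, 59), (78, 45)], [(7, 0), (18, 1), (28, 1), (37, 1), (45, 1), (52, 1), (58, 1), (70, 0), (71, 0), (69, 0), (63, 1), (68, 0), (78, 2), (79, 8), (78, 9), (78, 58), (78, 23), (78, 16), (78, 51), (78, 30), (78, 37), (78, 44)], [(8, 0), (19, 1), (29, 1), (38, 1), (46, 1), (53, 1), (59, 1), (64, 1), (73, 0), (74, 0), (68, 1), (79, 9), (72, 0)], [(9, 0), (20, 1), (30, 1), (39, 1), (47, 1), (54, 1), (60, 1), (65, 1), (69, 1), (75, 0), (76, 0), (72, 1), (79, 10)], [(10,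 0), (21, 1), (31, 1), (40, 1), (48, 1), (55, 1), (66, 1), (70, 1), (73, 1), (61, 1), (75, 1), (77, 0), (78, 1), (79, 12), (78, 8), (78, 57), (78, 15), (78, 29), (78, 22), (78, 50), (78, 36), (78, 43)], [(11, 0), (22, 1), (32, 1), (41, 1), (49, 1), (56, 1), (62, 1), (67, 1), (71, 1), (77, 1), (74, 1), (76, 1), (79, 13)]], [(11, 0), (10, 0), (5, 0), (6, 0), (8, 0), (7, 0), (9, 0), (4, 0), (3, 0), (2, 0), (1, 0), (0, 0), (78, 5), (78, 7), (78, 6), (78, 4), (61, 1), (77, 0), (50, 1), (61, 0), (78, 2), (42, 0), (50, 0), (57, 1), (78, 3), (31, 0), (78, 14), (47, 0), (78, 13), (78, 48), (78, 33), (78, 61), (57, 0), (78, 11), (78, 45), (45, 1), (73, 0), (72, 0), (55, 1), (78, 8), (78, 36), (62, 1), (16, 0), (29, 0), (12, 1), (23, 0), (35, 0), (78, 21), (78, 35), (78, 49), (78, 63), (43, 0), (45, 0), (49, 0), (78, 27), (78, 34), (78, 62), (51, 0), (56, 0), (78, 12), (78, 26), (78, 47), (26, 1), (62, 0), (78, 18), (78, 39), (78, 46), (17, 1), (27, 1), (51, 1),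 (63, 0), (78, 10), (78, 24), (78, 31), (78, 52), (78, 59), (58, 1), (70, 0), (63, 1), (68, 0), (78, 37), (78, 51), (53, 1), (59, 1), (64, 1), (68, 1), (21, 1), (48, 1), (78, 1), (78, 15), (78, 50), (56, 1), (71, 1), (77, 1)], by decide +kernel⟩, by decide +kernel, Or.inr all⟩

theorem bound {Γ : Type*} [Group Γ] {x : ℕ → Γ} (hR : ∀ r ∈ R, ev x r = 1) {n : ℕ}
    (h : CardLe x [0, 2, 3, 4, 5, 6, 7, 8, 9, 10, 11] n) : CardLe x [0, 1, 2, 3, 4, 5, 6, 7, 8, 9, 10, 11] (306936 * n) :=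
  cert.cardLe rfl hR h

end Cfsg.Agent.L0.Fi24Tc1
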