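import Cfsg.Agent.L0.Fi24.Sub
import Cfsg.Agent.L0.Fi24.Tc1
import Cfsg.Agent.L0.Fi24.Cov3
import Cfsg.Agent.L0.Fi24.Tab
import Cfsg.Agent.L0.InvCover

/-! The presented group Fi24: order bound, permutation action and the triple cover. -/

set_option autoImplicit false
set_option maxRecDepth 100000

namespace Cfsg.Agent.L0.Fi24G

open Cfsg.Spor

theorem card_le (hM : UpperMult Fi23 (Multiplicative (ZMod 1))) :
    Finite Fi24 ∧ Nat.card Fi24 ≤ 2510411418381323442585600 := by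
  have := (Fi24Tc1.bound (rel_sub rel0 (by decide +kernel)) (sub_le hM)).top gen_top
  simpa using this

/-- the relators, one of each pair -/
def Rs : List (List ℕ) := [[0, 0],
  [1, 1],
  [2, 2],
  [3, 3],
  [4, 4],
  [5, 5],
  [6, 6],
  [7, 7],
  [8, 8],
  [9, 9],
  [10, 10],
  [11, 11],
  [0, 1, 0, 1, 0, 1],
  [0, 2, 0, 2],
  [0, 3, 0, 3],
  [0, 4, 0, 4],
  [0, 5, 0, 5],
  [0, 6, 0, 6],
  [0, 7, 0, 7],
  [0, 8, 0, 8],
  [0, 9, 0, 9],
  [0, 10, 0, 10],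
  [0, 11, 0, 11],
  [1, 2, 1, 2, 1, 2],
  [1, 3, 1, 3],
  [1, 4, 1, 4],
  [1, 5, 1, 5],
  [1, 6, 1, 6],
  [1, 7, 1, 7],
  [1, 8, 1, 8],
  [1, 9, 1, 9],
  [1, 10, 1, 10],
  [1, 11, 1, 11],
  [2, 3, 2, 3, 2, 3],
  [2, 4, 2, 4],
  [2, 5, 2, 5],
  [2, 6, 2, 6],
  [2, 7, 2, 7],
  [2, 8, 2, 8],
  [2, 9, 2, 9],
  [2, 10, 2, 10],
  [2, 11, 2, 11],
  [3, 4, 3, 4, 3, 4],
  [3, 5, 3, 5],
  [3, 6, 3, 6],
  [3, 7, 3, 7],
  [3, 8, 3, 8],
  [3, 9, 3, 9],
  [3, 10, 3, 10],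
  [3, 11, 3, 11],
  [4, 5, 4, 5, 4, 5],
  [4, 6, 4, 6],
  [4, 7, 4, 7],
  [4, 8, 4, 8],
  [4, 9, 4, 9],
  [4, 10, 4, 10],
  [4, 11, 4, 11],
  [5, 6, 5, 6, 5, 6],
  [5, 7, 5, 7],
  [5, 8, 5, 8],
  [5, 9, 5, 9],
  [5, 10, 5, 10, 5, 10],
  [5, 11, 5, 11],
  [6, 7, 6, 7, 6, 7],
  [6, 8, 6, 8],
  [6, 9, 6, 9],
  [6, 10, 6, 10],
  [6, 11, 6, 11],
  [7, 8, 7, 8, 7, 8],
  [7, 9, 7, 9],
  [7, 10, 7, 10],
  [7, 11, 7, 11],
  [8, 9, 8, 9, 8, 9],
  [8, 10, 8, 10],
  [8, 11, 8, 11],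
  [9, 10, 9, 10],
  [9, 11, 9, 11],
  [10, 11, 10, 11, 10, 11],
  [0, 10, 7, 6, 5, 4, 3, 2, 10, 7, 6, 5, 4, 3, 2, 10, 7, 6, 5, 4, 3, 2, 10, 7, 6, 5, 4, 3, 2, 10, 7, 6, 5, 4, 3, 2, 10, 7, 6, 5, 4, 3, 2, 10, 7, 6, 5, 4, 3, 2, 10, 7, 6, 5, 4, 3, 2, 10, 7, 6, 5, 4, 3, 2],
  [5, 4, 3, 2, 1, 0, 5, 6, 7, 8, 9, 5, 10, 11, 5, 4, 3, 2, 1, 0, 5, 6, 7, 8, 9, 5, 10, 11, 5, 4, 3, 2, 1, 0, 5, 6, 7, 8, 9, 5, 10, 11, 5, 4, 3, 2, 1, 0, 5, 6, 7, 8, 9, 5, 10, 11, 5, 4, 3, 2, 1, 0, 5, 6, 7, 8, 9, 5, 10, 11, 5, 4, 3, 2, 1, 0, 5, 6, 7, 8, 9, 5, 10, 11, 5, 4, 3, 2, 1, 0, 5, 6, 7, 8, 9, 5, 10, 11, 5, 4, 3, 2, 1, 0, 5, 6, 7, 8, 9, 5, 10, 11, 5, 4, 3, 2, 1, 0, 5, 6, 7, 8, 9, 5, 10, 11, 5, 4, 3, 2, 1, 0, 5, 6, 7, 8, 9, 5, 10, 11, 5, 4, 3, 2, 1, 0, 5, 6, 7, 8, 9, 5, 10, 11, 5, 4, 3, 2, 1, 0, 5, 6, 7, 8, 9, 5, 10, 11, 5, 4, 3, 2, 1, 0, 5, 6, 7, 8, 9, 5, 10, 11, 5, 4, 3, 2, 1, 0, 5, 6, 7, 8, 9, 5, 10, 11, 5, 4, 3, 2, 1, 0, 5, 6, 7, 8, 9,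 5, 10, 11, 5, 4, 3, 2, 1, 0, 5, 6, 7, 8, 9, 5, 10, 11, 5, 4, 3, 2, 1, 0, 5, 6, 7, 8, 9, 5, 10, 11]]

theorem isPres0 : IsPres x 12 Rs :=
  isPres_cox hall hx hiv (by decide +kernel) (by decide +kernel) (by decide +kernel)
    (by decide +kernel) (by decide +kernel)

/-- the words for the extra letters -/
def W : List (List ℕ) := [[10, 7, 6, 5, 4, 3, 2], [5, 4, 3, 2, 1, 0, 5, 6, 7, 8, 9, 5, 10]]

/-- the relators with the extra letters -/
def R : List (List ℕ) := Fi24Cov3.RL.map Prod.fst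

/-- the letters with the two extra ones -/
noncomputable def xe (i : ℕ) : Fi24 := ev x (subW 12 W i)

theorem xe_eq {i : ℕ} (hi : i < 12) : xe i = x i := by simp [xe, subW, hi]

theorem isPres : IsPres xe 14 R :=
  isPres0.extend (IV := [0, 1, 2, 3, 4, 5, 6, 7, 8, 9, 10, 11]) rfl (by decide +kernel) (by decide +kernel) (by decide +kernel)
    (by decide +kernel) (by decide +kernel) (by decide +kernel)

theorem exists_act : ∃ A : RAct Fi24 306936, A.Tab xe 14 T :=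
  isPres.exists_ract (by decide +kernel) (by decide +kernel) le_rfl
    fun c hc => relChk_of_L (Fi24Cov3.all c hc)

/-- the relators that hold in the cover -/
def Rex : List (List ℕ) := (Fi24Cov3.RL.filter fun p => p.2 == 0).map Prod.fst

theorem metab_comm (Q : Type) [Group Q] (q : ℕ → Q) (hQ : Metab Q) (h : ∀ r ∈ Rex, ev q r = 1) :
    ∀ i < 14, ∀ i' < 14, Commute (q i) (q i') := by
  have s : ∀ i < 12, q i * q i = 1 := fun i hi => by
    simpa using h [i, i] (by revert i; decide +kernel)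
  have br : ∀ a b, [a, b, a, b, a, b] ∈ Rex ∨ [b, a, b, a, b, a] ∈ Rex → (q a * q b) ^ 3 = 1 := by
    intro a b hab
    have := rel_sub' (R' := [[a, b, a, b, a, b]]) h (by simpa using hab) _ (List.mem_singleton_self _)
    simpa [pow_succ, mul_assoc] using this
  have cm : ∀ a b, a < 12 ∧ b < 12 ∧ ([a, b, a, b] ∈ Rex ∨ [b, a, b, a] ∈ Rex) → Commute (q a) (q b) :=
    fun a b hab => hab.2.2.elim (fun h1 => commute_of_rel (s a hab.1) (s b hab.2.1) (h _ h1))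
      fun h1 => (commute_of_rel (s b hab.2.1) (s a hab.1) (h _ h1)).symm
  have o5 : Abelianization.of (q 5) = Abelianization.of (q 5) := rfl
  have o6 : Abelianization.of (q 6) = Abelianization.of (q 5) :=
    (of_eq_of_braid (s _ (by norm_num)) (s _ (by norm_num)) (br 6 5 (by decide +kernel))).trans o5
  have o7 : Abelianization.of (q 7) = Abelianization.of (q 5) :=
    (of_eq_of_braid (s _ (by norm_num)) (s _ (by norm_num)) (br 7 6 (by decide +kernel))).trans o6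
  have o8 : Abelianization.of (q 8) = Abelianization.of (q 5) :=
    (of_eq_of_braid (s _ (by norm_num)) (s _ (by norm_num)) (br 8 7 (by decide +kernel))).trans o7
  have o9 : Abelianization.of (q 9) = Abelianization.of (q 5) :=
    (of_eq_of_braid (s _ (by norm_num)) (s _ (by norm_num)) (br 9 8 (by decide +kernel))).trans o8
  have o10 : Abelianization.of (q 10) = Abelianization.of (q 5) :=
    (of_eq_of_braid (s _ (by norm_num)) (s _ (by norm_num)) (br 10 5 (by decide +kernel))).trans o5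
  have o11 : Abelianization.of (q 11) = Abelianization.of (q 5) :=
    (of_eq_of_braid (s _ (by norm_num)) (s _ (by norm_num)) (br 11 10 (by decide +kernel))).trans o10
  have o4 : Abelianization.of (q 4) = Abelianization.of (q 5) :=
    (of_eq_of_braid (s _ (by norm_num)) (s _ (by norm_num)) (br 4 5 (by decide +kernel))).trans o5
  have o3 : Abelianization.of (q 3) = Abelianization.of (q 5) :=
    (of_eq_of_braid (s _ (by norm_num)) (s _ (by norm_num)) (br 3 4 (by decide +kernel))).trans o4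
  have o2 : Abelianization.of (q 2) = Abelianization.of (q 5) :=
    (of_eq_of_braid (s _ (by norm_num)) (s _ (by norm_num)) (br 2 3 (by decide +kernel))).trans o3
  have o1 : Abelianization.of (q 1) = Abelianization.of (q 5) :=
    (of_eq_of_braid (s _ (by norm_num)) (s _ (by norm_num)) (br 1 2 (by decide +kernel))).trans o2
  have o0 : Abelianization.of (q 0) = Abelianization.of (q 5) :=
    (of_eq_of_braid (s _ (by norm_num)) (s _ (by norm_num)) (br 0 1 (by decide +kernel))).trans o1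
  have e5 : q 5 = q 5 := rfl
  have e6 : q 6 = q 5 := (eq_of_metab hQ (s _ (by norm_num)) (s _ (by norm_num))
    (s 0 (by norm_num)) (br 6 5 (by decide +kernel)) (cm _ _ (by decide +kernel))
    (cm _ _ (by decide +kernel)) (o6.trans o0.symm) (o5.trans o0.symm)).trans e5
  have e7 : q 7 = q 5 := (eq_of_metab hQ (s _ (by norm_num)) (s _ (by norm_num))
    (s 0 (by norm_num)) (br 7 6 (by decide +kernel)) (cm _ _ (by decide +kernel))
    (cm _ _ (by decide +kernel)) (o7.trans o0.symm) (o6.trans o0.symm)).trans e6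
  have e8 : q 8 = q 5 := (eq_of_metab hQ (s _ (by norm_num)) (s _ (by norm_num))
    (s 0 (by norm_num)) (br 8 7 (by decide +kernel)) (cm _ _ (by decide +kernel))
    (cm _ _ (by decide +kernel)) (o8.trans o0.symm) (o7.trans o0.symm)).trans e7
  have e9 : q 9 = q 5 := (eq_of_metab hQ (s _ (by norm_num)) (s _ (by norm_num))
    (s 0 (by norm_num)) (br 9 8 (by decide +kernel)) (cm _ _ (by decide +kernel))
    (cm _ _ (by decide +kernel)) (o9.trans o0.symm) (o8.trans o0.symm)).trans e8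
  have e10 : q 10 = q 5 := (eq_of_metab hQ (s _ (by norm_num)) (s _ (by norm_num))
    (s 0 (by norm_num)) (br 10 5 (by decide +kernel)) (cm _ _ (by decide +kernel))
    (cm _ _ (by decide +kernel)) (o10.trans o0.symm) (o5.trans o0.symm)).trans e5
  have e11 : q 11 = q 5 := (eq_of_metab hQ (s _ (by norm_num)) (s _ (by norm_num))
    (s 0 (by norm_num)) (br 11 10 (by decide +kernel)) (cm _ _ (by decide +kernel))
    (cm _ _ (by decide +kernel)) (o11.trans o0.symm) (o10.trans o0.symm)).trans e10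
  have e4 : q 4 = q 5 := (eq_of_metab hQ (s _ (by norm_num)) (s _ (by norm_num))
    (s 0 (by norm_num)) (br 4 5 (by decide +kernel)) (cm _ _ (by decide +kernel))
    (cm _ _ (by decide +kernel)) (o4.trans o0.symm) (o5.trans o0.symm)).trans e5
  have e3 : q 3 = q 5 := (eq_of_metab hQ (s _ (by norm_num)) (s _ (by norm_num))
    (s 0 (by norm_num)) (br 3 4 (by decide +kernel)) (cm _ _ (by decide +kernel))
    (cm _ _ (by decide +kernel)) (o3.trans o0.symm) (o4.trans o0.symm)).trans e4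
  have e2 : q 2 = q 5 := (eq_of_metab hQ (s _ (by norm_num)) (s _ (by norm_num))
    (s 0 (by norm_num)) (br 2 3 (by decide +kernel)) (cm _ _ (by decide +kernel))
    (cm _ _ (by decide +kernel)) (o2.trans o0.symm) (o3.trans o0.symm)).trans e3
  have e1 : q 1 = q 5 := (eq_of_metab hQ (s _ (by norm_num)) (s _ (by norm_num))
    (s 4 (by norm_num)) (br 1 2 (by decide +kernel)) (cm _ _ (by decide +kernel))
    (cm _ _ (by decide +kernel)) (o1.trans o4.symm) (o2.trans o4.symm)).trans e2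
  have e0 : q 0 = q 5 := (eq_of_metab hQ (s _ (by norm_num)) (s _ (by norm_num))
    (s 3 (by norm_num)) (br 0 1 (by decide +kernel)) (cm _ _ (by decide +kernel))
    (cm _ _ (by decide +kernel)) (o0.trans o3.symm) (o1.trans o3.symm)).trans e1
  have m : ∀ i < 12, q i ∈ Subgroup.zpowers (q 5) := by
    intro i hi
    interval_cases i <;> simp [e0, e1, e2, e3, e4, e6, e7, e8, e9, e10, e11]
  have d : ∀ a (w : List ℕ), (a :: w ∈ Rex ∧ ∀ i ∈ w, i < 12) → q a ∈ Subgroup.zpowers (q 5) := by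
    intro a w hw
    have := h _ hw.1
    rw [ev_cons] at this
    rw [eq_inv_of_mul_eq_one_left this]
    exact Subgroup.inv_mem _ (ev_mem _ _ fun i hi => m i (hw.2 i hi))
  have m' : ∀ i < 14, q i ∈ Subgroup.zpowers (q 5) := by
    intro i hi
    by_cases h1 : i < 12
    · exact m i h1
    · obtain rfl | rfl : i = 12 ∨ i = 13 := by omega
      · exact d 12 [2, 3, 4, 5, 6, 7, 10] (by decide +kernel)
      · exact d 13 [10, 5, 9, 8, 7, 6, 5, 0, 1, 2, 3, 4, 5] (by decide +kernel)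
  intro i hi i' hi'
  obtain ⟨a, ha⟩ := Subgroup.mem_zpowers_iff.mp (m' i hi)
  obtain ⟨b, hb⟩ := Subgroup.mem_zpowers_iff.mp (m' i' hi')
  rw [← ha, ← hb]
  exact Commute.zpow_zpow_self _ _ _

theorem lower [Finite Fi24] : LowerMult Fi24' (Multiplicative (ZMod 3)) :=
  (Fi24Cov3.rep rfl).lower_inv isPres (by norm_num) (j := 79) (by decide +kernel)
    (by decide +kernel) (R1 := Rex) (by decide +kernel) metab_comm

end Cfsg.Agent.L0.Fi24G
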