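import Cfsg.Agent.L0.CosetChain

/-! Generated coset table certificate. -/

set_option autoImplicit false
set_option maxRecDepth 100000

namespace Cfsg.Agent.L0.Fi24Z5

noncomputable def t0 : BT := .node (.node (.node (.leaf (nat_lit 0xf000000000000084700000000000000000a842000000001c00000000000000004218034000000000000094c200000000008420000000000000006232c0000000000000a501000000000000b00000000000000000000014000000000091810000001082009000000000000000000000000000000000684000000000108410000000000000003800000000000000006500000000000000600000000000000000014000000000000054c000000000080030000000000000001000000000000000000000)) (.leaf (nat_lit 0x1680000015230000001e5210000000000000000000000000000046850c002c0000001ce5f000000000000000000000000000000000056da00000001d19e0000000000000000000000000000021780000000000001919d0000000000000000000000000042e80a93d2000000000194dc000000000085c0000000000000014800223a9680000001a51b00000000000280000000000000000000000189c0000001a85a0000000000000000000000000000000010b400000000018e59))) (.node (.leaf (nat_lit 0xf80000014910000001650f000000000000000000000000004278000000000000000114ce000000000084e000000000000000f25740000000000001250d000000109a01d000000000000000052391b80000000001284c00000000380000000000000000000000000001b00000010e4c0000000000000000000000000000021300000000000001118b0000000000000000000000000042580692b2000000000114ca000000000084a000000000000000c80021168d800000012509))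 (.leaf (nat_lit 0x2d680000000002cb3200000000000000000000000000000000000087200000028b3100000000000000000000000000000000000003500000028e700000000000000000000000000000048bd0dc03400000024e6d000000000000000000000000000000000066e2e000000251ac)))) (.node (.node (.leaf (nat_lit 0x180000000000000000000000000000000010b090000001912848000000000000000b80000000000000000e507000000108e016000000000000000023540000000000000e846000000002a000000000000000000000000280000000000d1860000000000c870000000000000423004c0000000000000d4c50000000000845000000000000000932191a20000000000e5040000000000011000000000000000000000000100000000ce440000000000844000000000000000000000000000000000a503)) (.leaf (nat_lit 0x2c5800000000024b2a0000000000000000000000000000000010d400000000020e690000000000000000000000000000021a4064a71000000211a80000000000000000000000000000000c40011a9000000214e700000000000000000000000000000000000086700000020b2600000000000000000000000000000000000003000000020e65000000000000000000000000006d2a19005e0000000001d1a30000000000000000000000000043180b9b489ed0000001d4e2))) (.leaf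 (nat_lit 0x216404e9e600000019198000000000000000000000000000000098001119000000194d70000000000cd7000000000000042b0094000000000000154d50000000000855000000000000001234592c60000000001651400000010a80230000000000000000000312a8e20000001685300000000440000000000000000000000000000000000014b1300000000000000000000000000689a14804200000000015191000000000000000000000000004288081a2495f000000154d0)))

noncomputable def tree : BT := t0

noncomputable def row : ℕ → ℕ := rowOf tree (nat_lit 3) (nat_lit 7) (nat_lit 200) (nat_lit 0xffffffffffffffffffffffffffffffffffffffffffffffffff)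

noncomputable def cols : List Col := [⟨nat_lit 44, nat_lit 0, [([nat_lit 44], nat_lit 0), ([nat_lit 70, nat_lit 44, nat_lit 70], nat_lit 0), ([nat_lit 83, nat_lit 44, nat_lit 83], nat_lit 0), ([nat_lit 148, nat_lit 44, nat_lit 148], nat_lit 0), ([nat_lit 161, nat_lit 44, nat_lit 161], nat_lit 0)]⟩,
  ⟨nat_lit 57, nat_lit 0, [([nat_lit 57], nat_lit 0), ([nat_lit 83, nat_lit 57, nat_lit 83], nat_lit 0), ([nat_lit 148, nat_lit 57, nat_lit 148], nat_lit 0), ([nat_lit 44, nat_lit 57, nat_lit 44, nat_lit 57, nat_lit 44], nat_lit 0), ([nat_lit 161, nat_lit 57, nat_lit 161], nat_lit 0)]⟩,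
  ⟨nat_lit 70, nat_lit 0, [([nat_lit 70], nat_lit 0), ([nat_lit 148, nat_lit 70, nat_lit 148], nat_lit 0), ([nat_lit 57, nat_lit 70, nat_lit 57, nat_lit 70, nat_lit 57], nat_lit 0), ([nat_lit 161, nat_lit 70, nat_lit 161], nat_lit 0)]⟩,
  ⟨nat_lit 83, nat_lit 0, [([nat_lit 83], nat_lit 0), ([nat_lit 70, nat_lit 83, nat_lit 70, nat_lit 83, nat_lit 70], nat_lit 0), ([nat_lit 161, nat_lit 83, nat_lit 161], nat_lit 0)]⟩,
  ⟨nat_lit 148, nat_lit 0, [([nat_lit 148], nat_lit 0), ([nat_lit 83, nat_lit 148, nat_lit 83, nat_lit 148, nat_lit 83], nat_lit 0)]⟩,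
  ⟨nat_lit 161, nat_lit 0, [([nat_lit 161], nat_lit 0), ([nat_lit 148, nat_lit 161, nat_lit 148, nat_lit 161, nat_lit 148], nat_lit 0)]⟩]

noncomputable def erots : List (List ℕ × ℕ) := []

noncomputable def gens : List ℕ := []

noncomputable def chk : ℕ → Bool := chkRow0 row (nat_lit 53) (nat_lit 0x3f) (nat_lit 0x3c0) (nat_lit 10) (nat_lit 0x7) (nat_lit 0) (nat_lit 0x3f) (nat_lit 6) (nat_lit 0xff) (nat_lit 0x3c000) [] cols gens

theorem b0 : allR chk 6 0 = true := by decide +kernel

noncomputable def T : CT := ⟨row, nat_lit 53, nat_lit 53, nat_lit 0x3f, nat_lit 0x3c0, nat_lit 10, nat_lit 0x7, nat_lit 0, nat_lit 0x3f, nat_lit 6, nat_lit 0xff, nat_lit 0x3c000, nat_lit 200, nat_lit 200, nat_lit 0, nat_lit 6, [], cols, erots, gens⟩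

theorem all : ∀ c < 53, chk c = true := fun c hc =>
  allR_glue (d := 6) (n := 1) (forall_lt_succ' forall_lt_zero' b0) c (lt_of_lt_of_le hc (by norm_num))

/-- the relators used -/
def R : List (List ℕ) := [[nat_lit 2, nat_lit 2],
  [nat_lit 3, nat_lit 3],
  [nat_lit 4, nat_lit 4],
  [nat_lit 5, nat_lit 5],
  [nat_lit 10, nat_lit 10],
  [nat_lit 11, nat_lit 11],
  [nat_lit 2, nat_lit 3, nat_lit 2, nat_lit 3, nat_lit 2, nat_lit 3],
  [nat_lit 2, nat_lit 4, nat_lit 2, nat_lit 4],
  [nat_lit 2, nat_lit 5, nat_lit 2, nat_lit 5],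
  [nat_lit 2, nat_lit 10, nat_lit 2, nat_lit 10],
  [nat_lit 2, nat_lit 11, nat_lit 2, nat_lit 11],
  [nat_lit 3, nat_lit 4, nat_lit 3, nat_lit 4, nat_lit 3, nat_lit 4],
  [nat_lit 3, nat_lit 5, nat_lit 3, nat_lit 5],
  [nat_lit 3, nat_lit 10, nat_lit 3, nat_lit 10],
  [nat_lit 3, nat_lit 11, nat_lit 3, nat_lit 11],
  [nat_lit 4, nat_lit 5, nat_lit 4, nat_lit 5, nat_lit 4, nat_lit 5],
  [nat_lit 4, nat_lit 10, nat_lit 4, nat_lit 10],
  [nat_lit 4, nat_lit 11, nat_lit 4, nat_lit 11],
  [nat_lit 5, nat_lit 10, nat_lit 5, nat_lit 10, nat_lit 5, nat_lit 10],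
  [nat_lit 5, nat_lit 11, nat_lit 5, nat_lit 11],
  [nat_lit 10, nat_lit 11, nat_lit 10, nat_lit 11, nat_lit 10, nat_lit 11]]

theorem cert : Cert T (R.map fun r => (r, 0)) ([].map fun y => (y, 0)) 18 13 [] :=
  ⟨by decide +kernel, ⟨[[(0, 0), (7, 0), (8, 0), (9, 0), (10, 0)], [(1, 0), (12, 0), (13, 0), (6, 1), (14, 0)], [(2, 0), (16, 0), (11, 1), (17, 0)], [(3, 0), (15, 1), (19, 0)], [(4, 0), (18, 1)], [(5, 0), (20, 1)]], [], by decide +kernel⟩, by decide +kernel, Or.inl ⟨rfl, all⟩⟩

/-- the traced words -/
def U : List (List ℕ) := [[nat_lit 5, nat_lit 10, nat_lit 4, nat_lit 5, nat_lit 3, nat_lit 4, nat_lit 2, nat_lit 3, nat_lit 2, nat_lit 3, nat_lit 2, nat_lit 4, nat_lit 3, nat_lit 5, nat_lit 4, nat_lit 10, nat_lit 5, nat_lit 10],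
  [nat_lit 10, nat_lit 11, nat_lit 5, nat_lit 10, nat_lit 4, nat_lit 5, nat_lit 3, nat_lit 4, nat_lit 2, nat_lit 3, nat_lit 2, nat_lit 3, nat_lit 2, nat_lit 4, nat_lit 3, nat_lit 5, nat_lit 4, nat_lit 10, nat_lit 5, nat_lit 11, nat_lit 10, nat_lit 11]]

theorem mem {Γ : Type*} [Group Γ] {x : ℕ → Γ} (hR : ∀ r ∈ R, ev x r = 1) :
    ∀ u ∈ U, ev x u ∈ genL x [] :=
  cert.mem_genL hR (by decide +kernel)

end Cfsg.Agent.L0.Fi24Z5
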