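import Cfsg.Agent.L0.TrivMult
import Cfsg.Prelude.Def_Spor_Fi24
import Cfsg.Agent.L0.Fi23.Grp
import Cfsg.Agent.L0.Fi24.Z1
import Cfsg.Agent.L0.Fi24.Z2
import Cfsg.Agent.L0.Fi24.Z3
import Cfsg.Agent.L0.Fi24.Z4
import Cfsg.Agent.L0.Fi24.Z5
import Cfsg.Agent.L0.Fi24.Tc2

/-! The presented group Fi24: the subgroup `Fi23 × 2`. -/

set_option autoImplicit false
set_option maxRecDepth 100000

namespace Cfsg.Agent.L0.Fi24G

open Cfsg.Spor

/-- letter of a generator -/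
def idx : Fi24.Gen → ℕ
  | .l => 0
  | .k => 1
  | .a => 2
  | .b => 3
  | .c => 4
  | .d => 5
  | .e => 6
  | .f => 7
  | .g => 8
  | .j => 9
  | .h => 10
  | .i => 11

/-- all generators -/
def all : List Fi24.Gen := [.l, .k, .a, .b, .c, .d, .e, .f, .g, .j, .h, .i]

/-- the letters -/
def x (i : ℕ) : Fi24 := ([PresentedGroup.of .l, PresentedGroup.of .k, PresentedGroup.of .a, PresentedGroup.of .b, PresentedGroup.of .c, PresentedGroup.of .d, PresentedGroup.of .e, PresentedGroup.of .f, PresentedGroup.of .g, PresentedGroup.of .j, PresentedGroup.of .h, PresentedGroup.of .i] : List Fi24).getD i 1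

theorem hall : ∀ a, a ∈ all := by intro a; cases a <;> decide

theorem hx : ∀ a, x (idx a) = PresentedGroup.of a := by intro a; cases a <;> rfl

theorem hiv : ∀ a, x (idx a) = (PresentedGroup.of a)⁻¹ := by
  intro a; cases a <;> exact cox_inv (by decide)

/-- the defining relators -/
def R0 : List (List ℕ) := coxR idx idx Fi24.edges Fi24.extra all

theorem rel0 : ∀ r ∈ R0, ev x r = 1 := cox_rel hx hiv

theorem gen_top : genL x [0, 1, 2, 3, 4, 5, 6, 7, 8, 9, 10, 11] = ⊤ := cox_genL hx (by intro a; cases a <;> decide)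

theorem sq {i : ℕ} (hi : i < 12) : x i * x i = 1 := by
  have : ∀ i < 12, [i, i] ∈ R0 := by decide +kernel
  simpa using rel0 _ (this i hi)

theorem comm {a b : ℕ} (h : a < 12 ∧ b < 12 ∧ [a, b, a, b] ∈ R0) : Commute (x a) (x b) :=
  commute_of_rel (sq h.1) (sq h.2.1) (rel0 _ h.2.2)

/-- the central involution of the `D₆` subdiagram -/
def w : List ℕ := [2, 3, 4, 5, 6, 10, 2, 3, 4, 5, 6, 10, 2, 3, 4, 5, 6, 10, 2, 3, 4, 5, 6, 10, 2, 3, 4, 5, 6, 10]

/-- the tenth power of the spider word -/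
def z : List ℕ := [5, 4, 3, 5, 6, 7, 5, 10, 11, 5, 4, 3, 5, 6, 7, 5, 10, 11, 5, 4, 3, 5, 6, 7, 5, 10, 11, 5, 4, 3, 5, 6, 7, 5, 10, 11, 5, 4, 3, 5, 6, 7, 5, 10, 11, 5, 4, 3, 5, 6, 7, 5, 10, 11, 5, 4, 3, 5, 6, 7, 5, 10, 11, 5, 4, 3, 5, 6, 7, 5, 10, 11, 5, 4, 3, 5, 6, 7, 5, 10, 11, 5, 4, 3, 5, 6, 7, 5, 10, 11]

/-- two more letters -/
noncomputable def x' (i : ℕ) : Fi24 := if i = 12 then ev x w else if i = 13 then (ev x w)⁻¹ else x i

theorem ev_x' {u : List ℕ} (h : ∀ i ∈ u, i < 12) : ev x' u = ev x u :=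
  ev_congr fun i hi => by
    have := h i hi
    rw [x', if_neg (by omega), if_neg (by omega)]

theorem rel' : ∀ r ∈ [[12, 13], [13, 12], 13 :: w] ++ R0, ev x' r = 1 := by
  intro r hr
  rcases List.mem_append.mp hr with h | h
  · simp only [List.mem_cons, List.not_mem_nil, or_false] at h
    rcases h with rfl | rfl | rfl
    · simp [x']
    · simp [x']
    · rw [ev_cons, ev_x' (by decide +kernel)]; simp [x']
  · rw [ev_x' (lettersLt_iff.mp (by decide +kernel : lettersLt 12 R0 = true) r h), rel0 r h]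

theorem comm_w : Commute (x 2) (ev x w) := by
  have h := eq_one_of_mem_genL_nil (Fi24Z3.mem (rel_sub rel0 (by decide +kernel))
    ([2] ++ w ++ [2] ++ w.reverse) (by decide +kernel))
  rw [ev_append, ev_append, ev_append, ev_reverse fun a ha => sq (by revert a; decide +kernel),
    ev_singleton, mul_inv_eq_one, ← eq_mul_inv_iff_mul_eq,
    ← eq_inv_of_mul_eq_one_left (sq (i := 2) (by norm_num))] at h
  exact h

theorem cent : genL x' [0, 2, 4, 5, 6, 7, 8, 10, 11, 12, 13] ≤ Subgroup.centralizer {x 2} := by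
  refine genL_le fun i hi => Subgroup.mem_centralizer_singleton_iff.mpr ?_
  simp only [List.mem_cons, List.not_mem_nil, or_false] at hi
  rcases hi with rfl | rfl | rfl | rfl | rfl | rfl | rfl | rfl | rfl | rfl | rfl
  · exact comm (a := 0) (by decide +kernel)
  · rfl
  · exact comm (a := 4) (by decide +kernel)
  · exact comm (a := 5) (by decide +kernel)
  · exact comm (a := 6) (by decide +kernel)
  · exact comm (a := 7) (by decide +kernel)
  · exact comm (a := 8) (by decide +kernel)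
  · exact comm (a := 10) (by decide +kernel)
  · exact comm (a := 11) (by decide +kernel)
  · exact comm_w.symm
  · exact comm_w.symm.inv_left

theorem hz1 (u : List ℕ) (h : u ∈ Fi24Z1.U ∧ ∀ i ∈ u, i < 12) : Commute (x 2) (ev x u) := by
  have := Fi24Z1.mem (rel_sub rel' (by decide +kernel)) u h.1
  rw [ev_x' h.2] at this
  exact (Subgroup.mem_centralizer_singleton_iff.mp (cent
    (genL_le (fun i hi => mem_genL x' (by revert i; decide)) this))).symm

theorem hz2 (u : List ℕ) (h : u ∈ Fi24Z2.U ∧ ∀ i ∈ u, i < 12) : Commute (x 2) (ev x u) := by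
  have := Fi24Z2.mem (rel_sub rel' (by decide +kernel)) u h.1
  rw [ev_x' h.2] at this
  exact (Subgroup.mem_centralizer_singleton_iff.mp (cent this)).symm

theorem z_comm {i : ℕ} (hi : i < 10) : Commute (ev x z) (x (i + 2)) := by
  interval_cases i
  · exact (hz1 z (by decide +kernel)).symm
  · exact commute_conj (a := 2) (v := [3, 2]) (fun i hi => sq (by revert i; decide)) (sq (by norm_num))
      (eq_one_of_mem_genL_nil (Fi24Z4.mem (rel_sub rel0 (by decide +kernel)) _ (by decide +kernel)))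
      (hz1 _ (by decide +kernel))
  · exact commute_conj (a := 2) (v := [3, 2, 4, 3]) (fun i hi => sq (by revert i; decide)) (sq (by norm_num))
      (eq_one_of_mem_genL_nil (Fi24Z4.mem (rel_sub rel0 (by decide +kernel)) _ (by decide +kernel)))
      (hz1 _ (by decide +kernel))
  · exact commute_conj (a := 2) (v := [3, 2, 4, 3, 5, 4]) (fun i hi => sq (by revert i; decide)) (sq (by norm_num))
      (eq_one_of_mem_genL_nil (Fi24Z4.mem (rel_sub rel0 (by decide +kernel)) _ (by decide +kernel)))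
      (hz1 _ (by decide +kernel))
  · exact commute_conj (a := 2) (v := [3, 2, 4, 3, 5, 4, 6, 5]) (fun i hi => sq (by revert i; decide)) (sq (by norm_num))
      (eq_one_of_mem_genL_nil (Fi24Z4.mem (rel_sub rel0 (by decide +kernel)) _ (by decide +kernel)))
      (hz1 _ (by decide +kernel))
  · exact commute_conj (a := 2) (v := [3, 2, 4, 3, 5, 4, 6, 5, 7, 6]) (fun i hi => sq (by revert i; decide)) (sq (by norm_num))
      (eq_one_of_mem_genL_nil (Fi24Z4.mem (rel_sub rel0 (by decide +kernel)) _ (by decide +kernel)))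
      (hz1 _ (by decide +kernel))
  · exact commute_conj (a := 2) (v := [3, 2, 4, 3, 5, 4, 6, 5, 7, 6, 8, 7]) (fun i hi => sq (by revert i; decide)) (sq (by norm_num))
      (eq_one_of_mem_genL_nil (Fi24Z4.mem (rel_sub rel0 (by decide +kernel)) _ (by decide +kernel)))
      (hz2 _ (by decide +kernel))
  · exact (commute_ev fun a ha => comm (by revert a; decide +kernel)).symm
  · exact commute_conj (a := 2) (v := [3, 2, 4, 3, 5, 4, 10, 5]) (fun i hi => sq (by revert i; decide)) (sq (by norm_num))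
      (eq_one_of_mem_genL_nil (Fi24Z5.mem (rel_sub rel0 (by decide +kernel)) _ (by decide +kernel)))
      (hz1 _ (by decide +kernel))
  · exact commute_conj (a := 2) (v := [3, 2, 4, 3, 5, 4, 10, 5, 11, 10]) (fun i hi => sq (by revert i; decide)) (sq (by norm_num))
      (eq_one_of_mem_genL_nil (Fi24Z5.mem (rel_sub rel0 (by decide +kernel)) _ (by decide +kernel)))
      (hz1 _ (by decide +kernel))

theorem l_comm {i : ℕ} (hi : i < 10) : Commute (x 0) (x (i + 2)) :=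
  comm (by revert i; decide +kernel)

/-- the generators of the subgroup `Fi23` -/
noncomputable def y (i : ℕ) : Fi24 := x (i + 2) * x 0

theorem ev_y {r : List ℕ} (h : ∀ i ∈ r, i < 10) :
    ev y r = ev x (r.map (· + 2)) * x 0 ^ (r.length % 2) := by
  rw [ev_map, show y = fun i => x (i + 2) * x 0 from rfl,
    ev_mul_commuting (x := fun i => x (i + 2)) fun a ha => l_comm (h a ha)]
  congr 1
  conv_lhs => rw [← Nat.div_add_mod r.length 2, pow_add, pow_mul, pow_two, sq (by norm_num),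
    one_pow, one_mul]

/-- the relators of `Fi23` other than the spider relator -/
def R1 : List (List ℕ) := [[0, 0],
  [1, 1],
  [2, 2],
  [3, 3],
  [4, 4],
  [5, 5],
  [6, 6],
  [7, 7],
  [8, 8],
  [9, 9],
  [0, 1, 0, 1, 0, 1],
  [0, 2, 0, 2],
  [0, 3, 0, 3],
  [0, 4, 0, 4],
  [0, 5, 0, 5],
  [0, 6, 0, 6],
  [0, 7, 0, 7],
  [0, 8, 0, 8],
  [0, 9, 0, 9],
  [1, 2, 1, 2, 1, 2],
  [1, 3, 1, 3],
  [1, 4, 1, 4],
  [1, 5, 1, 5],
  [1, 6, 1, 6],
  [1, 7, 1, 7],
  [1, 8, 1, 8],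
  [1, 9, 1, 9],
  [2, 3, 2, 3, 2, 3],
  [2, 4, 2, 4],
  [2, 5, 2, 5],
  [2, 6, 2, 6],
  [2, 7, 2, 7],
  [2, 8, 2, 8],
  [2, 9, 2, 9],
  [3, 4, 3, 4, 3, 4],
  [3, 5, 3, 5],
  [3, 6, 3, 6],
  [3, 7, 3, 7],
  [3, 8, 3, 8, 3, 8],
  [3, 9, 3, 9],
  [4, 5, 4, 5, 4, 5],
  [4, 6, 4, 6],
  [4, 7, 4, 7],
  [4, 8, 4, 8],
  [4, 9, 4, 9],
  [5, 6, 5, 6, 5, 6],
  [5, 7, 5, 7],
  [5, 8, 5, 8],
  [5, 9, 5, 9],
  [6, 7, 6, 7, 6, 7],
  [6, 8, 6, 8],
  [6, 9, 6, 9],
  [7, 8, 7, 8],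
  [7, 9, 7, 9],
  [8, 9, 8, 9, 8, 9],
  [0, 1, 2, 3, 4, 5, 8, 0, 1, 2, 3, 4, 5, 8, 0, 1, 2, 3, 4, 5, 8, 0, 1, 2, 3, 4, 5, 8, 0, 1, 2, 3, 4, 5, 8, 0, 1, 2, 3, 4, 5, 8, 0, 1, 2, 3, 4, 5, 8, 0, 1, 2, 3, 4, 5, 8, 0, 1, 2, 3, 4, 5, 8]]

theorem rel1 : ∀ r ∈ R1, ev y r = 1 := by
  have h : ∀ r ∈ R1, (∀ i ∈ r, i < 10) ∧ (r.length % 2 = 0 ∧ r.map (· + 2) ∈ R0 ∨
      r.length % 2 = 1 ∧ 0 :: (r.map (· + 2)).reverse ∈ R0) := by decide +kernel
  intro r hr
  obtain ⟨h1, h2⟩ := h r hr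
  rw [ev_y h1]
  rcases h2 with ⟨h3, h4⟩ | ⟨h3, h4⟩
  · rw [h3, rel0 _ h4]; simp
  · have := rel0 _ h4
    rw [ev_cons, ev_reverse fun a ha => sq (by
      obtain ⟨b, hb, rfl⟩ := List.mem_map.mp ha
      have := h1 b hb
      omega), mul_inv_eq_one] at this
    rw [h3, ← this, pow_one, sq (by norm_num)]

theorem isPres23 : IsPres Fi23G.x 10 Fi23Act.R :=
  isPres_cox Fi23G.hall Fi23G.hx Fi23G.hiv (by decide +kernel) (by decide +kernel)
    (by decide +kernel) (by decide +kernel) (by decide +kernel)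

theorem rel23 (hM : UpperMult Fi23 (Multiplicative (ZMod 1))) : ∀ r ∈ Fi23Act.R, ev y r = 1 := by
  haveI := Fi23G.card_le.1
  refine rel_of_trivial isPres23 hM y (fun r hr i hi => ?_) rel1 (by decide +kernel)
    (Ls := [[(-3, 1), (-3, 2), (-6, 3), (-3, 4), (-3, 5), (-6, 8), (4, 9), (-4, 18), (-1, 19), (1, 38), (-1, 40), (1, 55)],
  [(-3, 0), (-3, 2), (-3, 3), (-6, 4), (-6, 5), (-3, 8), (1, 9), (-1, 10), (-1, 19), (-1, 26), (-1, 38), (1, 40), (1, 55)],
  [(-3, 0), (-3, 1), (-3, 3), (-3, 4), (-3, 5), (-3, 8), (4, 9), (-1, 10), (-4, 33), (-1, 38), (-1, 40), (1, 55)],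
  [(-3, 0), (-3, 1), (-3, 2), (-3, 4), (-3, 5), (-3, 8), (1, 9), (-1, 10), (-1, 27), (-1, 38), (-1, 39), (-1, 40), (1, 55)],
  [(-3, 0), (-3, 1), (-3, 2), (-3, 3), (-3, 5), (-3, 8), (4, 9), (-1, 10), (-1, 27), (1, 34), (-1, 38), (-1, 40), (-4, 44), (1, 55)],
  [(-3, 0), (-3, 1), (-3, 2), (-3, 3), (-6, 4), (-3, 8), (4, 9), (-1, 10), (-1, 27), (1, 34), (-1, 38), (-4, 48), (1, 55)],
  [(-3, 0), (-3, 1), (-3, 2), (-3, 3), (-6, 4), (-6, 5), (-3, 8), (1, 9), (-1, 10), (-1, 27), (1, 34), (-1, 38), (1, 45), (-1, 51), (1, 55)],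
  [(-3, 0), (-3, 1), (-3, 2), (-3, 3), (-6, 4), (-6, 5), (-3, 6), (-3, 8), (1, 9), (-1, 10), (-1, 27), (1, 34), (-1, 38), (1, 45), (1, 49), (-1, 53), (1, 55)],
  [(-3, 0), (-3, 1), (-3, 2), (-3, 3), (-3, 4), (-3, 5), (4, 7), (-1, 10), (-1, 27), (-1, 40), (-4, 52), (1, 55)],
  [(3, 0), (3, 1), (3, 2), (3, 3), (3, 4), (3, 5), (1, 7), (3, 8), (1, 10), (1, 27), (1, 40), (-1, 53), (1, 54), (-1, 55)]]) (by decide +kernel)
  have h : ∀ r ∈ Fi23Act.R, r ∈ R1 ∨ ((∀ i ∈ r, i < 10) ∧ r.length % 2 = 0 ∧ r.map (· + 2) = z) := by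
    decide +kernel
  rcases h r hr with h1 | ⟨h1, h2, h3⟩
  · rw [rel1 r h1]; exact Commute.one_left _
  · rw [ev_y h1, h2, h3, pow_zero, mul_one]
    exact (z_comm hi).mul_right
      (commute_ev fun a ha => comm (by revert a; decide +kernel)).symm

theorem sub_le (hM : UpperMult Fi23 (Multiplicative (ZMod 1))) :
    CardLe x [0, 2, 3, 4, 5, 6, 7, 8, 9, 10, 11] (2 * 4089470473293004800) := by
  haveI := Fi23G.card_le.1
  obtain ⟨f, hf⟩ := isPres23.exists_hom y (rel23 hM)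
  let y' : ℕ → Fi24 := fun i => if i = 10 then x 0 else y i
  haveI : Finite f.range := Finite.of_surjective _ f.rangeRestrict_surjective
  have h1 : CardLe y' [0, 1, 2, 3, 4, 5, 6, 7, 8, 9] 4089470473293004800 :=
    cardLe_of_le (K := f.range) (fun i hi => by
      have : i < 10 := by revert i; decide
      exact ⟨_, (hf i this).trans (if_neg (by omega)).symm⟩)
      ((Nat.card_le_card_of_surjective _ f.rangeRestrict_surjective).trans Fi23G.card_le.2)
  have h2 : ∀ i < 10, y i * x 0 = x (i + 2) := fun i _ => by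
    rw [y, mul_assoc, sq (by norm_num), mul_one]
  have h3 := Fi24Tc2.bound (x := y') (fun r hr => by
    have h : ∀ r ∈ Fi24Tc2.R, r = [10, 10] ∨ ∃ i < 10, r = [i, i] ∨ r = [i, 10, i, 10] := by
      decide +kernel
    rcases h r hr with rfl | ⟨i, hi, rfl | rfl⟩
    · simpa [y'] using sq (i := 0) (by norm_num)
    · have := rel1 [i, i] (by revert i; decide +kernel)
      simpa [y', hi.ne] using this
    · have := sq (i := i + 2) (by omega)
      rw [← h2 i hi] at this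
      simpa [y', hi.ne, mul_assoc] using this) h1
  refine h3.mono fun i hi => ?_
  have h4 : y' 10 ∈ genL y' [0, 1, 2, 3, 4, 5, 6, 7, 8, 9, 10] := mem_genL _ (by decide)
  by_cases h0 : i = 0
  · subst h0; exact h4
  · have h5 : i - 2 < 10 ∧ i = i - 2 + 2 ∧ i - 2 ∈ [0, 1, 2, 3, 4, 5, 6, 7, 8, 9, 10] := by
      revert i; decide
    rw [h5.2.1, ← h2 _ h5.1]
    have h6 := mem_genL y' h5.2.2
    exact Subgroup.mul_mem _ (by simpa [y', h5.1.ne] using h6) h4

end Cfsg.Agent.L0.Fi24G
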