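import Cfsg.Agent.L0.Fi24.Tc1T

/-! Generated checks. -/

set_option autoImplicit false
set_option maxRecDepth 100000

namespace Cfsg.Agent.L0.Fi24Tc1

theorem b560 : allR chk 9 560 = true := by decide +kernel
theorem b561 : allR chk 9 561 = true := by decide +kernel
theorem b562 : allR chk 9 562 = true := by decide +kernel
theorem b563 : allR chk 9 563 = true := by decide +kernel
theorem b564 : allR chk 9 564 = true := by decide +kernel
theorem b565 : allR chk 9 565 = true := by decide +kernel
theorem b566 : allR chk 9 566 = true := by decide +kernel
theorem b567 : allR chk 9 567 = true := by decide +kernel
theorem b568 : allR chk 9 568 = true := by decide +kernel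
theorem b569 : allR chk 9 569 = true := by decide +kernel
theorem b570 : allR chk 9 570 = true := by decide +kernel
theorem b571 : allR chk 9 571 = true := by decide +kernel
theorem b572 : allR chk 9 572 = true := by decide +kernel
theorem b573 : allR chk 9 573 = true := by decide +kernel
theorem b574 : allR chk 9 574 = true := by decide +kernel
theorem b575 : allR chk 9 575 = true := by decide +kernel
theorem b576 : allR chk 9 576 = true := by decide +kernel
theorem b577 : allR chk 9 577 = true := by decide +kernel
theorem b578 : allR chk 9 578 = true := by decide +kernel
theorem b579 : allR chk 9 579 = true := by decide +kernel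
theorem b580 : allR chk 9 580 = true := by decide +kernel
theorem b581 : allR chk 9 581 = true := by decide +kernel
theorem b582 : allR chk 9 582 = true := by decide +kernel
theorem b583 : allR chk 9 583 = true := by decide +kernel
theorem b584 : allR chk 9 584 = true := by decide +kernel
theorem b585 : allR chk 9 585 = true := by decide +kernel
theorem b586 : allR chk 9 586 = true := by decide +kernel
theorem b587 : allR chk 9 587 = true := by decide +kernel
theorem b588 : allR chk 9 588 = true := by decide +kernel
theorem b589 : allR chk 9 589 = true := by decide +kernel
theorem b590 : allR chk 9 590 = true := by decide +kernel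
theorem b591 : allR chk 9 591 = true := by decide +kernel
theorem b592 : allR chk 9 592 = true := by decide +kernel
theorem b593 : allR chk 9 593 = true := by decide +kernel
theorem b594 : allR chk 9 594 = true := by decide +kernel
theorem b595 : allR chk 9 595 = true := by decide +kernel
theorem b596 : allR chk 9 596 = true := by decide +kernel
theorem b597 : allR chk 9 597 = true := by decide +kernel
theorem b598 : allR chk 9 598 = true := by decide +kernel
theorem b599 : allR chk 9 599 = true := by decide +kernel

end Cfsg.Agent.L0.Fi24Tc1
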