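import Cfsg.Agent.L0.CosetChain
import Cfsg.Agent.L0.Fi24.Tc1D0
import Cfsg.Agent.L0.Fi24.Tc1D1
import Cfsg.Agent.L0.Fi24.Tc1D2
import Cfsg.Agent.L0.Fi24.Tc1D3
import Cfsg.Agent.L0.Fi24.Tc1D4
import Cfsg.Agent.L0.Fi24.Tc1D5
import Cfsg.Agent.L0.Fi24.Tc1D6
import Cfsg.Agent.L0.Fi24.Tc1D7
import Cfsg.Agent.L0.Fi24.Tc1D8
import Cfsg.Agent.L0.Fi24.Tc1D9
import Cfsg.Agent.L0.Fi24.Tc1D10
import Cfsg.Agent.L0.Fi24.Tc1D11
import Cfsg.Agent.L0.Fi24.Tc1D12
import Cfsg.Agent.L0.Fi24.Tc1D13
import Cfsg.Agent.L0.Fi24.Tc1D14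
import Cfsg.Agent.L0.Fi24.Tc1D15
import Cfsg.Agent.L0.Fi24.Tc1D16
import Cfsg.Agent.L0.Fi24.Tc1D17
import Cfsg.Agent.L0.Fi24.Tc1D18
import Cfsg.Agent.L0.Fi24.Tc1D19
import Cfsg.Agent.L0.Fi24.Tc1D20
import Cfsg.Agent.L0.Fi24.Tc1D21

/-! Generated coset table certificate. -/

set_option autoImplicit false
set_option maxRecDepth 100000

namespace Cfsg.Agent.L0.Fi24Tc1

noncomputable def tree : BT := (.node (.node (.node (.node (.node (.node (.node (.node (.node t0 t256) (.node t128 t384)) (.node (.node t64 t320) (.node t192 t448))) (.node (.node (.node t32 t288) (.node t160 t416)) (.node (.node t96 t352) (.node t224 t480)))) (.node (.node (.node (.node t16 t272) (.node t144 t400)) (.node (.node t80 t336) (.node t208 t464))) (.node (.node (.node t48 t304) (.node t176 t432)) (.node (.node t112 t368) (.node t240 t496))))) (.node (.node (.node (.node (.node t8 t264) (.node t136 t392)) (.node (.node t72 t328) (.node t200 t456))) (.node (.node (.node t40 t296) (.node t168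 t424)) (.node (.node t104 t360) (.node t232 t488)))) (.node (.node (.node (.node t24 t280) (.node t152 t408)) (.node (.node t88 t344) (.node t216 t472))) (.node (.node (.node t56 t312) (.node t184 t440)) (.node (.node t120 t376) (.node t248 t504)))))) (.node (.node (.node (.node (.node (.node t4 t260) (.node t132 t388)) (.node (.node t68 t324) (.node t196 t452))) (.node (.node (.node t36 t292) (.node t164 t420)) (.node (.node t100 t356) (.node t228 t484)))) (.node (.node (.node (.node t20 t276) (.node t148 t404)) (.node (.node t84 t340) (.node t212 t468))) (.node (.node (.node t52 t308) (.node t180 t436)) (.node (.node t116 t372) (.node t244 t500))))) (.node (.node (.node (.node (.node t12 t268) (.node t140 t396)) (.node (.node t76 t332) (.node t204 t460))) (.node (.node (.node t44 t300) (.node t172 t428)) (.node (.node t108 t364) (.node t236 t492)))) (.node (.node (.node (.node t28 t284) (.node t156 t412)) (.node (.node t92 t348) (.node t220 t476))) (.node (.node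 (.node t60 t316) (.node t188 t444)) (.node (.node t124 t380) (.node t252 t508))))))) (.node (.node (.node (.node (.node (.node (.node t2 t258) (.node t130 t386)) (.node (.node t66 t322) (.node t194 t450))) (.node (.node (.node t34 t290) (.node t162 t418)) (.node (.node t98 t354) (.node t226 t482)))) (.node (.node (.node (.node t18 t274) (.node t146 t402)) (.node (.node t82 t338) (.node t210 t466))) (.node (.node (.node t50 t306) (.node t178 t434)) (.node (.node t114 t370) (.node t242 t498))))) (.node (.node (.node (.node (.node t10 t266) (.node t138 t394)) (.node (.node t74 t330) (.node t202 t458))) (.node (.node (.node t42 t298) (.node t170 t426)) (.node (.node t106 t362) (.node t234 t490)))) (.node (.node (.node (.node t26 t282) (.node t154 t410)) (.node (.node t90 t346) (.node t218 t474))) (.node (.node (.node t58 t314) (.node t186 t442)) (.node (.node t122 t378) (.node t250 t506)))))) (.node (.node (.node (.node (.node (.node t6 t262) (.node t134 t390)) (.node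 (.node t70 t326) (.node t198 t454))) (.node (.node (.node t38 t294) (.node t166 t422)) (.node (.node t102 t358) (.node t230 t486)))) (.node (.node (.node (.node t22 t278) (.node t150 t406)) (.node (.node t86 t342) (.node t214 t470))) (.node (.node (.node t54 t310) (.node t182 t438)) (.node (.node t118 t374) (.node t246 t502))))) (.node (.node (.node (.node (.node t14 t270) (.node t142 t398)) (.node (.node t78 t334) (.node t206 t462))) (.node (.node (.node t46 t302) (.node t174 t430)) (.node (.node t110 t366) (.node t238 t494)))) (.node (.node (.node (.node t30 t286) (.node t158 t414)) (.node (.node t94 t350) (.node t222 t478))) (.node (.node (.node t62 t318) (.node t190 t446)) (.node (.node t126 t382) (.node t254 t510)))))))) (.node (.node (.node (.node (.node (.node (.node (.node t1 t257) (.node t129 t385)) (.node (.node t65 t321) (.node t193 t449))) (.node (.node (.node t33 t289) (.node t161 t417)) (.node (.node t97 t353) (.node t225 t481)))) (.node (.node (.node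 (.node t17 t273) (.node t145 t401)) (.node (.node t81 t337) (.node t209 t465))) (.node (.node (.node t49 t305) (.node t177 t433)) (.node (.node t113 t369) (.node t241 t497))))) (.node (.node (.node (.node (.node t9 t265) (.node t137 t393)) (.node (.node t73 t329) (.node t201 t457))) (.node (.node (.node t41 t297) (.node t169 t425)) (.node (.node t105 t361) (.node t233 t489)))) (.node (.node (.node (.node t25 t281) (.node t153 t409)) (.node (.node t89 t345) (.node t217 t473))) (.node (.node (.node t57 t313) (.node t185 t441)) (.node (.node t121 t377) (.node t249 t505)))))) (.node (.node (.node (.node (.node (.node t5 t261) (.node t133 t389)) (.node (.node t69 t325) (.node t197 t453))) (.node (.node (.node t37 t293) (.node t165 t421)) (.node (.node t101 t357) (.node t229 t485)))) (.node (.node (.node (.node t21 t277) (.node t149 t405)) (.node (.node t85 t341) (.node t213 t469))) (.node (.node (.node t53 t309) (.node t181 t437)) (.node (.node t117 t373) (.node t245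 t501))))) (.node (.node (.node (.node (.node t13 t269) (.node t141 t397)) (.node (.node t77 t333) (.node t205 t461))) (.node (.node (.node t45 t301) (.node t173 t429)) (.node (.node t109 t365) (.node t237 t493)))) (.node (.node (.node (.node t29 t285) (.node t157 t413)) (.node (.node t93 t349) (.node t221 t477))) (.node (.node (.node t61 t317) (.node t189 t445)) (.node (.node t125 t381) (.node t253 t509))))))) (.node (.node (.node (.node (.node (.node (.node t3 t259) (.node t131 t387)) (.node (.node t67 t323) (.node t195 t451))) (.node (.node (.node t35 t291) (.node t163 t419)) (.node (.node t99 t355) (.node t227 t483)))) (.node (.node (.node (.node t19 t275) (.node t147 t403)) (.node (.node t83 t339) (.node t211 t467))) (.node (.node (.node t51 t307) (.node t179 t435)) (.node (.node t115 t371) (.node t243 t499))))) (.node (.node (.node (.node (.node t11 t267) (.node t139 t395)) (.node (.node t75 t331) (.node t203 t459))) (.node (.node (.node t43 t299) (.node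 t171 t427)) (.node (.node t107 t363) (.node t235 t491)))) (.node (.node (.node (.node t27 t283) (.node t155 t411)) (.node (.node t91 t347) (.node t219 t475))) (.node (.node (.node t59 t315) (.node t187 t443)) (.node (.node t123 t379) (.node t251 t507)))))) (.node (.node (.node (.node (.node (.node t7 t263) (.node t135 t391)) (.node (.node t71 t327) (.node t199 t455))) (.node (.node (.node t39 t295) (.node t167 t423)) (.node (.node t103 t359) (.node t231 t487)))) (.node (.node (.node (.node t23 t279) (.node t151 t407)) (.node (.node t87 t343) (.node t215 t471))) (.node (.node (.node t55 t311) (.node t183 t439)) (.node (.node t119 t375) (.node t247 t503))))) (.node (.node (.node (.node (.node t15 t271) (.node t143 t399)) (.node (.node t79 t335) (.node t207 t463))) (.node (.node (.node t47 t303) (.node t175 t431)) (.node (.node t111 t367) (.node t239 t495)))) (.node (.node (.node (.node t31 t287) (.node t159 t415)) (.node (.node t95 t351) (.node t223 t479))) (.node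 (.node (.node t63 t319) (.node t191 t447)) (.node (.node t127 t383) (.node t255 t511)))))))))

noncomputable def row : ℕ → ℕ := rowOf tree (nat_lit 4) (nat_lit 15) (nat_lit 508) (nat_lit 0xfffffffffffffffffffffffffffffffffffffffffffffffffffffffffffffffffffffffffffffffffffffffffffffffffffffffffffffffffffffffffffffff)

noncomputable def cols : List Col := [⟨nat_lit 34, nat_lit 1, [([nat_lit 34], nat_lit 0), ([nat_lit 384, nat_lit 34, nat_lit 384], nat_lit 0), ([nat_lit 419, nat_lit 34, nat_lit 419], nat_lit 0), ([nat_lit 209, nat_lit 34, nat_lit 209], nat_lit 0), ([nat_lit 244, nat_lit 34, nat_lit 244], nat_lit 0), ([nat_lit 174, nat_lit 34, nat_lit 174], nat_lit 0), ([nat_lit 104, nat_lit 34, nat_lit 104], nat_lit 0), ([nat_lit 279, nat_lit 34, nat_lit 279], nat_lit 0), ([nat_lit 139, nat_lit 34, nat_lit 139], nat_lit 0), ([nat_lit 314, nat_lit 34, nat_lit 314], nat_lit 0), ([nat_lit 349, nat_lit 34, nat_lit 349], nat_lit 0), ([nat_lit 384, nat_lit 279, nat_lit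 244, nat_lit 209, nat_lit 174, nat_lit 139, nat_lit 104, nat_lit 384, nat_lit 279, nat_lit 244, nat_lit 209, nat_lit 174, nat_lit 139, nat_lit 104, nat_lit 384, nat_lit 279, nat_lit 244, nat_lit 209, nat_lit 174, nat_lit 139, nat_lit 104, nat_lit 384, nat_lit 279, nat_lit 244, nat_lit 209, nat_lit 174, nat_lit 139, nat_lit 104, nat_lit 384, nat_lit 279, nat_lit 244, nat_lit 209, nat_lit 174, nat_lit 139, nat_lit 104, nat_lit 384, nat_lit 279, nat_lit 244, nat_lit 209, nat_lit 174, nat_lit 139, nat_lit 104, nat_lit 384, nat_lit 279, nat_lit 244, nat_lit 209, nat_lit 174, nat_lit 139, nat_lit 104, nat_lit 384, nat_lit 279, nat_lit 244, nat_lit 209, nat_lit 174, nat_lit 139, nat_lit 104, nat_lit 384, nat_lit 279, nat_lit 244, nat_lit 209, nat_lit 174, nat_lit 139, nat_lit 104], nat_lit 0), ([nat_lit 69, nat_lit 34, nat_lit 69, nat_lit 34, nat_lit 69], nat_lit 0), ([nat_lit 209, nat_lit 244, nat_lit 279, nat_lit 314, nat_lit 349, nat_lit 209, nat_lit 384, nat_lit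 419, nat_lit 209, nat_lit 174, nat_lit 139, nat_lit 104, nat_lit 69, nat_lit 34, nat_lit 209, nat_lit 244, nat_lit 279, nat_lit 314, nat_lit 349, nat_lit 209, nat_lit 384, nat_lit 419, nat_lit 209, nat_lit 174, nat_lit 139, nat_lit 104, nat_lit 69, nat_lit 34, nat_lit 209, nat_lit 244, nat_lit 279, nat_lit 314, nat_lit 349, nat_lit 209, nat_lit 384, nat_lit 419, nat_lit 209, nat_lit 174, nat_lit 139, nat_lit 104, nat_lit 69, nat_lit 34, nat_lit 209, nat_lit 244, nat_lit 279, nat_lit 314, nat_lit 349, nat_lit 209, nat_lit 384, nat_lit 419, nat_lit 209, nat_lit 174, nat_lit 139, nat_lit 104, nat_lit 69, nat_lit 34, nat_lit 209, nat_lit 244, nat_lit 279, nat_lit 314, nat_lit 349, nat_lit 209, nat_lit 384, nat_lit 419, nat_lit 209, nat_lit 174, nat_lit 139, nat_lit 104, nat_lit 69, nat_lit 34, nat_lit 209, nat_lit 244, nat_lit 279, nat_lit 314, nat_lit 349, nat_lit 209, nat_lit 384, nat_lit 419, nat_lit 209, nat_lit 174, nat_lit 139, nat_lit 104, nat_lit 69, nat_lit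 34, nat_lit 209, nat_lit 244, nat_lit 279, nat_lit 314, nat_lit 349, nat_lit 209, nat_lit 384, nat_lit 419, nat_lit 209, nat_lit 174, nat_lit 139, nat_lit 104, nat_lit 69, nat_lit 34, nat_lit 209, nat_lit 244, nat_lit 279, nat_lit 314, nat_lit 349, nat_lit 209, nat_lit 384, nat_lit 419, nat_lit 209, nat_lit 174, nat_lit 139, nat_lit 104, nat_lit 69, nat_lit 34, nat_lit 209, nat_lit 244, nat_lit 279, nat_lit 314, nat_lit 349, nat_lit 209, nat_lit 384, nat_lit 419, nat_lit 209, nat_lit 174, nat_lit 139, nat_lit 104, nat_lit 69, nat_lit 34, nat_lit 209, nat_lit 244, nat_lit 279, nat_lit 314, nat_lit 349, nat_lit 209, nat_lit 384, nat_lit 419, nat_lit 209, nat_lit 174, nat_lit 139, nat_lit 104, nat_lit 69, nat_lit 34, nat_lit 209, nat_lit 244, nat_lit 279, nat_lit 314, nat_lit 349, nat_lit 209, nat_lit 384, nat_lit 419, nat_lit 209, nat_lit 174, nat_lit 139, nat_lit 104, nat_lit 69, nat_lit 34, nat_lit 209, nat_lit 244, nat_lit 279, nat_lit 314, nat_lit 349, nat_lit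 209, nat_lit 384, nat_lit 419, nat_lit 209, nat_lit 174, nat_lit 139, nat_lit 104, nat_lit 69, nat_lit 34, nat_lit 209, nat_lit 244, nat_lit 279, nat_lit 314, nat_lit 349, nat_lit 209, nat_lit 384, nat_lit 419, nat_lit 209, nat_lit 174, nat_lit 139, nat_lit 104, nat_lit 69, nat_lit 34, nat_lit 209, nat_lit 244, nat_lit 279, nat_lit 314, nat_lit 349, nat_lit 209, nat_lit 384, nat_lit 419, nat_lit 209, nat_lit 174, nat_lit 139, nat_lit 104, nat_lit 69, nat_lit 34, nat_lit 209, nat_lit 244, nat_lit 279, nat_lit 314, nat_lit 349, nat_lit 209, nat_lit 384, nat_lit 419, nat_lit 209, nat_lit 174, nat_lit 139, nat_lit 104, nat_lit 69, nat_lit 34, nat_lit 209, nat_lit 244, nat_lit 279, nat_lit 314, nat_lit 349, nat_lit 209, nat_lit 384, nat_lit 419, nat_lit 209, nat_lit 174, nat_lit 139, nat_lit 104, nat_lit 69, nat_lit 34, nat_lit 209, nat_lit 244, nat_lit 279, nat_lit 314, nat_lit 349, nat_lit 209, nat_lit 384, nat_lit 419, nat_lit 209, nat_lit 174, nat_lit 139, nat_lit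 104, nat_lit 69], nat_lit 0)]⟩,
  ⟨nat_lit 69, nat_lit 0, [([nat_lit 69], nat_lit 0), ([nat_lit 139, nat_lit 69, nat_lit 139], nat_lit 0), ([nat_lit 419, nat_lit 69, nat_lit 419], nat_lit 0), ([nat_lit 384, nat_lit 69, nat_lit 384], nat_lit 0), ([nat_lit 209, nat_lit 69, nat_lit 209], nat_lit 0), ([nat_lit 174, nat_lit 69, nat_lit 174], nat_lit 0), ([nat_lit 244, nat_lit 69, nat_lit 244], nat_lit 0), ([nat_lit 279, nat_lit 69, nat_lit 279], nat_lit 0), ([nat_lit 314, nat_lit 69, nat_lit 314], nat_lit 0), ([nat_lit 349, nat_lit 69, nat_lit 349], nat_lit 0), ([nat_lit 34, nat_lit 69, nat_lit 34, nat_lit 69, nat_lit 34], nat_lit 0), ([nat_lit 104, nat_lit 69, nat_lit 104, nat_lit 69, nat_lit 104], nat_lit 0), ([nat_lit 34, nat_lit 209, nat_lit 244, nat_lit 279, nat_lit 314, nat_lit 349, nat_lit 209, nat_lit 384, nat_lit 419, nat_lit 209, nat_lit 174, nat_lit 139, nat_lit 104, nat_lit 69, nat_lit 34, nat_lit 209, nat_lit 244, nat_lit 279, nat_lit 314, nat_lit 349,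 nat_lit 209, nat_lit 384, nat_lit 419, nat_lit 209, nat_lit 174, nat_lit 139, nat_lit 104, nat_lit 69, nat_lit 34, nat_lit 209, nat_lit 244, nat_lit 279, nat_lit 314, nat_lit 349, nat_lit 209, nat_lit 384, nat_lit 419, nat_lit 209, nat_lit 174, nat_lit 139, nat_lit 104, nat_lit 69, nat_lit 34, nat_lit 209, nat_lit 244, nat_lit 279, nat_lit 314, nat_lit 349, nat_lit 209, nat_lit 384, nat_lit 419, nat_lit 209, nat_lit 174, nat_lit 139, nat_lit 104, nat_lit 69, nat_lit 34, nat_lit 209, nat_lit 244, nat_lit 279, nat_lit 314, nat_lit 349, nat_lit 209, nat_lit 384, nat_lit 419, nat_lit 209, nat_lit 174, nat_lit 139, nat_lit 104, nat_lit 69, nat_lit 34, nat_lit 209, nat_lit 244, nat_lit 279, nat_lit 314, nat_lit 349, nat_lit 209, nat_lit 384, nat_lit 419, nat_lit 209, nat_lit 174, nat_lit 139, nat_lit 104, nat_lit 69, nat_lit 34, nat_lit 209, nat_lit 244, nat_lit 279, nat_lit 314, nat_lit 349, nat_lit 209, nat_lit 384, nat_lit 419, nat_lit 209, nat_lit 174, nat_lit 139,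 nat_lit 104, nat_lit 69, nat_lit 34, nat_lit 209, nat_lit 244, nat_lit 279, nat_lit 314, nat_lit 349, nat_lit 209, nat_lit 384, nat_lit 419, nat_lit 209, nat_lit 174, nat_lit 139, nat_lit 104, nat_lit 69, nat_lit 34, nat_lit 209, nat_lit 244, nat_lit 279, nat_lit 314, nat_lit 349, nat_lit 209, nat_lit 384, nat_lit 419, nat_lit 209, nat_lit 174, nat_lit 139, nat_lit 104, nat_lit 69, nat_lit 34, nat_lit 209, nat_lit 244, nat_lit 279, nat_lit 314, nat_lit 349, nat_lit 209, nat_lit 384, nat_lit 419, nat_lit 209, nat_lit 174, nat_lit 139, nat_lit 104, nat_lit 69, nat_lit 34, nat_lit 209, nat_lit 244, nat_lit 279, nat_lit 314, nat_lit 349, nat_lit 209, nat_lit 384, nat_lit 419, nat_lit 209, nat_lit 174, nat_lit 139, nat_lit 104, nat_lit 69, nat_lit 34, nat_lit 209, nat_lit 244, nat_lit 279, nat_lit 314, nat_lit 349, nat_lit 209, nat_lit 384, nat_lit 419, nat_lit 209, nat_lit 174, nat_lit 139, nat_lit 104, nat_lit 69, nat_lit 34, nat_lit 209, nat_lit 244, nat_lit 279,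 nat_lit 314, nat_lit 349, nat_lit 209, nat_lit 384, nat_lit 419, nat_lit 209, nat_lit 174, nat_lit 139, nat_lit 104, nat_lit 69, nat_lit 34, nat_lit 209, nat_lit 244, nat_lit 279, nat_lit 314, nat_lit 349, nat_lit 209, nat_lit 384, nat_lit 419, nat_lit 209, nat_lit 174, nat_lit 139, nat_lit 104, nat_lit 69, nat_lit 34, nat_lit 209, nat_lit 244, nat_lit 279, nat_lit 314, nat_lit 349, nat_lit 209, nat_lit 384, nat_lit 419, nat_lit 209, nat_lit 174, nat_lit 139, nat_lit 104, nat_lit 69, nat_lit 34, nat_lit 209, nat_lit 244, nat_lit 279, nat_lit 314, nat_lit 349, nat_lit 209, nat_lit 384, nat_lit 419, nat_lit 209, nat_lit 174, nat_lit 139, nat_lit 104, nat_lit 69, nat_lit 34, nat_lit 209, nat_lit 244, nat_lit 279, nat_lit 314, nat_lit 349, nat_lit 209, nat_lit 384, nat_lit 419, nat_lit 209, nat_lit 174, nat_lit 139, nat_lit 104], nat_lit 0)]⟩,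
  ⟨nat_lit 104, nat_lit 1, [([nat_lit 104], nat_lit 0), ([nat_lit 34, nat_lit 104, nat_lit 34], nat_lit 0), ([nat_lit 209, nat_lit 104, nat_lit 209], nat_lit 0), ([nat_lit 384, nat_lit 104, nat_lit 384], nat_lit 0), ([nat_lit 419, nat_lit 104, nat_lit 419], nat_lit 0), ([nat_lit 174, nat_lit 104, nat_lit 174], nat_lit 0), ([nat_lit 244, nat_lit 104, nat_lit 244], nat_lit 0), ([nat_lit 279, nat_lit 104, nat_lit 279], nat_lit 0), ([nat_lit 314, nat_lit 104, nat_lit 314], nat_lit 0), ([nat_lit 349, nat_lit 104, nat_lit 349], nat_lit 0), ([nat_lit 69, nat_lit 104, nat_lit 69, nat_lit 104, nat_lit 69], nat_lit 0), ([nat_lit 139, nat_lit 104, nat_lit 139, nat_lit 104, nat_lit 139], nat_lit 0), ([nat_lit 384, nat_lit 279, nat_lit 244, nat_lit 209, nat_lit 174, nat_lit 139, nat_lit 104, nat_lit 384, nat_lit 279, nat_lit 244, nat_lit 209, nat_lit 174, nat_lit 139, nat_lit 104, nat_lit 384, nat_lit 279, nat_lit 244, nat_lit 209, nat_lit 174, nat_lit 139, nat_lit 104, nat_lit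 384, nat_lit 279, nat_lit 244, nat_lit 209, nat_lit 174, nat_lit 139, nat_lit 104, nat_lit 384, nat_lit 279, nat_lit 244, nat_lit 209, nat_lit 174, nat_lit 139, nat_lit 104, nat_lit 384, nat_lit 279, nat_lit 244, nat_lit 209, nat_lit 174, nat_lit 139, nat_lit 104, nat_lit 384, nat_lit 279, nat_lit 244, nat_lit 209, nat_lit 174, nat_lit 139, nat_lit 104, nat_lit 384, nat_lit 279, nat_lit 244, nat_lit 209, nat_lit 174, nat_lit 139, nat_lit 104, nat_lit 34, nat_lit 384, nat_lit 279, nat_lit 244, nat_lit 209, nat_lit 174, nat_lit 139], nat_lit 0), ([nat_lit 34, nat_lit 384, nat_lit 279, nat_lit 244, nat_lit 209, nat_lit 174, nat_lit 139, nat_lit 104, nat_lit 384, nat_lit 279, nat_lit 244, nat_lit 209, nat_lit 174, nat_lit 139, nat_lit 104, nat_lit 384, nat_lit 279, nat_lit 244, nat_lit 209, nat_lit 174, nat_lit 139, nat_lit 104, nat_lit 384, nat_lit 279, nat_lit 244, nat_lit 209, nat_lit 174, nat_lit 139, nat_lit 104, nat_lit 384, nat_lit 279, nat_lit 244, nat_lit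 209, nat_lit 174, nat_lit 139, nat_lit 104, nat_lit 384, nat_lit 279, nat_lit 244, nat_lit 209, nat_lit 174, nat_lit 139, nat_lit 104, nat_lit 384, nat_lit 279, nat_lit 244, nat_lit 209, nat_lit 174, nat_lit 139, nat_lit 104, nat_lit 384, nat_lit 279, nat_lit 244, nat_lit 209, nat_lit 174, nat_lit 139, nat_lit 104, nat_lit 384, nat_lit 279, nat_lit 244, nat_lit 209, nat_lit 174, nat_lit 139], nat_lit 0), ([nat_lit 384, nat_lit 279, nat_lit 244, nat_lit 209, nat_lit 174, nat_lit 139, nat_lit 104, nat_lit 384, nat_lit 279, nat_lit 244, nat_lit 209, nat_lit 174, nat_lit 139, nat_lit 104, nat_lit 384, nat_lit 279, nat_lit 244, nat_lit 209, nat_lit 174, nat_lit 139, nat_lit 104, nat_lit 384, nat_lit 279, nat_lit 244, nat_lit 209, nat_lit 174, nat_lit 139, nat_lit 104, nat_lit 384, nat_lit 279, nat_lit 244, nat_lit 209, nat_lit 174, nat_lit 139, nat_lit 104, nat_lit 384, nat_lit 279, nat_lit 244, nat_lit 209, nat_lit 174, nat_lit 139, nat_lit 104, nat_lit 384, nat_lit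 279, nat_lit 244, nat_lit 209, nat_lit 174, nat_lit 139, nat_lit 104, nat_lit 34, nat_lit 384, nat_lit 279, nat_lit 244, nat_lit 209, nat_lit 174, nat_lit 139, nat_lit 104, nat_lit 384, nat_lit 279, nat_lit 244, nat_lit 209, nat_lit 174, nat_lit 139], nat_lit 0), ([nat_lit 384, nat_lit 279, nat_lit 244, nat_lit 209, nat_lit 174, nat_lit 139, nat_lit 104, nat_lit 34, nat_lit 384, nat_lit 279, nat_lit 244, nat_lit 209, nat_lit 174, nat_lit 139, nat_lit 104, nat_lit 384, nat_lit 279, nat_lit 244, nat_lit 209, nat_lit 174, nat_lit 139, nat_lit 104, nat_lit 384, nat_lit 279, nat_lit 244, nat_lit 209, nat_lit 174, nat_lit 139, nat_lit 104, nat_lit 384, nat_lit 279, nat_lit 244, nat_lit 209, nat_lit 174, nat_lit 139, nat_lit 104, nat_lit 384, nat_lit 279, nat_lit 244, nat_lit 209, nat_lit 174, nat_lit 139, nat_lit 104, nat_lit 384, nat_lit 279, nat_lit 244, nat_lit 209, nat_lit 174, nat_lit 139, nat_lit 104, nat_lit 384, nat_lit 279, nat_lit 244, nat_lit 209, nat_lit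 174, nat_lit 139, nat_lit 104, nat_lit 384, nat_lit 279, nat_lit 244, nat_lit 209, nat_lit 174, nat_lit 139], nat_lit 0), ([nat_lit 384, nat_lit 279, nat_lit 244, nat_lit 209, nat_lit 174, nat_lit 139, nat_lit 104, nat_lit 384, nat_lit 279, nat_lit 244, nat_lit 209, nat_lit 174, nat_lit 139, nat_lit 104, nat_lit 34, nat_lit 384, nat_lit 279, nat_lit 244, nat_lit 209, nat_lit 174, nat_lit 139, nat_lit 104, nat_lit 384, nat_lit 279, nat_lit 244, nat_lit 209, nat_lit 174, nat_lit 139, nat_lit 104, nat_lit 384, nat_lit 279, nat_lit 244, nat_lit 209, nat_lit 174, nat_lit 139, nat_lit 104, nat_lit 384, nat_lit 279, nat_lit 244, nat_lit 209, nat_lit 174, nat_lit 139, nat_lit 104, nat_lit 384, nat_lit 279, nat_lit 244, nat_lit 209, nat_lit 174, nat_lit 139, nat_lit 104, nat_lit 384, nat_lit 279, nat_lit 244, nat_lit 209, nat_lit 174, nat_lit 139, nat_lit 104, nat_lit 384, nat_lit 279, nat_lit 244, nat_lit 209, nat_lit 174, nat_lit 139], nat_lit 0), ([nat_lit 69, nat_lit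 34, nat_lit 209, nat_lit 244, nat_lit 279, nat_lit 314, nat_lit 349, nat_lit 209, nat_lit 384, nat_lit 419, nat_lit 209, nat_lit 174, nat_lit 139, nat_lit 104, nat_lit 69, nat_lit 34, nat_lit 209, nat_lit 244, nat_lit 279, nat_lit 314, nat_lit 349, nat_lit 209, nat_lit 384, nat_lit 419, nat_lit 209, nat_lit 174, nat_lit 139, nat_lit 104, nat_lit 69, nat_lit 34, nat_lit 209, nat_lit 244, nat_lit 279, nat_lit 314, nat_lit 349, nat_lit 209, nat_lit 384, nat_lit 419, nat_lit 209, nat_lit 174, nat_lit 139, nat_lit 104, nat_lit 69, nat_lit 34, nat_lit 209, nat_lit 244, nat_lit 279, nat_lit 314, nat_lit 349, nat_lit 209, nat_lit 384, nat_lit 419, nat_lit 209, nat_lit 174, nat_lit 139, nat_lit 104, nat_lit 69, nat_lit 34, nat_lit 209, nat_lit 244, nat_lit 279, nat_lit 314, nat_lit 349, nat_lit 209, nat_lit 384, nat_lit 419, nat_lit 209, nat_lit 174, nat_lit 139, nat_lit 104, nat_lit 69, nat_lit 34, nat_lit 209, nat_lit 244, nat_lit 279, nat_lit 314, nat_lit 349, nat_lit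 209, nat_lit 384, nat_lit 419, nat_lit 209, nat_lit 174, nat_lit 139, nat_lit 104, nat_lit 69, nat_lit 34, nat_lit 209, nat_lit 244, nat_lit 279, nat_lit 314, nat_lit 349, nat_lit 209, nat_lit 384, nat_lit 419, nat_lit 209, nat_lit 174, nat_lit 139, nat_lit 104, nat_lit 69, nat_lit 34, nat_lit 209, nat_lit 244, nat_lit 279, nat_lit 314, nat_lit 349, nat_lit 209, nat_lit 384, nat_lit 419, nat_lit 209, nat_lit 174, nat_lit 139, nat_lit 104, nat_lit 69, nat_lit 34, nat_lit 209, nat_lit 244, nat_lit 279, nat_lit 314, nat_lit 349, nat_lit 209, nat_lit 384, nat_lit 419, nat_lit 209, nat_lit 174, nat_lit 139, nat_lit 104, nat_lit 69, nat_lit 34, nat_lit 209, nat_lit 244, nat_lit 279, nat_lit 314, nat_lit 349, nat_lit 209, nat_lit 384, nat_lit 419, nat_lit 209, nat_lit 174, nat_lit 139, nat_lit 104, nat_lit 69, nat_lit 34, nat_lit 209, nat_lit 244, nat_lit 279, nat_lit 314, nat_lit 349, nat_lit 209, nat_lit 384, nat_lit 419, nat_lit 209, nat_lit 174, nat_lit 139, nat_lit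 104, nat_lit 69, nat_lit 34, nat_lit 209, nat_lit 244, nat_lit 279, nat_lit 314, nat_lit 349, nat_lit 209, nat_lit 384, nat_lit 419, nat_lit 209, nat_lit 174, nat_lit 139, nat_lit 104, nat_lit 69, nat_lit 34, nat_lit 209, nat_lit 244, nat_lit 279, nat_lit 314, nat_lit 349, nat_lit 209, nat_lit 384, nat_lit 419, nat_lit 209, nat_lit 174, nat_lit 139, nat_lit 104, nat_lit 69, nat_lit 34, nat_lit 209, nat_lit 244, nat_lit 279, nat_lit 314, nat_lit 349, nat_lit 209, nat_lit 384, nat_lit 419, nat_lit 209, nat_lit 174, nat_lit 139, nat_lit 104, nat_lit 69, nat_lit 34, nat_lit 209, nat_lit 244, nat_lit 279, nat_lit 314, nat_lit 349, nat_lit 209, nat_lit 384, nat_lit 419, nat_lit 209, nat_lit 174, nat_lit 139, nat_lit 104, nat_lit 69, nat_lit 34, nat_lit 209, nat_lit 244, nat_lit 279, nat_lit 314, nat_lit 349, nat_lit 209, nat_lit 384, nat_lit 419, nat_lit 209, nat_lit 174, nat_lit 139, nat_lit 104, nat_lit 69, nat_lit 34, nat_lit 209, nat_lit 244, nat_lit 279, nat_lit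 314, nat_lit 349, nat_lit 209, nat_lit 384, nat_lit 419, nat_lit 209, nat_lit 174, nat_lit 139], nat_lit 0), ([nat_lit 384, nat_lit 279, nat_lit 244, nat_lit 209, nat_lit 174, nat_lit 139, nat_lit 104, nat_lit 384, nat_lit 279, nat_lit 244, nat_lit 209, nat_lit 174, nat_lit 139, nat_lit 104, nat_lit 384, nat_lit 279, nat_lit 244, nat_lit 209, nat_lit 174, nat_lit 139, nat_lit 104, nat_lit 384, nat_lit 279, nat_lit 244, nat_lit 209, nat_lit 174, nat_lit 139, nat_lit 104, nat_lit 384, nat_lit 279, nat_lit 244, nat_lit 209, nat_lit 174, nat_lit 139, nat_lit 104, nat_lit 34, nat_lit 384, nat_lit 279, nat_lit 244, nat_lit 209, nat_lit 174, nat_lit 139, nat_lit 104, nat_lit 384, nat_lit 279, nat_lit 244, nat_lit 209, nat_lit 174, nat_lit 139, nat_lit 104, nat_lit 384, nat_lit 279, nat_lit 244, nat_lit 209, nat_lit 174, nat_lit 139, nat_lit 104, nat_lit 384, nat_lit 279, nat_lit 244, nat_lit 209, nat_lit 174, nat_lit 139], nat_lit 0), ([nat_lit 384, nat_lit 279, nat_lit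 244, nat_lit 209, nat_lit 174, nat_lit 139, nat_lit 104, nat_lit 384, nat_lit 279, nat_lit 244, nat_lit 209, nat_lit 174, nat_lit 139, nat_lit 104, nat_lit 384, nat_lit 279, nat_lit 244, nat_lit 209, nat_lit 174, nat_lit 139, nat_lit 104, nat_lit 384, nat_lit 279, nat_lit 244, nat_lit 209, nat_lit 174, nat_lit 139, nat_lit 104, nat_lit 384, nat_lit 279, nat_lit 244, nat_lit 209, nat_lit 174, nat_lit 139, nat_lit 104, nat_lit 384, nat_lit 279, nat_lit 244, nat_lit 209, nat_lit 174, nat_lit 139, nat_lit 104, nat_lit 34, nat_lit 384, nat_lit 279, nat_lit 244, nat_lit 209, nat_lit 174, nat_lit 139, nat_lit 104, nat_lit 384, nat_lit 279, nat_lit 244, nat_lit 209, nat_lit 174, nat_lit 139, nat_lit 104, nat_lit 384, nat_lit 279, nat_lit 244, nat_lit 209, nat_lit 174, nat_lit 139], nat_lit 0), ([nat_lit 384, nat_lit 279, nat_lit 244, nat_lit 209, nat_lit 174, nat_lit 139, nat_lit 104, nat_lit 384, nat_lit 279, nat_lit 244, nat_lit 209, nat_lit 174, nat_lit 139, nat_lit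 104, nat_lit 384, nat_lit 279, nat_lit 244, nat_lit 209, nat_lit 174, nat_lit 139, nat_lit 104, nat_lit 384, nat_lit 279, nat_lit 244, nat_lit 209, nat_lit 174, nat_lit 139, nat_lit 104, nat_lit 34, nat_lit 384, nat_lit 279, nat_lit 244, nat_lit 209, nat_lit 174, nat_lit 139, nat_lit 104, nat_lit 384, nat_lit 279, nat_lit 244, nat_lit 209, nat_lit 174, nat_lit 139, nat_lit 104, nat_lit 384, nat_lit 279, nat_lit 244, nat_lit 209, nat_lit 174, nat_lit 139, nat_lit 104, nat_lit 384, nat_lit 279, nat_lit 244, nat_lit 209, nat_lit 174, nat_lit 139, nat_lit 104, nat_lit 384, nat_lit 279, nat_lit 244, nat_lit 209, nat_lit 174, nat_lit 139], nat_lit 0), ([nat_lit 384, nat_lit 279, nat_lit 244, nat_lit 209, nat_lit 174, nat_lit 139, nat_lit 104, nat_lit 384, nat_lit 279, nat_lit 244, nat_lit 209, nat_lit 174, nat_lit 139, nat_lit 104, nat_lit 384, nat_lit 279, nat_lit 244, nat_lit 209, nat_lit 174, nat_lit 139, nat_lit 104, nat_lit 34, nat_lit 384, nat_lit 279, nat_lit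 244, nat_lit 209, nat_lit 174, nat_lit 139, nat_lit 104, nat_lit 384, nat_lit 279, nat_lit 244, nat_lit 209, nat_lit 174, nat_lit 139, nat_lit 104, nat_lit 384, nat_lit 279, nat_lit 244, nat_lit 209, nat_lit 174, nat_lit 139, nat_lit 104, nat_lit 384, nat_lit 279, nat_lit 244, nat_lit 209, nat_lit 174, nat_lit 139, nat_lit 104, nat_lit 384, nat_lit 279, nat_lit 244, nat_lit 209, nat_lit 174, nat_lit 139, nat_lit 104, nat_lit 384, nat_lit 279, nat_lit 244, nat_lit 209, nat_lit 174, nat_lit 139], nat_lit 0)]⟩,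
  ⟨nat_lit 139, nat_lit 1, [([nat_lit 139], nat_lit 0), ([nat_lit 34, nat_lit 139, nat_lit 34], nat_lit 0), ([nat_lit 69, nat_lit 139, nat_lit 69], nat_lit 0), ([nat_lit 209, nat_lit 139, nat_lit 209], nat_lit 0), ([nat_lit 384, nat_lit 139, nat_lit 384], nat_lit 0), ([nat_lit 419, nat_lit 139, nat_lit 419], nat_lit 0), ([nat_lit 244, nat_lit 139, nat_lit 244], nat_lit 0), ([nat_lit 279, nat_lit 139, nat_lit 279], nat_lit 0), ([nat_lit 314, nat_lit 139, nat_lit 314], nat_lit 0), ([nat_lit 349, nat_lit 139, nat_lit 349], nat_lit 0), ([nat_lit 104, nat_lit 139, nat_lit 104, nat_lit 139, nat_lit 104], nat_lit 0), ([nat_lit 174, nat_lit 139, nat_lit 174, nat_lit 139, nat_lit 174], nat_lit 0), ([nat_lit 104, nat_lit 384, nat_lit 279, nat_lit 244, nat_lit 209, nat_lit 174, nat_lit 139, nat_lit 104, nat_lit 384, nat_lit 279, nat_lit 244, nat_lit 209, nat_lit 174, nat_lit 139, nat_lit 104, nat_lit 384, nat_lit 279, nat_lit 244, nat_lit 209, nat_lit 174, nat_lit 139, nat_lit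 104, nat_lit 384, nat_lit 279, nat_lit 244, nat_lit 209, nat_lit 174, nat_lit 139, nat_lit 104, nat_lit 384, nat_lit 279, nat_lit 244, nat_lit 209, nat_lit 174, nat_lit 139, nat_lit 104, nat_lit 384, nat_lit 279, nat_lit 244, nat_lit 209, nat_lit 174, nat_lit 139, nat_lit 104, nat_lit 384, nat_lit 279, nat_lit 244, nat_lit 209, nat_lit 174, nat_lit 139, nat_lit 104, nat_lit 384, nat_lit 279, nat_lit 244, nat_lit 209, nat_lit 174, nat_lit 139, nat_lit 104, nat_lit 34, nat_lit 384, nat_lit 279, nat_lit 244, nat_lit 209, nat_lit 174], nat_lit 0), ([nat_lit 104, nat_lit 69, nat_lit 34, nat_lit 209, nat_lit 244, nat_lit 279, nat_lit 314, nat_lit 349, nat_lit 209, nat_lit 384, nat_lit 419, nat_lit 209, nat_lit 174, nat_lit 139, nat_lit 104, nat_lit 69, nat_lit 34, nat_lit 209, nat_lit 244, nat_lit 279, nat_lit 314, nat_lit 349, nat_lit 209, nat_lit 384, nat_lit 419, nat_lit 209, nat_lit 174, nat_lit 139, nat_lit 104, nat_lit 69, nat_lit 34, nat_lit 209, nat_lit 244,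 nat_lit 279, nat_lit 314, nat_lit 349, nat_lit 209, nat_lit 384, nat_lit 419, nat_lit 209, nat_lit 174, nat_lit 139, nat_lit 104, nat_lit 69, nat_lit 34, nat_lit 209, nat_lit 244, nat_lit 279, nat_lit 314, nat_lit 349, nat_lit 209, nat_lit 384, nat_lit 419, nat_lit 209, nat_lit 174, nat_lit 139, nat_lit 104, nat_lit 69, nat_lit 34, nat_lit 209, nat_lit 244, nat_lit 279, nat_lit 314, nat_lit 349, nat_lit 209, nat_lit 384, nat_lit 419, nat_lit 209, nat_lit 174, nat_lit 139, nat_lit 104, nat_lit 69, nat_lit 34, nat_lit 209, nat_lit 244, nat_lit 279, nat_lit 314, nat_lit 349, nat_lit 209, nat_lit 384, nat_lit 419, nat_lit 209, nat_lit 174, nat_lit 139, nat_lit 104, nat_lit 69, nat_lit 34, nat_lit 209, nat_lit 244, nat_lit 279, nat_lit 314, nat_lit 349, nat_lit 209, nat_lit 384, nat_lit 419, nat_lit 209, nat_lit 174, nat_lit 139, nat_lit 104, nat_lit 69, nat_lit 34, nat_lit 209, nat_lit 244, nat_lit 279, nat_lit 314, nat_lit 349, nat_lit 209, nat_lit 384, nat_lit 419,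 nat_lit 209, nat_lit 174, nat_lit 139, nat_lit 104, nat_lit 69, nat_lit 34, nat_lit 209, nat_lit 244, nat_lit 279, nat_lit 314, nat_lit 349, nat_lit 209, nat_lit 384, nat_lit 419, nat_lit 209, nat_lit 174, nat_lit 139, nat_lit 104, nat_lit 69, nat_lit 34, nat_lit 209, nat_lit 244, nat_lit 279, nat_lit 314, nat_lit 349, nat_lit 209, nat_lit 384, nat_lit 419, nat_lit 209, nat_lit 174, nat_lit 139, nat_lit 104, nat_lit 69, nat_lit 34, nat_lit 209, nat_lit 244, nat_lit 279, nat_lit 314, nat_lit 349, nat_lit 209, nat_lit 384, nat_lit 419, nat_lit 209, nat_lit 174, nat_lit 139, nat_lit 104, nat_lit 69, nat_lit 34, nat_lit 209, nat_lit 244, nat_lit 279, nat_lit 314, nat_lit 349, nat_lit 209, nat_lit 384, nat_lit 419, nat_lit 209, nat_lit 174, nat_lit 139, nat_lit 104, nat_lit 69, nat_lit 34, nat_lit 209, nat_lit 244, nat_lit 279, nat_lit 314, nat_lit 349, nat_lit 209, nat_lit 384, nat_lit 419, nat_lit 209, nat_lit 174, nat_lit 139, nat_lit 104, nat_lit 69, nat_lit 34,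 nat_lit 209, nat_lit 244, nat_lit 279, nat_lit 314, nat_lit 349, nat_lit 209, nat_lit 384, nat_lit 419, nat_lit 209, nat_lit 174, nat_lit 139, nat_lit 104, nat_lit 69, nat_lit 34, nat_lit 209, nat_lit 244, nat_lit 279, nat_lit 314, nat_lit 349, nat_lit 209, nat_lit 384, nat_lit 419, nat_lit 209, nat_lit 174, nat_lit 139, nat_lit 104, nat_lit 69, nat_lit 34, nat_lit 209, nat_lit 244, nat_lit 279, nat_lit 314, nat_lit 349, nat_lit 209, nat_lit 384, nat_lit 419, nat_lit 209, nat_lit 174, nat_lit 139, nat_lit 104, nat_lit 69, nat_lit 34, nat_lit 209, nat_lit 244, nat_lit 279, nat_lit 314, nat_lit 349, nat_lit 209, nat_lit 384, nat_lit 419, nat_lit 209, nat_lit 174], nat_lit 0), ([nat_lit 104, nat_lit 384, nat_lit 279, nat_lit 244, nat_lit 209, nat_lit 174, nat_lit 139, nat_lit 104, nat_lit 384, nat_lit 279, nat_lit 244, nat_lit 209, nat_lit 174, nat_lit 139, nat_lit 104, nat_lit 384, nat_lit 279, nat_lit 244, nat_lit 209, nat_lit 174, nat_lit 139, nat_lit 104, nat_lit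 384, nat_lit 279, nat_lit 244, nat_lit 209, nat_lit 174, nat_lit 139, nat_lit 104, nat_lit 384, nat_lit 279, nat_lit 244, nat_lit 209, nat_lit 174, nat_lit 139, nat_lit 104, nat_lit 384, nat_lit 279, nat_lit 244, nat_lit 209, nat_lit 174, nat_lit 139, nat_lit 104, nat_lit 384, nat_lit 279, nat_lit 244, nat_lit 209, nat_lit 174, nat_lit 139, nat_lit 104, nat_lit 34, nat_lit 384, nat_lit 279, nat_lit 244, nat_lit 209, nat_lit 174, nat_lit 139, nat_lit 104, nat_lit 384, nat_lit 279, nat_lit 244, nat_lit 209, nat_lit 174], nat_lit 0), ([nat_lit 104, nat_lit 34, nat_lit 384, nat_lit 279, nat_lit 244, nat_lit 209, nat_lit 174, nat_lit 139, nat_lit 104, nat_lit 384, nat_lit 279, nat_lit 244, nat_lit 209, nat_lit 174, nat_lit 139, nat_lit 104, nat_lit 384, nat_lit 279, nat_lit 244, nat_lit 209, nat_lit 174, nat_lit 139, nat_lit 104, nat_lit 384, nat_lit 279, nat_lit 244, nat_lit 209, nat_lit 174, nat_lit 139, nat_lit 104, nat_lit 384, nat_lit 279, nat_lit 244, nat_lit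 209, nat_lit 174, nat_lit 139, nat_lit 104, nat_lit 384, nat_lit 279, nat_lit 244, nat_lit 209, nat_lit 174, nat_lit 139, nat_lit 104, nat_lit 384, nat_lit 279, nat_lit 244, nat_lit 209, nat_lit 174, nat_lit 139, nat_lit 104, nat_lit 384, nat_lit 279, nat_lit 244, nat_lit 209, nat_lit 174, nat_lit 139, nat_lit 104, nat_lit 384, nat_lit 279, nat_lit 244, nat_lit 209, nat_lit 174], nat_lit 0), ([nat_lit 104, nat_lit 384, nat_lit 279, nat_lit 244, nat_lit 209, nat_lit 174, nat_lit 139, nat_lit 104, nat_lit 34, nat_lit 384, nat_lit 279, nat_lit 244, nat_lit 209, nat_lit 174, nat_lit 139, nat_lit 104, nat_lit 384, nat_lit 279, nat_lit 244, nat_lit 209, nat_lit 174, nat_lit 139, nat_lit 104, nat_lit 384, nat_lit 279, nat_lit 244, nat_lit 209, nat_lit 174, nat_lit 139, nat_lit 104, nat_lit 384, nat_lit 279, nat_lit 244, nat_lit 209, nat_lit 174, nat_lit 139, nat_lit 104, nat_lit 384, nat_lit 279, nat_lit 244, nat_lit 209, nat_lit 174, nat_lit 139, nat_lit 104, nat_lit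 384, nat_lit 279, nat_lit 244, nat_lit 209, nat_lit 174, nat_lit 139, nat_lit 104, nat_lit 384, nat_lit 279, nat_lit 244, nat_lit 209, nat_lit 174, nat_lit 139, nat_lit 104, nat_lit 384, nat_lit 279, nat_lit 244, nat_lit 209, nat_lit 174], nat_lit 0), ([nat_lit 104, nat_lit 384, nat_lit 279, nat_lit 244, nat_lit 209, nat_lit 174, nat_lit 139, nat_lit 104, nat_lit 384, nat_lit 279, nat_lit 244, nat_lit 209, nat_lit 174, nat_lit 139, nat_lit 104, nat_lit 34, nat_lit 384, nat_lit 279, nat_lit 244, nat_lit 209, nat_lit 174, nat_lit 139, nat_lit 104, nat_lit 384, nat_lit 279, nat_lit 244, nat_lit 209, nat_lit 174, nat_lit 139, nat_lit 104, nat_lit 384, nat_lit 279, nat_lit 244, nat_lit 209, nat_lit 174, nat_lit 139, nat_lit 104, nat_lit 384, nat_lit 279, nat_lit 244, nat_lit 209, nat_lit 174, nat_lit 139, nat_lit 104, nat_lit 384, nat_lit 279, nat_lit 244, nat_lit 209, nat_lit 174, nat_lit 139, nat_lit 104, nat_lit 384, nat_lit 279, nat_lit 244, nat_lit 209, nat_lit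 174, nat_lit 139, nat_lit 104, nat_lit 384, nat_lit 279, nat_lit 244, nat_lit 209, nat_lit 174], nat_lit 0), ([nat_lit 104, nat_lit 384, nat_lit 279, nat_lit 244, nat_lit 209, nat_lit 174, nat_lit 139, nat_lit 104, nat_lit 384, nat_lit 279, nat_lit 244, nat_lit 209, nat_lit 174, nat_lit 139, nat_lit 104, nat_lit 384, nat_lit 279, nat_lit 244, nat_lit 209, nat_lit 174, nat_lit 139, nat_lit 104, nat_lit 384, nat_lit 279, nat_lit 244, nat_lit 209, nat_lit 174, nat_lit 139, nat_lit 104, nat_lit 384, nat_lit 279, nat_lit 244, nat_lit 209, nat_lit 174, nat_lit 139, nat_lit 104, nat_lit 384, nat_lit 279, nat_lit 244, nat_lit 209, nat_lit 174, nat_lit 139, nat_lit 104, nat_lit 34, nat_lit 384, nat_lit 279, nat_lit 244, nat_lit 209, nat_lit 174, nat_lit 139, nat_lit 104, nat_lit 384, nat_lit 279, nat_lit 244, nat_lit 209, nat_lit 174, nat_lit 139, nat_lit 104, nat_lit 384, nat_lit 279, nat_lit 244, nat_lit 209, nat_lit 174], nat_lit 0), ([nat_lit 104, nat_lit 384, nat_lit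 279, nat_lit 244, nat_lit 209, nat_lit 174, nat_lit 139, nat_lit 104, nat_lit 384, nat_lit 279, nat_lit 244, nat_lit 209, nat_lit 174, nat_lit 139, nat_lit 104, nat_lit 384, nat_lit 279, nat_lit 244, nat_lit 209, nat_lit 174, nat_lit 139, nat_lit 104, nat_lit 384, nat_lit 279, nat_lit 244, nat_lit 209, nat_lit 174, nat_lit 139, nat_lit 104, nat_lit 384, nat_lit 279, nat_lit 244, nat_lit 209, nat_lit 174, nat_lit 139, nat_lit 104, nat_lit 34, nat_lit 384, nat_lit 279, nat_lit 244, nat_lit 209, nat_lit 174, nat_lit 139, nat_lit 104, nat_lit 384, nat_lit 279, nat_lit 244, nat_lit 209, nat_lit 174, nat_lit 139, nat_lit 104, nat_lit 384, nat_lit 279, nat_lit 244, nat_lit 209, nat_lit 174, nat_lit 139, nat_lit 104, nat_lit 384, nat_lit 279, nat_lit 244, nat_lit 209, nat_lit 174], nat_lit 0), ([nat_lit 104, nat_lit 384, nat_lit 279, nat_lit 244, nat_lit 209, nat_lit 174, nat_lit 139, nat_lit 104, nat_lit 384, nat_lit 279, nat_lit 244, nat_lit 209, nat_lit 174, nat_lit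 139, nat_lit 104, nat_lit 384, nat_lit 279, nat_lit 244, nat_lit 209, nat_lit 174, nat_lit 139, nat_lit 104, nat_lit 384, nat_lit 279, nat_lit 244, nat_lit 209, nat_lit 174, nat_lit 139, nat_lit 104, nat_lit 34, nat_lit 384, nat_lit 279, nat_lit 244, nat_lit 209, nat_lit 174, nat_lit 139, nat_lit 104, nat_lit 384, nat_lit 279, nat_lit 244, nat_lit 209, nat_lit 174, nat_lit 139, nat_lit 104, nat_lit 384, nat_lit 279, nat_lit 244, nat_lit 209, nat_lit 174, nat_lit 139, nat_lit 104, nat_lit 384, nat_lit 279, nat_lit 244, nat_lit 209, nat_lit 174, nat_lit 139, nat_lit 104, nat_lit 384, nat_lit 279, nat_lit 244, nat_lit 209, nat_lit 174], nat_lit 0), ([nat_lit 104, nat_lit 384, nat_lit 279, nat_lit 244, nat_lit 209, nat_lit 174, nat_lit 139, nat_lit 104, nat_lit 384, nat_lit 279, nat_lit 244, nat_lit 209, nat_lit 174, nat_lit 139, nat_lit 104, nat_lit 384, nat_lit 279, nat_lit 244, nat_lit 209, nat_lit 174, nat_lit 139, nat_lit 104, nat_lit 34, nat_lit 384, nat_lit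 279, nat_lit 244, nat_lit 209, nat_lit 174, nat_lit 139, nat_lit 104, nat_lit 384, nat_lit 279, nat_lit 244, nat_lit 209, nat_lit 174, nat_lit 139, nat_lit 104, nat_lit 384, nat_lit 279, nat_lit 244, nat_lit 209, nat_lit 174, nat_lit 139, nat_lit 104, nat_lit 384, nat_lit 279, nat_lit 244, nat_lit 209, nat_lit 174, nat_lit 139, nat_lit 104, nat_lit 384, nat_lit 279, nat_lit 244, nat_lit 209, nat_lit 174, nat_lit 139, nat_lit 104, nat_lit 384, nat_lit 279, nat_lit 244, nat_lit 209, nat_lit 174], nat_lit 0)]⟩,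
  ⟨nat_lit 174, nat_lit 1, [([nat_lit 174], nat_lit 0), ([nat_lit 34, nat_lit 174, nat_lit 34], nat_lit 0), ([nat_lit 69, nat_lit 174, nat_lit 69], nat_lit 0), ([nat_lit 104, nat_lit 174, nat_lit 104], nat_lit 0), ([nat_lit 384, nat_lit 174, nat_lit 384], nat_lit 0), ([nat_lit 419, nat_lit 174, nat_lit 419], nat_lit 0), ([nat_lit 244, nat_lit 174, nat_lit 244], nat_lit 0), ([nat_lit 279, nat_lit 174, nat_lit 279], nat_lit 0), ([nat_lit 314, nat_lit 174, nat_lit 314], nat_lit 0), ([nat_lit 349, nat_lit 174, nat_lit 349], nat_lit 0), ([nat_lit 209, nat_lit 174, nat_lit 209, nat_lit 174, nat_lit 209], nat_lit 0), ([nat_lit 139, nat_lit 174, nat_lit 139, nat_lit 174, nat_lit 139], nat_lit 0), ([nat_lit 139, nat_lit 104, nat_lit 384, nat_lit 279, nat_lit 244, nat_lit 209, nat_lit 174, nat_lit 139, nat_lit 104, nat_lit 384, nat_lit 279, nat_lit 244, nat_lit 209, nat_lit 174, nat_lit 139, nat_lit 104, nat_lit 384, nat_lit 279, nat_lit 244, nat_lit 209, nat_lit 174, nat_lit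 139, nat_lit 104, nat_lit 384, nat_lit 279, nat_lit 244, nat_lit 209, nat_lit 174, nat_lit 139, nat_lit 104, nat_lit 384, nat_lit 279, nat_lit 244, nat_lit 209, nat_lit 174, nat_lit 139, nat_lit 104, nat_lit 384, nat_lit 279, nat_lit 244, nat_lit 209, nat_lit 174, nat_lit 139, nat_lit 104, nat_lit 384, nat_lit 279, nat_lit 244, nat_lit 209, nat_lit 174, nat_lit 139, nat_lit 104, nat_lit 384, nat_lit 279, nat_lit 244, nat_lit 209, nat_lit 174, nat_lit 139, nat_lit 104, nat_lit 34, nat_lit 384, nat_lit 279, nat_lit 244, nat_lit 209], nat_lit 0), ([nat_lit 139, nat_lit 104, nat_lit 69, nat_lit 34, nat_lit 209, nat_lit 244, nat_lit 279, nat_lit 314, nat_lit 349, nat_lit 209, nat_lit 384, nat_lit 419, nat_lit 209, nat_lit 174, nat_lit 139, nat_lit 104, nat_lit 69, nat_lit 34, nat_lit 209, nat_lit 244, nat_lit 279, nat_lit 314, nat_lit 349, nat_lit 209, nat_lit 384, nat_lit 419, nat_lit 209, nat_lit 174, nat_lit 139, nat_lit 104, nat_lit 69, nat_lit 34, nat_lit 209,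 nat_lit 244, nat_lit 279, nat_lit 314, nat_lit 349, nat_lit 209, nat_lit 384, nat_lit 419, nat_lit 209, nat_lit 174, nat_lit 139, nat_lit 104, nat_lit 69, nat_lit 34, nat_lit 209, nat_lit 244, nat_lit 279, nat_lit 314, nat_lit 349, nat_lit 209, nat_lit 384, nat_lit 419, nat_lit 209, nat_lit 174, nat_lit 139, nat_lit 104, nat_lit 69, nat_lit 34, nat_lit 209, nat_lit 244, nat_lit 279, nat_lit 314, nat_lit 349, nat_lit 209, nat_lit 384, nat_lit 419, nat_lit 209, nat_lit 174, nat_lit 139, nat_lit 104, nat_lit 69, nat_lit 34, nat_lit 209, nat_lit 244, nat_lit 279, nat_lit 314, nat_lit 349, nat_lit 209, nat_lit 384, nat_lit 419, nat_lit 209, nat_lit 174, nat_lit 139, nat_lit 104, nat_lit 69, nat_lit 34, nat_lit 209, nat_lit 244, nat_lit 279, nat_lit 314, nat_lit 349, nat_lit 209, nat_lit 384, nat_lit 419, nat_lit 209, nat_lit 174, nat_lit 139, nat_lit 104, nat_lit 69, nat_lit 34, nat_lit 209, nat_lit 244, nat_lit 279, nat_lit 314, nat_lit 349, nat_lit 209, nat_lit 384,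 nat_lit 419, nat_lit 209, nat_lit 174, nat_lit 139, nat_lit 104, nat_lit 69, nat_lit 34, nat_lit 209, nat_lit 244, nat_lit 279, nat_lit 314, nat_lit 349, nat_lit 209, nat_lit 384, nat_lit 419, nat_lit 209, nat_lit 174, nat_lit 139, nat_lit 104, nat_lit 69, nat_lit 34, nat_lit 209, nat_lit 244, nat_lit 279, nat_lit 314, nat_lit 349, nat_lit 209, nat_lit 384, nat_lit 419, nat_lit 209, nat_lit 174, nat_lit 139, nat_lit 104, nat_lit 69, nat_lit 34, nat_lit 209, nat_lit 244, nat_lit 279, nat_lit 314, nat_lit 349, nat_lit 209, nat_lit 384, nat_lit 419, nat_lit 209, nat_lit 174, nat_lit 139, nat_lit 104, nat_lit 69, nat_lit 34, nat_lit 209, nat_lit 244, nat_lit 279, nat_lit 314, nat_lit 349, nat_lit 209, nat_lit 384, nat_lit 419, nat_lit 209, nat_lit 174, nat_lit 139, nat_lit 104, nat_lit 69, nat_lit 34, nat_lit 209, nat_lit 244, nat_lit 279, nat_lit 314, nat_lit 349, nat_lit 209, nat_lit 384, nat_lit 419, nat_lit 209, nat_lit 174, nat_lit 139, nat_lit 104, nat_lit 69,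 nat_lit 34, nat_lit 209, nat_lit 244, nat_lit 279, nat_lit 314, nat_lit 349, nat_lit 209, nat_lit 384, nat_lit 419, nat_lit 209, nat_lit 174, nat_lit 139, nat_lit 104, nat_lit 69, nat_lit 34, nat_lit 209, nat_lit 244, nat_lit 279, nat_lit 314, nat_lit 349, nat_lit 209, nat_lit 384, nat_lit 419, nat_lit 209, nat_lit 174, nat_lit 139, nat_lit 104, nat_lit 69, nat_lit 34, nat_lit 209, nat_lit 244, nat_lit 279, nat_lit 314, nat_lit 349, nat_lit 209, nat_lit 384, nat_lit 419, nat_lit 209, nat_lit 174, nat_lit 139, nat_lit 104, nat_lit 69, nat_lit 34, nat_lit 209, nat_lit 244, nat_lit 279, nat_lit 314, nat_lit 349, nat_lit 209, nat_lit 384, nat_lit 419, nat_lit 209], nat_lit 0), ([nat_lit 139, nat_lit 104, nat_lit 384, nat_lit 279, nat_lit 244, nat_lit 209, nat_lit 174, nat_lit 139, nat_lit 104, nat_lit 384, nat_lit 279, nat_lit 244, nat_lit 209, nat_lit 174, nat_lit 139, nat_lit 104, nat_lit 384, nat_lit 279, nat_lit 244, nat_lit 209, nat_lit 174, nat_lit 139, nat_lit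 104, nat_lit 384, nat_lit 279, nat_lit 244, nat_lit 209, nat_lit 174, nat_lit 139, nat_lit 104, nat_lit 384, nat_lit 279, nat_lit 244, nat_lit 209, nat_lit 174, nat_lit 139, nat_lit 104, nat_lit 384, nat_lit 279, nat_lit 244, nat_lit 209, nat_lit 174, nat_lit 139, nat_lit 104, nat_lit 384, nat_lit 279, nat_lit 244, nat_lit 209, nat_lit 174, nat_lit 139, nat_lit 104, nat_lit 34, nat_lit 384, nat_lit 279, nat_lit 244, nat_lit 209, nat_lit 174, nat_lit 139, nat_lit 104, nat_lit 384, nat_lit 279, nat_lit 244, nat_lit 209], nat_lit 0), ([nat_lit 139, nat_lit 104, nat_lit 34, nat_lit 384, nat_lit 279, nat_lit 244, nat_lit 209, nat_lit 174, nat_lit 139, nat_lit 104, nat_lit 384, nat_lit 279, nat_lit 244, nat_lit 209, nat_lit 174, nat_lit 139, nat_lit 104, nat_lit 384, nat_lit 279, nat_lit 244, nat_lit 209, nat_lit 174, nat_lit 139, nat_lit 104, nat_lit 384, nat_lit 279, nat_lit 244, nat_lit 209, nat_lit 174, nat_lit 139, nat_lit 104, nat_lit 384, nat_lit 279, nat_lit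 244, nat_lit 209, nat_lit 174, nat_lit 139, nat_lit 104, nat_lit 384, nat_lit 279, nat_lit 244, nat_lit 209, nat_lit 174, nat_lit 139, nat_lit 104, nat_lit 384, nat_lit 279, nat_lit 244, nat_lit 209, nat_lit 174, nat_lit 139, nat_lit 104, nat_lit 384, nat_lit 279, nat_lit 244, nat_lit 209, nat_lit 174, nat_lit 139, nat_lit 104, nat_lit 384, nat_lit 279, nat_lit 244, nat_lit 209], nat_lit 0), ([nat_lit 139, nat_lit 104, nat_lit 384, nat_lit 279, nat_lit 244, nat_lit 209, nat_lit 174, nat_lit 139, nat_lit 104, nat_lit 384, nat_lit 279, nat_lit 244, nat_lit 209, nat_lit 174, nat_lit 139, nat_lit 104, nat_lit 384, nat_lit 279, nat_lit 244, nat_lit 209, nat_lit 174, nat_lit 139, nat_lit 104, nat_lit 384, nat_lit 279, nat_lit 244, nat_lit 209, nat_lit 174, nat_lit 139, nat_lit 104, nat_lit 34, nat_lit 384, nat_lit 279, nat_lit 244, nat_lit 209, nat_lit 174, nat_lit 139, nat_lit 104, nat_lit 384, nat_lit 279, nat_lit 244, nat_lit 209, nat_lit 174, nat_lit 139, nat_lit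 104, nat_lit 384, nat_lit 279, nat_lit 244, nat_lit 209, nat_lit 174, nat_lit 139, nat_lit 104, nat_lit 384, nat_lit 279, nat_lit 244, nat_lit 209, nat_lit 174, nat_lit 139, nat_lit 104, nat_lit 384, nat_lit 279, nat_lit 244, nat_lit 209], nat_lit 0), ([nat_lit 139, nat_lit 104, nat_lit 384, nat_lit 279, nat_lit 244, nat_lit 209, nat_lit 174, nat_lit 139, nat_lit 104, nat_lit 384, nat_lit 279, nat_lit 244, nat_lit 209, nat_lit 174, nat_lit 139, nat_lit 104, nat_lit 384, nat_lit 279, nat_lit 244, nat_lit 209, nat_lit 174, nat_lit 139, nat_lit 104, nat_lit 34, nat_lit 384, nat_lit 279, nat_lit 244, nat_lit 209, nat_lit 174, nat_lit 139, nat_lit 104, nat_lit 384, nat_lit 279, nat_lit 244, nat_lit 209, nat_lit 174, nat_lit 139, nat_lit 104, nat_lit 384, nat_lit 279, nat_lit 244, nat_lit 209, nat_lit 174, nat_lit 139, nat_lit 104, nat_lit 384, nat_lit 279, nat_lit 244, nat_lit 209, nat_lit 174, nat_lit 139, nat_lit 104, nat_lit 384, nat_lit 279, nat_lit 244, nat_lit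 209, nat_lit 174, nat_lit 139, nat_lit 104, nat_lit 384, nat_lit 279, nat_lit 244, nat_lit 209], nat_lit 0), ([nat_lit 139, nat_lit 104, nat_lit 384, nat_lit 279, nat_lit 244, nat_lit 209, nat_lit 174, nat_lit 139, nat_lit 104, nat_lit 384, nat_lit 279, nat_lit 244, nat_lit 209, nat_lit 174, nat_lit 139, nat_lit 104, nat_lit 384, nat_lit 279, nat_lit 244, nat_lit 209, nat_lit 174, nat_lit 139, nat_lit 104, nat_lit 384, nat_lit 279, nat_lit 244, nat_lit 209, nat_lit 174, nat_lit 139, nat_lit 104, nat_lit 384, nat_lit 279, nat_lit 244, nat_lit 209, nat_lit 174, nat_lit 139, nat_lit 104, nat_lit 384, nat_lit 279, nat_lit 244, nat_lit 209, nat_lit 174, nat_lit 139, nat_lit 104, nat_lit 34, nat_lit 384, nat_lit 279, nat_lit 244, nat_lit 209, nat_lit 174, nat_lit 139, nat_lit 104, nat_lit 384, nat_lit 279, nat_lit 244, nat_lit 209, nat_lit 174, nat_lit 139, nat_lit 104, nat_lit 384, nat_lit 279, nat_lit 244, nat_lit 209], nat_lit 0), ([nat_lit 139, nat_lit 104, nat_lit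 384, nat_lit 279, nat_lit 244, nat_lit 209, nat_lit 174, nat_lit 139, nat_lit 104, nat_lit 384, nat_lit 279, nat_lit 244, nat_lit 209, nat_lit 174, nat_lit 139, nat_lit 104, nat_lit 384, nat_lit 279, nat_lit 244, nat_lit 209, nat_lit 174, nat_lit 139, nat_lit 104, nat_lit 384, nat_lit 279, nat_lit 244, nat_lit 209, nat_lit 174, nat_lit 139, nat_lit 104, nat_lit 384, nat_lit 279, nat_lit 244, nat_lit 209, nat_lit 174, nat_lit 139, nat_lit 104, nat_lit 34, nat_lit 384, nat_lit 279, nat_lit 244, nat_lit 209, nat_lit 174, nat_lit 139, nat_lit 104, nat_lit 384, nat_lit 279, nat_lit 244, nat_lit 209, nat_lit 174, nat_lit 139, nat_lit 104, nat_lit 384, nat_lit 279, nat_lit 244, nat_lit 209, nat_lit 174, nat_lit 139, nat_lit 104, nat_lit 384, nat_lit 279, nat_lit 244, nat_lit 209], nat_lit 0), ([nat_lit 139, nat_lit 104, nat_lit 384, nat_lit 279, nat_lit 244, nat_lit 209, nat_lit 174, nat_lit 139, nat_lit 104, nat_lit 384, nat_lit 279, nat_lit 244, nat_lit 209, nat_lit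 174, nat_lit 139, nat_lit 104, nat_lit 34, nat_lit 384, nat_lit 279, nat_lit 244, nat_lit 209, nat_lit 174, nat_lit 139, nat_lit 104, nat_lit 384, nat_lit 279, nat_lit 244, nat_lit 209, nat_lit 174, nat_lit 139, nat_lit 104, nat_lit 384, nat_lit 279, nat_lit 244, nat_lit 209, nat_lit 174, nat_lit 139, nat_lit 104, nat_lit 384, nat_lit 279, nat_lit 244, nat_lit 209, nat_lit 174, nat_lit 139, nat_lit 104, nat_lit 384, nat_lit 279, nat_lit 244, nat_lit 209, nat_lit 174, nat_lit 139, nat_lit 104, nat_lit 384, nat_lit 279, nat_lit 244, nat_lit 209, nat_lit 174, nat_lit 139, nat_lit 104, nat_lit 384, nat_lit 279, nat_lit 244, nat_lit 209], nat_lit 0), ([nat_lit 139, nat_lit 104, nat_lit 384, nat_lit 279, nat_lit 244, nat_lit 209, nat_lit 174, nat_lit 139, nat_lit 104, nat_lit 34, nat_lit 384, nat_lit 279, nat_lit 244, nat_lit 209, nat_lit 174, nat_lit 139, nat_lit 104, nat_lit 384, nat_lit 279, nat_lit 244, nat_lit 209, nat_lit 174, nat_lit 139, nat_lit 104, nat_lit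 384, nat_lit 279, nat_lit 244, nat_lit 209, nat_lit 174, nat_lit 139, nat_lit 104, nat_lit 384, nat_lit 279, nat_lit 244, nat_lit 209, nat_lit 174, nat_lit 139, nat_lit 104, nat_lit 384, nat_lit 279, nat_lit 244, nat_lit 209, nat_lit 174, nat_lit 139, nat_lit 104, nat_lit 384, nat_lit 279, nat_lit 244, nat_lit 209, nat_lit 174, nat_lit 139, nat_lit 104, nat_lit 384, nat_lit 279, nat_lit 244, nat_lit 209, nat_lit 174, nat_lit 139, nat_lit 104, nat_lit 384, nat_lit 279, nat_lit 244, nat_lit 209], nat_lit 0)]⟩,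
  ⟨nat_lit 209, nat_lit 1, [([nat_lit 209], nat_lit 0), ([nat_lit 34, nat_lit 209, nat_lit 34], nat_lit 0), ([nat_lit 69, nat_lit 209, nat_lit 69], nat_lit 0), ([nat_lit 104, nat_lit 209, nat_lit 104], nat_lit 0), ([nat_lit 139, nat_lit 209, nat_lit 139], nat_lit 0), ([nat_lit 419, nat_lit 209, nat_lit 419], nat_lit 0), ([nat_lit 279, nat_lit 209, nat_lit 279], nat_lit 0), ([nat_lit 314, nat_lit 209, nat_lit 314], nat_lit 0), ([nat_lit 349, nat_lit 209, nat_lit 349], nat_lit 0), ([nat_lit 174, nat_lit 209, nat_lit 174, nat_lit 209, nat_lit 174], nat_lit 0), ([nat_lit 244, nat_lit 209, nat_lit 244, nat_lit 209, nat_lit 244], nat_lit 0), ([nat_lit 384, nat_lit 209, nat_lit 384, nat_lit 209, nat_lit 384], nat_lit 0), ([nat_lit 174, nat_lit 139, nat_lit 104, nat_lit 384, nat_lit 279, nat_lit 244, nat_lit 209, nat_lit 174, nat_lit 139, nat_lit 104, nat_lit 384, nat_lit 279, nat_lit 244, nat_lit 209, nat_lit 174, nat_lit 139, nat_lit 104, nat_lit 384, nat_lit 279, nat_lit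 244, nat_lit 209, nat_lit 174, nat_lit 139, nat_lit 104, nat_lit 384, nat_lit 279, nat_lit 244, nat_lit 209, nat_lit 174, nat_lit 139, nat_lit 104, nat_lit 384, nat_lit 279, nat_lit 244, nat_lit 209, nat_lit 174, nat_lit 139, nat_lit 104, nat_lit 384, nat_lit 279, nat_lit 244, nat_lit 209, nat_lit 174, nat_lit 139, nat_lit 104, nat_lit 384, nat_lit 279, nat_lit 244, nat_lit 209, nat_lit 174, nat_lit 139, nat_lit 104, nat_lit 384, nat_lit 279, nat_lit 244, nat_lit 209, nat_lit 174, nat_lit 139, nat_lit 104, nat_lit 34, nat_lit 384, nat_lit 279, nat_lit 244], nat_lit 0), ([nat_lit 174, nat_lit 139, nat_lit 104, nat_lit 384, nat_lit 279, nat_lit 244, nat_lit 209, nat_lit 174, nat_lit 139, nat_lit 104, nat_lit 384, nat_lit 279, nat_lit 244, nat_lit 209, nat_lit 174, nat_lit 139, nat_lit 104, nat_lit 384, nat_lit 279, nat_lit 244, nat_lit 209, nat_lit 174, nat_lit 139, nat_lit 104, nat_lit 384, nat_lit 279, nat_lit 244, nat_lit 209, nat_lit 174, nat_lit 139, nat_lit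 104, nat_lit 384, nat_lit 279, nat_lit 244, nat_lit 209, nat_lit 174, nat_lit 139, nat_lit 104, nat_lit 384, nat_lit 279, nat_lit 244, nat_lit 209, nat_lit 174, nat_lit 139, nat_lit 104, nat_lit 384, nat_lit 279, nat_lit 244, nat_lit 209, nat_lit 174, nat_lit 139, nat_lit 104, nat_lit 34, nat_lit 384, nat_lit 279, nat_lit 244, nat_lit 209, nat_lit 174, nat_lit 139, nat_lit 104, nat_lit 384, nat_lit 279, nat_lit 244], nat_lit 0), ([nat_lit 174, nat_lit 139, nat_lit 104, nat_lit 384, nat_lit 279, nat_lit 244, nat_lit 209, nat_lit 174, nat_lit 139, nat_lit 104, nat_lit 34, nat_lit 384, nat_lit 279, nat_lit 244, nat_lit 209, nat_lit 174, nat_lit 139, nat_lit 104, nat_lit 384, nat_lit 279, nat_lit 244, nat_lit 209, nat_lit 174, nat_lit 139, nat_lit 104, nat_lit 384, nat_lit 279, nat_lit 244, nat_lit 209, nat_lit 174, nat_lit 139, nat_lit 104, nat_lit 384, nat_lit 279, nat_lit 244, nat_lit 209, nat_lit 174, nat_lit 139, nat_lit 104, nat_lit 384, nat_lit 279, nat_lit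 244, nat_lit 209, nat_lit 174, nat_lit 139, nat_lit 104, nat_lit 384, nat_lit 279, nat_lit 244, nat_lit 209, nat_lit 174, nat_lit 139, nat_lit 104, nat_lit 384, nat_lit 279, nat_lit 244, nat_lit 209, nat_lit 174, nat_lit 139, nat_lit 104, nat_lit 384, nat_lit 279, nat_lit 244], nat_lit 0), ([nat_lit 174, nat_lit 139, nat_lit 104, nat_lit 384, nat_lit 279, nat_lit 244, nat_lit 209, nat_lit 174, nat_lit 139, nat_lit 104, nat_lit 384, nat_lit 279, nat_lit 244, nat_lit 209, nat_lit 174, nat_lit 139, nat_lit 104, nat_lit 384, nat_lit 279, nat_lit 244, nat_lit 209, nat_lit 174, nat_lit 139, nat_lit 104, nat_lit 384, nat_lit 279, nat_lit 244, nat_lit 209, nat_lit 174, nat_lit 139, nat_lit 104, nat_lit 34, nat_lit 384, nat_lit 279, nat_lit 244, nat_lit 209, nat_lit 174, nat_lit 139, nat_lit 104, nat_lit 384, nat_lit 279, nat_lit 244, nat_lit 209, nat_lit 174, nat_lit 139, nat_lit 104, nat_lit 384, nat_lit 279, nat_lit 244, nat_lit 209, nat_lit 174, nat_lit 139, nat_lit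 104, nat_lit 384, nat_lit 279, nat_lit 244, nat_lit 209, nat_lit 174, nat_lit 139, nat_lit 104, nat_lit 384, nat_lit 279, nat_lit 244], nat_lit 0), ([nat_lit 174, nat_lit 139, nat_lit 104, nat_lit 384, nat_lit 279, nat_lit 244, nat_lit 209, nat_lit 174, nat_lit 139, nat_lit 104, nat_lit 384, nat_lit 279, nat_lit 244, nat_lit 209, nat_lit 174, nat_lit 139, nat_lit 104, nat_lit 384, nat_lit 279, nat_lit 244, nat_lit 209, nat_lit 174, nat_lit 139, nat_lit 104, nat_lit 34, nat_lit 384, nat_lit 279, nat_lit 244, nat_lit 209, nat_lit 174, nat_lit 139, nat_lit 104, nat_lit 384, nat_lit 279, nat_lit 244, nat_lit 209, nat_lit 174, nat_lit 139, nat_lit 104, nat_lit 384, nat_lit 279, nat_lit 244, nat_lit 209, nat_lit 174, nat_lit 139, nat_lit 104, nat_lit 384, nat_lit 279, nat_lit 244, nat_lit 209, nat_lit 174, nat_lit 139, nat_lit 104, nat_lit 384, nat_lit 279, nat_lit 244, nat_lit 209, nat_lit 174, nat_lit 139, nat_lit 104, nat_lit 384, nat_lit 279, nat_lit 244], nat_lit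 0), ([nat_lit 174, nat_lit 139, nat_lit 104, nat_lit 384, nat_lit 279, nat_lit 244, nat_lit 209, nat_lit 174, nat_lit 139, nat_lit 104, nat_lit 384, nat_lit 279, nat_lit 244, nat_lit 209, nat_lit 174, nat_lit 139, nat_lit 104, nat_lit 384, nat_lit 279, nat_lit 244, nat_lit 209, nat_lit 174, nat_lit 139, nat_lit 104, nat_lit 384, nat_lit 279, nat_lit 244, nat_lit 209, nat_lit 174, nat_lit 139, nat_lit 104, nat_lit 384, nat_lit 279, nat_lit 244, nat_lit 209, nat_lit 174, nat_lit 139, nat_lit 104, nat_lit 384, nat_lit 279, nat_lit 244, nat_lit 209, nat_lit 174, nat_lit 139, nat_lit 104, nat_lit 34, nat_lit 384, nat_lit 279, nat_lit 244, nat_lit 209, nat_lit 174, nat_lit 139, nat_lit 104, nat_lit 384, nat_lit 279, nat_lit 244, nat_lit 209, nat_lit 174, nat_lit 139, nat_lit 104, nat_lit 384, nat_lit 279, nat_lit 244], nat_lit 0), ([nat_lit 174, nat_lit 139, nat_lit 104, nat_lit 384, nat_lit 279, nat_lit 244, nat_lit 209, nat_lit 174, nat_lit 139, nat_lit 104, nat_lit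 384, nat_lit 279, nat_lit 244, nat_lit 209, nat_lit 174, nat_lit 139, nat_lit 104, nat_lit 384, nat_lit 279, nat_lit 244, nat_lit 209, nat_lit 174, nat_lit 139, nat_lit 104, nat_lit 384, nat_lit 279, nat_lit 244, nat_lit 209, nat_lit 174, nat_lit 139, nat_lit 104, nat_lit 384, nat_lit 279, nat_lit 244, nat_lit 209, nat_lit 174, nat_lit 139, nat_lit 104, nat_lit 34, nat_lit 384, nat_lit 279, nat_lit 244, nat_lit 209, nat_lit 174, nat_lit 139, nat_lit 104, nat_lit 384, nat_lit 279, nat_lit 244, nat_lit 209, nat_lit 174, nat_lit 139, nat_lit 104, nat_lit 384, nat_lit 279, nat_lit 244, nat_lit 209, nat_lit 174, nat_lit 139, nat_lit 104, nat_lit 384, nat_lit 279, nat_lit 244], nat_lit 0), ([nat_lit 244, nat_lit 279, nat_lit 314, nat_lit 349, nat_lit 209, nat_lit 384, nat_lit 419, nat_lit 209, nat_lit 174, nat_lit 139, nat_lit 104, nat_lit 69, nat_lit 34, nat_lit 209, nat_lit 244, nat_lit 279, nat_lit 314, nat_lit 349, nat_lit 209, nat_lit 384, nat_lit 419, nat_lit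 209, nat_lit 174, nat_lit 139, nat_lit 104, nat_lit 69, nat_lit 34, nat_lit 209, nat_lit 244, nat_lit 279, nat_lit 314, nat_lit 349, nat_lit 209, nat_lit 384, nat_lit 419, nat_lit 209, nat_lit 174, nat_lit 139, nat_lit 104, nat_lit 69, nat_lit 34, nat_lit 209, nat_lit 244, nat_lit 279, nat_lit 314, nat_lit 349, nat_lit 209, nat_lit 384, nat_lit 419, nat_lit 209, nat_lit 174, nat_lit 139, nat_lit 104, nat_lit 69, nat_lit 34, nat_lit 209, nat_lit 244, nat_lit 279, nat_lit 314, nat_lit 349, nat_lit 209, nat_lit 384, nat_lit 419, nat_lit 209, nat_lit 174, nat_lit 139, nat_lit 104, nat_lit 69, nat_lit 34, nat_lit 209, nat_lit 244, nat_lit 279, nat_lit 314, nat_lit 349, nat_lit 209, nat_lit 384, nat_lit 419, nat_lit 209, nat_lit 174, nat_lit 139, nat_lit 104, nat_lit 69, nat_lit 34, nat_lit 209, nat_lit 244, nat_lit 279, nat_lit 314, nat_lit 349, nat_lit 209, nat_lit 384, nat_lit 419, nat_lit 209, nat_lit 174, nat_lit 139, nat_lit 104, nat_lit 69, nat_lit 34, nat_lit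 209, nat_lit 244, nat_lit 279, nat_lit 314, nat_lit 349, nat_lit 209, nat_lit 384, nat_lit 419, nat_lit 209, nat_lit 174, nat_lit 139, nat_lit 104, nat_lit 69, nat_lit 34, nat_lit 209, nat_lit 244, nat_lit 279, nat_lit 314, nat_lit 349, nat_lit 209, nat_lit 384, nat_lit 419, nat_lit 209, nat_lit 174, nat_lit 139, nat_lit 104, nat_lit 69, nat_lit 34, nat_lit 209, nat_lit 244, nat_lit 279, nat_lit 314, nat_lit 349, nat_lit 209, nat_lit 384, nat_lit 419, nat_lit 209, nat_lit 174, nat_lit 139, nat_lit 104, nat_lit 69, nat_lit 34, nat_lit 209, nat_lit 244, nat_lit 279, nat_lit 314, nat_lit 349, nat_lit 209, nat_lit 384, nat_lit 419, nat_lit 209, nat_lit 174, nat_lit 139, nat_lit 104, nat_lit 69, nat_lit 34, nat_lit 209, nat_lit 244, nat_lit 279, nat_lit 314, nat_lit 349, nat_lit 209, nat_lit 384, nat_lit 419, nat_lit 209, nat_lit 174, nat_lit 139, nat_lit 104, nat_lit 69, nat_lit 34, nat_lit 209, nat_lit 244, nat_lit 279, nat_lit 314, nat_lit 349, nat_lit 209, nat_lit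 384, nat_lit 419, nat_lit 209, nat_lit 174, nat_lit 139, nat_lit 104, nat_lit 69, nat_lit 34, nat_lit 209, nat_lit 244, nat_lit 279, nat_lit 314, nat_lit 349, nat_lit 209, nat_lit 384, nat_lit 419, nat_lit 209, nat_lit 174, nat_lit 139, nat_lit 104, nat_lit 69, nat_lit 34, nat_lit 209, nat_lit 244, nat_lit 279, nat_lit 314, nat_lit 349, nat_lit 209, nat_lit 384, nat_lit 419, nat_lit 209, nat_lit 174, nat_lit 139, nat_lit 104, nat_lit 69, nat_lit 34, nat_lit 209, nat_lit 244, nat_lit 279, nat_lit 314, nat_lit 349, nat_lit 209, nat_lit 384, nat_lit 419, nat_lit 209, nat_lit 174, nat_lit 139, nat_lit 104, nat_lit 69, nat_lit 34, nat_lit 209, nat_lit 244, nat_lit 279, nat_lit 314, nat_lit 349, nat_lit 209, nat_lit 384, nat_lit 419, nat_lit 209, nat_lit 174, nat_lit 139, nat_lit 104, nat_lit 69, nat_lit 34], nat_lit 0), ([nat_lit 174, nat_lit 139, nat_lit 104, nat_lit 34, nat_lit 384, nat_lit 279, nat_lit 244, nat_lit 209, nat_lit 174, nat_lit 139, nat_lit 104, nat_lit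 384, nat_lit 279, nat_lit 244, nat_lit 209, nat_lit 174, nat_lit 139, nat_lit 104, nat_lit 384, nat_lit 279, nat_lit 244, nat_lit 209, nat_lit 174, nat_lit 139, nat_lit 104, nat_lit 384, nat_lit 279, nat_lit 244, nat_lit 209, nat_lit 174, nat_lit 139, nat_lit 104, nat_lit 384, nat_lit 279, nat_lit 244, nat_lit 209, nat_lit 174, nat_lit 139, nat_lit 104, nat_lit 384, nat_lit 279, nat_lit 244, nat_lit 209, nat_lit 174, nat_lit 139, nat_lit 104, nat_lit 384, nat_lit 279, nat_lit 244, nat_lit 209, nat_lit 174, nat_lit 139, nat_lit 104, nat_lit 384, nat_lit 279, nat_lit 244, nat_lit 209, nat_lit 174, nat_lit 139, nat_lit 104, nat_lit 384, nat_lit 279, nat_lit 244], nat_lit 0), ([nat_lit 174, nat_lit 139, nat_lit 104, nat_lit 69, nat_lit 34, nat_lit 209, nat_lit 244, nat_lit 279, nat_lit 314, nat_lit 349, nat_lit 209, nat_lit 384, nat_lit 419, nat_lit 209, nat_lit 174, nat_lit 139, nat_lit 104, nat_lit 69, nat_lit 34, nat_lit 209, nat_lit 244, nat_lit 279, nat_lit 314,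 nat_lit 349, nat_lit 209, nat_lit 384, nat_lit 419, nat_lit 209, nat_lit 174, nat_lit 139, nat_lit 104, nat_lit 69, nat_lit 34, nat_lit 209, nat_lit 244, nat_lit 279, nat_lit 314, nat_lit 349, nat_lit 209, nat_lit 384, nat_lit 419, nat_lit 209, nat_lit 174, nat_lit 139, nat_lit 104, nat_lit 69, nat_lit 34, nat_lit 209, nat_lit 244, nat_lit 279, nat_lit 314, nat_lit 349, nat_lit 209, nat_lit 384, nat_lit 419, nat_lit 209, nat_lit 174, nat_lit 139, nat_lit 104, nat_lit 69, nat_lit 34, nat_lit 209, nat_lit 244, nat_lit 279, nat_lit 314, nat_lit 349, nat_lit 209, nat_lit 384, nat_lit 419, nat_lit 209, nat_lit 174, nat_lit 139, nat_lit 104, nat_lit 69, nat_lit 34, nat_lit 209, nat_lit 244, nat_lit 279, nat_lit 314, nat_lit 349, nat_lit 209, nat_lit 384, nat_lit 419, nat_lit 209, nat_lit 174, nat_lit 139, nat_lit 104, nat_lit 69, nat_lit 34, nat_lit 209, nat_lit 244, nat_lit 279, nat_lit 314, nat_lit 349, nat_lit 209, nat_lit 384, nat_lit 419, nat_lit 209, nat_lit 174,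 nat_lit 139, nat_lit 104, nat_lit 69, nat_lit 34, nat_lit 209, nat_lit 244, nat_lit 279, nat_lit 314, nat_lit 349, nat_lit 209, nat_lit 384, nat_lit 419, nat_lit 209, nat_lit 174, nat_lit 139, nat_lit 104, nat_lit 69, nat_lit 34, nat_lit 209, nat_lit 244, nat_lit 279, nat_lit 314, nat_lit 349, nat_lit 209, nat_lit 384, nat_lit 419, nat_lit 209, nat_lit 174, nat_lit 139, nat_lit 104, nat_lit 69, nat_lit 34, nat_lit 209, nat_lit 244, nat_lit 279, nat_lit 314, nat_lit 349, nat_lit 209, nat_lit 384, nat_lit 419, nat_lit 209, nat_lit 174, nat_lit 139, nat_lit 104, nat_lit 69, nat_lit 34, nat_lit 209, nat_lit 244, nat_lit 279, nat_lit 314, nat_lit 349, nat_lit 209, nat_lit 384, nat_lit 419, nat_lit 209, nat_lit 174, nat_lit 139, nat_lit 104, nat_lit 69, nat_lit 34, nat_lit 209, nat_lit 244, nat_lit 279, nat_lit 314, nat_lit 349, nat_lit 209, nat_lit 384, nat_lit 419, nat_lit 209, nat_lit 174, nat_lit 139, nat_lit 104, nat_lit 69, nat_lit 34, nat_lit 209, nat_lit 244,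 nat_lit 279, nat_lit 314, nat_lit 349, nat_lit 209, nat_lit 384, nat_lit 419, nat_lit 209, nat_lit 174, nat_lit 139, nat_lit 104, nat_lit 69, nat_lit 34, nat_lit 209, nat_lit 244, nat_lit 279, nat_lit 314, nat_lit 349, nat_lit 209, nat_lit 384, nat_lit 419, nat_lit 209, nat_lit 174, nat_lit 139, nat_lit 104, nat_lit 69, nat_lit 34, nat_lit 209, nat_lit 244, nat_lit 279, nat_lit 314, nat_lit 349, nat_lit 209, nat_lit 384, nat_lit 419, nat_lit 209, nat_lit 174, nat_lit 139, nat_lit 104, nat_lit 69, nat_lit 34, nat_lit 209, nat_lit 244, nat_lit 279, nat_lit 314, nat_lit 349, nat_lit 209, nat_lit 384, nat_lit 419, nat_lit 209, nat_lit 174, nat_lit 139, nat_lit 104, nat_lit 69, nat_lit 34, nat_lit 209, nat_lit 244, nat_lit 279, nat_lit 314, nat_lit 349, nat_lit 209, nat_lit 384, nat_lit 419], nat_lit 0), ([nat_lit 174, nat_lit 139, nat_lit 104, nat_lit 384, nat_lit 279, nat_lit 244, nat_lit 209, nat_lit 174, nat_lit 139, nat_lit 104, nat_lit 384, nat_lit 279, nat_lit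 244, nat_lit 209, nat_lit 174, nat_lit 139, nat_lit 104, nat_lit 34, nat_lit 384, nat_lit 279, nat_lit 244, nat_lit 209, nat_lit 174, nat_lit 139, nat_lit 104, nat_lit 384, nat_lit 279, nat_lit 244, nat_lit 209, nat_lit 174, nat_lit 139, nat_lit 104, nat_lit 384, nat_lit 279, nat_lit 244, nat_lit 209, nat_lit 174, nat_lit 139, nat_lit 104, nat_lit 384, nat_lit 279, nat_lit 244, nat_lit 209, nat_lit 174, nat_lit 139, nat_lit 104, nat_lit 384, nat_lit 279, nat_lit 244, nat_lit 209, nat_lit 174, nat_lit 139, nat_lit 104, nat_lit 384, nat_lit 279, nat_lit 244, nat_lit 209, nat_lit 174, nat_lit 139, nat_lit 104, nat_lit 384, nat_lit 279, nat_lit 244], nat_lit 0), ([nat_lit 384, nat_lit 419, nat_lit 209, nat_lit 174, nat_lit 139, nat_lit 104, nat_lit 69, nat_lit 34, nat_lit 209, nat_lit 244, nat_lit 279, nat_lit 314, nat_lit 349, nat_lit 209, nat_lit 384, nat_lit 419, nat_lit 209, nat_lit 174, nat_lit 139, nat_lit 104, nat_lit 69, nat_lit 34, nat_lit 209, nat_lit 244,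 nat_lit 279, nat_lit 314, nat_lit 349, nat_lit 209, nat_lit 384, nat_lit 419, nat_lit 209, nat_lit 174, nat_lit 139, nat_lit 104, nat_lit 69, nat_lit 34, nat_lit 209, nat_lit 244, nat_lit 279, nat_lit 314, nat_lit 349, nat_lit 209, nat_lit 384, nat_lit 419, nat_lit 209, nat_lit 174, nat_lit 139, nat_lit 104, nat_lit 69, nat_lit 34, nat_lit 209, nat_lit 244, nat_lit 279, nat_lit 314, nat_lit 349, nat_lit 209, nat_lit 384, nat_lit 419, nat_lit 209, nat_lit 174, nat_lit 139, nat_lit 104, nat_lit 69, nat_lit 34, nat_lit 209, nat_lit 244, nat_lit 279, nat_lit 314, nat_lit 349, nat_lit 209, nat_lit 384, nat_lit 419, nat_lit 209, nat_lit 174, nat_lit 139, nat_lit 104, nat_lit 69, nat_lit 34, nat_lit 209, nat_lit 244, nat_lit 279, nat_lit 314, nat_lit 349, nat_lit 209, nat_lit 384, nat_lit 419, nat_lit 209, nat_lit 174, nat_lit 139, nat_lit 104, nat_lit 69, nat_lit 34, nat_lit 209, nat_lit 244, nat_lit 279, nat_lit 314, nat_lit 349, nat_lit 209, nat_lit 384, nat_lit 419,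 nat_lit 209, nat_lit 174, nat_lit 139, nat_lit 104, nat_lit 69, nat_lit 34, nat_lit 209, nat_lit 244, nat_lit 279, nat_lit 314, nat_lit 349, nat_lit 209, nat_lit 384, nat_lit 419, nat_lit 209, nat_lit 174, nat_lit 139, nat_lit 104, nat_lit 69, nat_lit 34, nat_lit 209, nat_lit 244, nat_lit 279, nat_lit 314, nat_lit 349, nat_lit 209, nat_lit 384, nat_lit 419, nat_lit 209, nat_lit 174, nat_lit 139, nat_lit 104, nat_lit 69, nat_lit 34, nat_lit 209, nat_lit 244, nat_lit 279, nat_lit 314, nat_lit 349, nat_lit 209, nat_lit 384, nat_lit 419, nat_lit 209, nat_lit 174, nat_lit 139, nat_lit 104, nat_lit 69, nat_lit 34, nat_lit 209, nat_lit 244, nat_lit 279, nat_lit 314, nat_lit 349, nat_lit 209, nat_lit 384, nat_lit 419, nat_lit 209, nat_lit 174, nat_lit 139, nat_lit 104, nat_lit 69, nat_lit 34, nat_lit 209, nat_lit 244, nat_lit 279, nat_lit 314, nat_lit 349, nat_lit 209, nat_lit 384, nat_lit 419, nat_lit 209, nat_lit 174, nat_lit 139, nat_lit 104, nat_lit 69, nat_lit 34,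 nat_lit 209, nat_lit 244, nat_lit 279, nat_lit 314, nat_lit 349, nat_lit 209, nat_lit 384, nat_lit 419, nat_lit 209, nat_lit 174, nat_lit 139, nat_lit 104, nat_lit 69, nat_lit 34, nat_lit 209, nat_lit 244, nat_lit 279, nat_lit 314, nat_lit 349, nat_lit 209, nat_lit 384, nat_lit 419, nat_lit 209, nat_lit 174, nat_lit 139, nat_lit 104, nat_lit 69, nat_lit 34, nat_lit 209, nat_lit 244, nat_lit 279, nat_lit 314, nat_lit 349, nat_lit 209, nat_lit 384, nat_lit 419, nat_lit 209, nat_lit 174, nat_lit 139, nat_lit 104, nat_lit 69, nat_lit 34, nat_lit 209, nat_lit 244, nat_lit 279, nat_lit 314, nat_lit 349, nat_lit 209, nat_lit 384, nat_lit 419, nat_lit 209, nat_lit 174, nat_lit 139, nat_lit 104, nat_lit 69, nat_lit 34, nat_lit 209, nat_lit 244, nat_lit 279, nat_lit 314, nat_lit 349], nat_lit 0)]⟩,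
  ⟨nat_lit 244, nat_lit 1, [([nat_lit 244], nat_lit 0), ([nat_lit 34, nat_lit 244, nat_lit 34], nat_lit 0), ([nat_lit 69, nat_lit 244, nat_lit 69], nat_lit 0), ([nat_lit 104, nat_lit 244, nat_lit 104], nat_lit 0), ([nat_lit 139, nat_lit 244, nat_lit 139], nat_lit 0), ([nat_lit 174, nat_lit 244, nat_lit 174], nat_lit 0), ([nat_lit 384, nat_lit 244, nat_lit 384], nat_lit 0), ([nat_lit 419, nat_lit 244, nat_lit 419], nat_lit 0), ([nat_lit 314, nat_lit 244, nat_lit 314], nat_lit 0), ([nat_lit 349, nat_lit 244, nat_lit 349], nat_lit 0), ([nat_lit 209, nat_lit 244, nat_lit 209, nat_lit 244, nat_lit 209], nat_lit 0), ([nat_lit 279, nat_lit 244, nat_lit 279, nat_lit 244, nat_lit 279], nat_lit 0), ([nat_lit 209, nat_lit 174, nat_lit 139, nat_lit 104, nat_lit 384, nat_lit 279, nat_lit 244, nat_lit 209, nat_lit 174, nat_lit 139, nat_lit 104, nat_lit 384, nat_lit 279, nat_lit 244, nat_lit 209, nat_lit 174, nat_lit 139, nat_lit 104, nat_lit 384, nat_lit 279, nat_lit 244, nat_lit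 209, nat_lit 174, nat_lit 139, nat_lit 104, nat_lit 384, nat_lit 279, nat_lit 244, nat_lit 209, nat_lit 174, nat_lit 139, nat_lit 104, nat_lit 384, nat_lit 279, nat_lit 244, nat_lit 209, nat_lit 174, nat_lit 139, nat_lit 104, nat_lit 384, nat_lit 279, nat_lit 244, nat_lit 209, nat_lit 174, nat_lit 139, nat_lit 104, nat_lit 384, nat_lit 279, nat_lit 244, nat_lit 209, nat_lit 174, nat_lit 139, nat_lit 104, nat_lit 384, nat_lit 279, nat_lit 244, nat_lit 209, nat_lit 174, nat_lit 139, nat_lit 104, nat_lit 34, nat_lit 384, nat_lit 279], nat_lit 0), ([nat_lit 279, nat_lit 314, nat_lit 349, nat_lit 209, nat_lit 384, nat_lit 419, nat_lit 209, nat_lit 174, nat_lit 139, nat_lit 104, nat_lit 69, nat_lit 34, nat_lit 209, nat_lit 244, nat_lit 279, nat_lit 314, nat_lit 349, nat_lit 209, nat_lit 384, nat_lit 419, nat_lit 209, nat_lit 174, nat_lit 139, nat_lit 104, nat_lit 69, nat_lit 34, nat_lit 209, nat_lit 244, nat_lit 279, nat_lit 314, nat_lit 349, nat_lit 209, nat_lit 384,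 nat_lit 419, nat_lit 209, nat_lit 174, nat_lit 139, nat_lit 104, nat_lit 69, nat_lit 34, nat_lit 209, nat_lit 244, nat_lit 279, nat_lit 314, nat_lit 349, nat_lit 209, nat_lit 384, nat_lit 419, nat_lit 209, nat_lit 174, nat_lit 139, nat_lit 104, nat_lit 69, nat_lit 34, nat_lit 209, nat_lit 244, nat_lit 279, nat_lit 314, nat_lit 349, nat_lit 209, nat_lit 384, nat_lit 419, nat_lit 209, nat_lit 174, nat_lit 139, nat_lit 104, nat_lit 69, nat_lit 34, nat_lit 209, nat_lit 244, nat_lit 279, nat_lit 314, nat_lit 349, nat_lit 209, nat_lit 384, nat_lit 419, nat_lit 209, nat_lit 174, nat_lit 139, nat_lit 104, nat_lit 69, nat_lit 34, nat_lit 209, nat_lit 244, nat_lit 279, nat_lit 314, nat_lit 349, nat_lit 209, nat_lit 384, nat_lit 419, nat_lit 209, nat_lit 174, nat_lit 139, nat_lit 104, nat_lit 69, nat_lit 34, nat_lit 209, nat_lit 244, nat_lit 279, nat_lit 314, nat_lit 349, nat_lit 209, nat_lit 384, nat_lit 419, nat_lit 209, nat_lit 174, nat_lit 139, nat_lit 104, nat_lit 69,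 nat_lit 34, nat_lit 209, nat_lit 244, nat_lit 279, nat_lit 314, nat_lit 349, nat_lit 209, nat_lit 384, nat_lit 419, nat_lit 209, nat_lit 174, nat_lit 139, nat_lit 104, nat_lit 69, nat_lit 34, nat_lit 209, nat_lit 244, nat_lit 279, nat_lit 314, nat_lit 349, nat_lit 209, nat_lit 384, nat_lit 419, nat_lit 209, nat_lit 174, nat_lit 139, nat_lit 104, nat_lit 69, nat_lit 34, nat_lit 209, nat_lit 244, nat_lit 279, nat_lit 314, nat_lit 349, nat_lit 209, nat_lit 384, nat_lit 419, nat_lit 209, nat_lit 174, nat_lit 139, nat_lit 104, nat_lit 69, nat_lit 34, nat_lit 209, nat_lit 244, nat_lit 279, nat_lit 314, nat_lit 349, nat_lit 209, nat_lit 384, nat_lit 419, nat_lit 209, nat_lit 174, nat_lit 139, nat_lit 104, nat_lit 69, nat_lit 34, nat_lit 209, nat_lit 244, nat_lit 279, nat_lit 314, nat_lit 349, nat_lit 209, nat_lit 384, nat_lit 419, nat_lit 209, nat_lit 174, nat_lit 139, nat_lit 104, nat_lit 69, nat_lit 34, nat_lit 209, nat_lit 244, nat_lit 279, nat_lit 314, nat_lit 349,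 nat_lit 209, nat_lit 384, nat_lit 419, nat_lit 209, nat_lit 174, nat_lit 139, nat_lit 104, nat_lit 69, nat_lit 34, nat_lit 209, nat_lit 244, nat_lit 279, nat_lit 314, nat_lit 349, nat_lit 209, nat_lit 384, nat_lit 419, nat_lit 209, nat_lit 174, nat_lit 139, nat_lit 104, nat_lit 69, nat_lit 34, nat_lit 209, nat_lit 244, nat_lit 279, nat_lit 314, nat_lit 349, nat_lit 209, nat_lit 384, nat_lit 419, nat_lit 209, nat_lit 174, nat_lit 139, nat_lit 104, nat_lit 69, nat_lit 34, nat_lit 209, nat_lit 244, nat_lit 279, nat_lit 314, nat_lit 349, nat_lit 209, nat_lit 384, nat_lit 419, nat_lit 209, nat_lit 174, nat_lit 139, nat_lit 104, nat_lit 69, nat_lit 34, nat_lit 209], nat_lit 0), ([nat_lit 209, nat_lit 174, nat_lit 139, nat_lit 104, nat_lit 384, nat_lit 279, nat_lit 244, nat_lit 209, nat_lit 174, nat_lit 139, nat_lit 104, nat_lit 384, nat_lit 279, nat_lit 244, nat_lit 209, nat_lit 174, nat_lit 139, nat_lit 104, nat_lit 384, nat_lit 279, nat_lit 244, nat_lit 209, nat_lit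 174, nat_lit 139, nat_lit 104, nat_lit 384, nat_lit 279, nat_lit 244, nat_lit 209, nat_lit 174, nat_lit 139, nat_lit 104, nat_lit 384, nat_lit 279, nat_lit 244, nat_lit 209, nat_lit 174, nat_lit 139, nat_lit 104, nat_lit 384, nat_lit 279, nat_lit 244, nat_lit 209, nat_lit 174, nat_lit 139, nat_lit 104, nat_lit 384, nat_lit 279, nat_lit 244, nat_lit 209, nat_lit 174, nat_lit 139, nat_lit 104, nat_lit 34, nat_lit 384, nat_lit 279, nat_lit 244, nat_lit 209, nat_lit 174, nat_lit 139, nat_lit 104, nat_lit 384, nat_lit 279], nat_lit 0), ([nat_lit 209, nat_lit 174, nat_lit 139, nat_lit 104, nat_lit 384, nat_lit 279, nat_lit 244, nat_lit 209, nat_lit 174, nat_lit 139, nat_lit 104, nat_lit 384, nat_lit 279, nat_lit 244, nat_lit 209, nat_lit 174, nat_lit 139, nat_lit 104, nat_lit 384, nat_lit 279, nat_lit 244, nat_lit 209, nat_lit 174, nat_lit 139, nat_lit 104, nat_lit 384, nat_lit 279, nat_lit 244, nat_lit 209, nat_lit 174, nat_lit 139, nat_lit 104, nat_lit 384, nat_lit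 279, nat_lit 244, nat_lit 209, nat_lit 174, nat_lit 139, nat_lit 104, nat_lit 34, nat_lit 384, nat_lit 279, nat_lit 244, nat_lit 209, nat_lit 174, nat_lit 139, nat_lit 104, nat_lit 384, nat_lit 279, nat_lit 244, nat_lit 209, nat_lit 174, nat_lit 139, nat_lit 104, nat_lit 384, nat_lit 279, nat_lit 244, nat_lit 209, nat_lit 174, nat_lit 139, nat_lit 104, nat_lit 384, nat_lit 279], nat_lit 0), ([nat_lit 209, nat_lit 174, nat_lit 139, nat_lit 104, nat_lit 384, nat_lit 279, nat_lit 244, nat_lit 209, nat_lit 174, nat_lit 139, nat_lit 104, nat_lit 34, nat_lit 384, nat_lit 279, nat_lit 244, nat_lit 209, nat_lit 174, nat_lit 139, nat_lit 104, nat_lit 384, nat_lit 279, nat_lit 244, nat_lit 209, nat_lit 174, nat_lit 139, nat_lit 104, nat_lit 384, nat_lit 279, nat_lit 244, nat_lit 209, nat_lit 174, nat_lit 139, nat_lit 104, nat_lit 384, nat_lit 279, nat_lit 244, nat_lit 209, nat_lit 174, nat_lit 139, nat_lit 104, nat_lit 384, nat_lit 279, nat_lit 244, nat_lit 209, nat_lit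 174, nat_lit 139, nat_lit 104, nat_lit 384, nat_lit 279, nat_lit 244, nat_lit 209, nat_lit 174, nat_lit 139, nat_lit 104, nat_lit 384, nat_lit 279, nat_lit 244, nat_lit 209, nat_lit 174, nat_lit 139, nat_lit 104, nat_lit 384, nat_lit 279], nat_lit 0), ([nat_lit 209, nat_lit 174, nat_lit 139, nat_lit 104, nat_lit 384, nat_lit 279, nat_lit 244, nat_lit 209, nat_lit 174, nat_lit 139, nat_lit 104, nat_lit 384, nat_lit 279, nat_lit 244, nat_lit 209, nat_lit 174, nat_lit 139, nat_lit 104, nat_lit 384, nat_lit 279, nat_lit 244, nat_lit 209, nat_lit 174, nat_lit 139, nat_lit 104, nat_lit 384, nat_lit 279, nat_lit 244, nat_lit 209, nat_lit 174, nat_lit 139, nat_lit 104, nat_lit 384, nat_lit 279, nat_lit 244, nat_lit 209, nat_lit 174, nat_lit 139, nat_lit 104, nat_lit 384, nat_lit 279, nat_lit 244, nat_lit 209, nat_lit 174, nat_lit 139, nat_lit 104, nat_lit 34, nat_lit 384, nat_lit 279, nat_lit 244, nat_lit 209, nat_lit 174, nat_lit 139, nat_lit 104, nat_lit 384, nat_lit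 279, nat_lit 244, nat_lit 209, nat_lit 174, nat_lit 139, nat_lit 104, nat_lit 384, nat_lit 279], nat_lit 0), ([nat_lit 209, nat_lit 174, nat_lit 139, nat_lit 104, nat_lit 384, nat_lit 279, nat_lit 244, nat_lit 209, nat_lit 174, nat_lit 139, nat_lit 104, nat_lit 384, nat_lit 279, nat_lit 244, nat_lit 209, nat_lit 174, nat_lit 139, nat_lit 104, nat_lit 384, nat_lit 279, nat_lit 244, nat_lit 209, nat_lit 174, nat_lit 139, nat_lit 104, nat_lit 384, nat_lit 279, nat_lit 244, nat_lit 209, nat_lit 174, nat_lit 139, nat_lit 104, nat_lit 34, nat_lit 384, nat_lit 279, nat_lit 244, nat_lit 209, nat_lit 174, nat_lit 139, nat_lit 104, nat_lit 384, nat_lit 279, nat_lit 244, nat_lit 209, nat_lit 174, nat_lit 139, nat_lit 104, nat_lit 384, nat_lit 279, nat_lit 244, nat_lit 209, nat_lit 174, nat_lit 139, nat_lit 104, nat_lit 384, nat_lit 279, nat_lit 244, nat_lit 209, nat_lit 174, nat_lit 139, nat_lit 104, nat_lit 384, nat_lit 279], nat_lit 0), ([nat_lit 209, nat_lit 174, nat_lit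 139, nat_lit 104, nat_lit 384, nat_lit 279, nat_lit 244, nat_lit 209, nat_lit 174, nat_lit 139, nat_lit 104, nat_lit 384, nat_lit 279, nat_lit 244, nat_lit 209, nat_lit 174, nat_lit 139, nat_lit 104, nat_lit 384, nat_lit 279, nat_lit 244, nat_lit 209, nat_lit 174, nat_lit 139, nat_lit 104, nat_lit 34, nat_lit 384, nat_lit 279, nat_lit 244, nat_lit 209, nat_lit 174, nat_lit 139, nat_lit 104, nat_lit 384, nat_lit 279, nat_lit 244, nat_lit 209, nat_lit 174, nat_lit 139, nat_lit 104, nat_lit 384, nat_lit 279, nat_lit 244, nat_lit 209, nat_lit 174, nat_lit 139, nat_lit 104, nat_lit 384, nat_lit 279, nat_lit 244, nat_lit 209, nat_lit 174, nat_lit 139, nat_lit 104, nat_lit 384, nat_lit 279, nat_lit 244, nat_lit 209, nat_lit 174, nat_lit 139, nat_lit 104, nat_lit 384, nat_lit 279], nat_lit 0), ([nat_lit 209, nat_lit 174, nat_lit 139, nat_lit 104, nat_lit 34, nat_lit 384, nat_lit 279, nat_lit 244, nat_lit 209, nat_lit 174, nat_lit 139, nat_lit 104, nat_lit 384, nat_lit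 279, nat_lit 244, nat_lit 209, nat_lit 174, nat_lit 139, nat_lit 104, nat_lit 384, nat_lit 279, nat_lit 244, nat_lit 209, nat_lit 174, nat_lit 139, nat_lit 104, nat_lit 384, nat_lit 279, nat_lit 244, nat_lit 209, nat_lit 174, nat_lit 139, nat_lit 104, nat_lit 384, nat_lit 279, nat_lit 244, nat_lit 209, nat_lit 174, nat_lit 139, nat_lit 104, nat_lit 384, nat_lit 279, nat_lit 244, nat_lit 209, nat_lit 174, nat_lit 139, nat_lit 104, nat_lit 384, nat_lit 279, nat_lit 244, nat_lit 209, nat_lit 174, nat_lit 139, nat_lit 104, nat_lit 384, nat_lit 279, nat_lit 244, nat_lit 209, nat_lit 174, nat_lit 139, nat_lit 104, nat_lit 384, nat_lit 279], nat_lit 0), ([nat_lit 209, nat_lit 174, nat_lit 139, nat_lit 104, nat_lit 384, nat_lit 279, nat_lit 244, nat_lit 209, nat_lit 174, nat_lit 139, nat_lit 104, nat_lit 384, nat_lit 279, nat_lit 244, nat_lit 209, nat_lit 174, nat_lit 139, nat_lit 104, nat_lit 34, nat_lit 384, nat_lit 279, nat_lit 244, nat_lit 209, nat_lit 174, nat_lit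 139, nat_lit 104, nat_lit 384, nat_lit 279, nat_lit 244, nat_lit 209, nat_lit 174, nat_lit 139, nat_lit 104, nat_lit 384, nat_lit 279, nat_lit 244, nat_lit 209, nat_lit 174, nat_lit 139, nat_lit 104, nat_lit 384, nat_lit 279, nat_lit 244, nat_lit 209, nat_lit 174, nat_lit 139, nat_lit 104, nat_lit 384, nat_lit 279, nat_lit 244, nat_lit 209, nat_lit 174, nat_lit 139, nat_lit 104, nat_lit 384, nat_lit 279, nat_lit 244, nat_lit 209, nat_lit 174, nat_lit 139, nat_lit 104, nat_lit 384, nat_lit 279], nat_lit 0)]⟩,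
  ⟨nat_lit 279, nat_lit 1, [([nat_lit 279], nat_lit 0), ([nat_lit 34, nat_lit 279, nat_lit 34], nat_lit 0), ([nat_lit 69, nat_lit 279, nat_lit 69], nat_lit 0), ([nat_lit 104, nat_lit 279, nat_lit 104], nat_lit 0), ([nat_lit 139, nat_lit 279, nat_lit 139], nat_lit 0), ([nat_lit 174, nat_lit 279, nat_lit 174], nat_lit 0), ([nat_lit 209, nat_lit 279, nat_lit 209], nat_lit 0), ([nat_lit 384, nat_lit 279, nat_lit 384], nat_lit 0), ([nat_lit 419, nat_lit 279, nat_lit 419], nat_lit 0), ([nat_lit 349, nat_lit 279, nat_lit 349], nat_lit 0), ([nat_lit 244, nat_lit 279, nat_lit 244, nat_lit 279, nat_lit 244], nat_lit 0), ([nat_lit 314, nat_lit 279, nat_lit 314, nat_lit 279, nat_lit 314], nat_lit 0), ([nat_lit 244, nat_lit 209, nat_lit 174, nat_lit 139, nat_lit 104, nat_lit 384, nat_lit 279, nat_lit 244, nat_lit 209, nat_lit 174, nat_lit 139, nat_lit 104, nat_lit 384, nat_lit 279, nat_lit 244, nat_lit 209, nat_lit 174, nat_lit 139, nat_lit 104, nat_lit 384, nat_lit 279, nat_lit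 244, nat_lit 209, nat_lit 174, nat_lit 139, nat_lit 104, nat_lit 384, nat_lit 279, nat_lit 244, nat_lit 209, nat_lit 174, nat_lit 139, nat_lit 104, nat_lit 384, nat_lit 279, nat_lit 244, nat_lit 209, nat_lit 174, nat_lit 139, nat_lit 104, nat_lit 384, nat_lit 279, nat_lit 244, nat_lit 209, nat_lit 174, nat_lit 139, nat_lit 104, nat_lit 384, nat_lit 279, nat_lit 244, nat_lit 209, nat_lit 174, nat_lit 139, nat_lit 104, nat_lit 384, nat_lit 279, nat_lit 244, nat_lit 209, nat_lit 174, nat_lit 139, nat_lit 104, nat_lit 34, nat_lit 384], nat_lit 0), ([nat_lit 314, nat_lit 349, nat_lit 209, nat_lit 384, nat_lit 419, nat_lit 209, nat_lit 174, nat_lit 139, nat_lit 104, nat_lit 69, nat_lit 34, nat_lit 209, nat_lit 244, nat_lit 279, nat_lit 314, nat_lit 349, nat_lit 209, nat_lit 384, nat_lit 419, nat_lit 209, nat_lit 174, nat_lit 139, nat_lit 104, nat_lit 69, nat_lit 34, nat_lit 209, nat_lit 244, nat_lit 279, nat_lit 314, nat_lit 349, nat_lit 209, nat_lit 384, nat_lit 419,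 nat_lit 209, nat_lit 174, nat_lit 139, nat_lit 104, nat_lit 69, nat_lit 34, nat_lit 209, nat_lit 244, nat_lit 279, nat_lit 314, nat_lit 349, nat_lit 209, nat_lit 384, nat_lit 419, nat_lit 209, nat_lit 174, nat_lit 139, nat_lit 104, nat_lit 69, nat_lit 34, nat_lit 209, nat_lit 244, nat_lit 279, nat_lit 314, nat_lit 349, nat_lit 209, nat_lit 384, nat_lit 419, nat_lit 209, nat_lit 174, nat_lit 139, nat_lit 104, nat_lit 69, nat_lit 34, nat_lit 209, nat_lit 244, nat_lit 279, nat_lit 314, nat_lit 349, nat_lit 209, nat_lit 384, nat_lit 419, nat_lit 209, nat_lit 174, nat_lit 139, nat_lit 104, nat_lit 69, nat_lit 34, nat_lit 209, nat_lit 244, nat_lit 279, nat_lit 314, nat_lit 349, nat_lit 209, nat_lit 384, nat_lit 419, nat_lit 209, nat_lit 174, nat_lit 139, nat_lit 104, nat_lit 69, nat_lit 34, nat_lit 209, nat_lit 244, nat_lit 279, nat_lit 314, nat_lit 349, nat_lit 209, nat_lit 384, nat_lit 419, nat_lit 209, nat_lit 174, nat_lit 139, nat_lit 104, nat_lit 69, nat_lit 34,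 nat_lit 209, nat_lit 244, nat_lit 279, nat_lit 314, nat_lit 349, nat_lit 209, nat_lit 384, nat_lit 419, nat_lit 209, nat_lit 174, nat_lit 139, nat_lit 104, nat_lit 69, nat_lit 34, nat_lit 209, nat_lit 244, nat_lit 279, nat_lit 314, nat_lit 349, nat_lit 209, nat_lit 384, nat_lit 419, nat_lit 209, nat_lit 174, nat_lit 139, nat_lit 104, nat_lit 69, nat_lit 34, nat_lit 209, nat_lit 244, nat_lit 279, nat_lit 314, nat_lit 349, nat_lit 209, nat_lit 384, nat_lit 419, nat_lit 209, nat_lit 174, nat_lit 139, nat_lit 104, nat_lit 69, nat_lit 34, nat_lit 209, nat_lit 244, nat_lit 279, nat_lit 314, nat_lit 349, nat_lit 209, nat_lit 384, nat_lit 419, nat_lit 209, nat_lit 174, nat_lit 139, nat_lit 104, nat_lit 69, nat_lit 34, nat_lit 209, nat_lit 244, nat_lit 279, nat_lit 314, nat_lit 349, nat_lit 209, nat_lit 384, nat_lit 419, nat_lit 209, nat_lit 174, nat_lit 139, nat_lit 104, nat_lit 69, nat_lit 34, nat_lit 209, nat_lit 244, nat_lit 279, nat_lit 314, nat_lit 349, nat_lit 209,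 nat_lit 384, nat_lit 419, nat_lit 209, nat_lit 174, nat_lit 139, nat_lit 104, nat_lit 69, nat_lit 34, nat_lit 209, nat_lit 244, nat_lit 279, nat_lit 314, nat_lit 349, nat_lit 209, nat_lit 384, nat_lit 419, nat_lit 209, nat_lit 174, nat_lit 139, nat_lit 104, nat_lit 69, nat_lit 34, nat_lit 209, nat_lit 244, nat_lit 279, nat_lit 314, nat_lit 349, nat_lit 209, nat_lit 384, nat_lit 419, nat_lit 209, nat_lit 174, nat_lit 139, nat_lit 104, nat_lit 69, nat_lit 34, nat_lit 209, nat_lit 244, nat_lit 279, nat_lit 314, nat_lit 349, nat_lit 209, nat_lit 384, nat_lit 419, nat_lit 209, nat_lit 174, nat_lit 139, nat_lit 104, nat_lit 69, nat_lit 34, nat_lit 209, nat_lit 244], nat_lit 0), ([nat_lit 244, nat_lit 209, nat_lit 174, nat_lit 139, nat_lit 104, nat_lit 384, nat_lit 279, nat_lit 244, nat_lit 209, nat_lit 174, nat_lit 139, nat_lit 104, nat_lit 384, nat_lit 279, nat_lit 244, nat_lit 209, nat_lit 174, nat_lit 139, nat_lit 104, nat_lit 384, nat_lit 279, nat_lit 244, nat_lit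 209, nat_lit 174, nat_lit 139, nat_lit 104, nat_lit 384, nat_lit 279, nat_lit 244, nat_lit 209, nat_lit 174, nat_lit 139, nat_lit 104, nat_lit 384, nat_lit 279, nat_lit 244, nat_lit 209, nat_lit 174, nat_lit 139, nat_lit 104, nat_lit 384, nat_lit 279, nat_lit 244, nat_lit 209, nat_lit 174, nat_lit 139, nat_lit 104, nat_lit 384, nat_lit 279, nat_lit 244, nat_lit 209, nat_lit 174, nat_lit 139, nat_lit 104, nat_lit 34, nat_lit 384, nat_lit 279, nat_lit 244, nat_lit 209, nat_lit 174, nat_lit 139, nat_lit 104, nat_lit 384], nat_lit 0), ([nat_lit 244, nat_lit 209, nat_lit 174, nat_lit 139, nat_lit 104, nat_lit 34, nat_lit 384, nat_lit 279, nat_lit 244, nat_lit 209, nat_lit 174, nat_lit 139, nat_lit 104, nat_lit 384, nat_lit 279, nat_lit 244, nat_lit 209, nat_lit 174, nat_lit 139, nat_lit 104, nat_lit 384, nat_lit 279, nat_lit 244, nat_lit 209, nat_lit 174, nat_lit 139, nat_lit 104, nat_lit 384, nat_lit 279, nat_lit 244, nat_lit 209, nat_lit 174, nat_lit 139, nat_lit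 104, nat_lit 384, nat_lit 279, nat_lit 244, nat_lit 209, nat_lit 174, nat_lit 139, nat_lit 104, nat_lit 384, nat_lit 279, nat_lit 244, nat_lit 209, nat_lit 174, nat_lit 139, nat_lit 104, nat_lit 384, nat_lit 279, nat_lit 244, nat_lit 209, nat_lit 174, nat_lit 139, nat_lit 104, nat_lit 384, nat_lit 279, nat_lit 244, nat_lit 209, nat_lit 174, nat_lit 139, nat_lit 104, nat_lit 384], nat_lit 0), ([nat_lit 244, nat_lit 209, nat_lit 174, nat_lit 139, nat_lit 104, nat_lit 384, nat_lit 279, nat_lit 244, nat_lit 209, nat_lit 174, nat_lit 139, nat_lit 104, nat_lit 384, nat_lit 279, nat_lit 244, nat_lit 209, nat_lit 174, nat_lit 139, nat_lit 104, nat_lit 384, nat_lit 279, nat_lit 244, nat_lit 209, nat_lit 174, nat_lit 139, nat_lit 104, nat_lit 384, nat_lit 279, nat_lit 244, nat_lit 209, nat_lit 174, nat_lit 139, nat_lit 104, nat_lit 384, nat_lit 279, nat_lit 244, nat_lit 209, nat_lit 174, nat_lit 139, nat_lit 104, nat_lit 34, nat_lit 384, nat_lit 279, nat_lit 244, nat_lit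 209, nat_lit 174, nat_lit 139, nat_lit 104, nat_lit 384, nat_lit 279, nat_lit 244, nat_lit 209, nat_lit 174, nat_lit 139, nat_lit 104, nat_lit 384, nat_lit 279, nat_lit 244, nat_lit 209, nat_lit 174, nat_lit 139, nat_lit 104, nat_lit 384], nat_lit 0), ([nat_lit 244, nat_lit 209, nat_lit 174, nat_lit 139, nat_lit 104, nat_lit 384, nat_lit 279, nat_lit 244, nat_lit 209, nat_lit 174, nat_lit 139, nat_lit 104, nat_lit 384, nat_lit 279, nat_lit 244, nat_lit 209, nat_lit 174, nat_lit 139, nat_lit 104, nat_lit 384, nat_lit 279, nat_lit 244, nat_lit 209, nat_lit 174, nat_lit 139, nat_lit 104, nat_lit 384, nat_lit 279, nat_lit 244, nat_lit 209, nat_lit 174, nat_lit 139, nat_lit 104, nat_lit 384, nat_lit 279, nat_lit 244, nat_lit 209, nat_lit 174, nat_lit 139, nat_lit 104, nat_lit 384, nat_lit 279, nat_lit 244, nat_lit 209, nat_lit 174, nat_lit 139, nat_lit 104, nat_lit 34, nat_lit 384, nat_lit 279, nat_lit 244, nat_lit 209, nat_lit 174, nat_lit 139, nat_lit 104, nat_lit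 384, nat_lit 279, nat_lit 244, nat_lit 209, nat_lit 174, nat_lit 139, nat_lit 104, nat_lit 384], nat_lit 0), ([nat_lit 244, nat_lit 209, nat_lit 174, nat_lit 139, nat_lit 104, nat_lit 384, nat_lit 279, nat_lit 244, nat_lit 209, nat_lit 174, nat_lit 139, nat_lit 104, nat_lit 34, nat_lit 384, nat_lit 279, nat_lit 244, nat_lit 209, nat_lit 174, nat_lit 139, nat_lit 104, nat_lit 384, nat_lit 279, nat_lit 244, nat_lit 209, nat_lit 174, nat_lit 139, nat_lit 104, nat_lit 384, nat_lit 279, nat_lit 244, nat_lit 209, nat_lit 174, nat_lit 139, nat_lit 104, nat_lit 384, nat_lit 279, nat_lit 244, nat_lit 209, nat_lit 174, nat_lit 139, nat_lit 104, nat_lit 384, nat_lit 279, nat_lit 244, nat_lit 209, nat_lit 174, nat_lit 139, nat_lit 104, nat_lit 384, nat_lit 279, nat_lit 244, nat_lit 209, nat_lit 174, nat_lit 139, nat_lit 104, nat_lit 384, nat_lit 279, nat_lit 244, nat_lit 209, nat_lit 174, nat_lit 139, nat_lit 104, nat_lit 384], nat_lit 0), ([nat_lit 244, nat_lit 209, nat_lit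 174, nat_lit 139, nat_lit 104, nat_lit 384, nat_lit 279, nat_lit 244, nat_lit 209, nat_lit 174, nat_lit 139, nat_lit 104, nat_lit 384, nat_lit 279, nat_lit 244, nat_lit 209, nat_lit 174, nat_lit 139, nat_lit 104, nat_lit 384, nat_lit 279, nat_lit 244, nat_lit 209, nat_lit 174, nat_lit 139, nat_lit 104, nat_lit 384, nat_lit 279, nat_lit 244, nat_lit 209, nat_lit 174, nat_lit 139, nat_lit 104, nat_lit 34, nat_lit 384, nat_lit 279, nat_lit 244, nat_lit 209, nat_lit 174, nat_lit 139, nat_lit 104, nat_lit 384, nat_lit 279, nat_lit 244, nat_lit 209, nat_lit 174, nat_lit 139, nat_lit 104, nat_lit 384, nat_lit 279, nat_lit 244, nat_lit 209, nat_lit 174, nat_lit 139, nat_lit 104, nat_lit 384, nat_lit 279, nat_lit 244, nat_lit 209, nat_lit 174, nat_lit 139, nat_lit 104, nat_lit 384], nat_lit 0), ([nat_lit 244, nat_lit 209, nat_lit 174, nat_lit 139, nat_lit 104, nat_lit 384, nat_lit 279, nat_lit 244, nat_lit 209, nat_lit 174, nat_lit 139, nat_lit 104, nat_lit 384, nat_lit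 279, nat_lit 244, nat_lit 209, nat_lit 174, nat_lit 139, nat_lit 104, nat_lit 384, nat_lit 279, nat_lit 244, nat_lit 209, nat_lit 174, nat_lit 139, nat_lit 104, nat_lit 34, nat_lit 384, nat_lit 279, nat_lit 244, nat_lit 209, nat_lit 174, nat_lit 139, nat_lit 104, nat_lit 384, nat_lit 279, nat_lit 244, nat_lit 209, nat_lit 174, nat_lit 139, nat_lit 104, nat_lit 384, nat_lit 279, nat_lit 244, nat_lit 209, nat_lit 174, nat_lit 139, nat_lit 104, nat_lit 384, nat_lit 279, nat_lit 244, nat_lit 209, nat_lit 174, nat_lit 139, nat_lit 104, nat_lit 384, nat_lit 279, nat_lit 244, nat_lit 209, nat_lit 174, nat_lit 139, nat_lit 104, nat_lit 384], nat_lit 0), ([nat_lit 244, nat_lit 209, nat_lit 174, nat_lit 139, nat_lit 104, nat_lit 384, nat_lit 279, nat_lit 244, nat_lit 209, nat_lit 174, nat_lit 139, nat_lit 104, nat_lit 384, nat_lit 279, nat_lit 244, nat_lit 209, nat_lit 174, nat_lit 139, nat_lit 104, nat_lit 34, nat_lit 384, nat_lit 279, nat_lit 244, nat_lit 209, nat_lit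 174, nat_lit 139, nat_lit 104, nat_lit 384, nat_lit 279, nat_lit 244, nat_lit 209, nat_lit 174, nat_lit 139, nat_lit 104, nat_lit 384, nat_lit 279, nat_lit 244, nat_lit 209, nat_lit 174, nat_lit 139, nat_lit 104, nat_lit 384, nat_lit 279, nat_lit 244, nat_lit 209, nat_lit 174, nat_lit 139, nat_lit 104, nat_lit 384, nat_lit 279, nat_lit 244, nat_lit 209, nat_lit 174, nat_lit 139, nat_lit 104, nat_lit 384, nat_lit 279, nat_lit 244, nat_lit 209, nat_lit 174, nat_lit 139, nat_lit 104, nat_lit 384], nat_lit 0)]⟩,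
  ⟨nat_lit 314, nat_lit 1, [([nat_lit 314], nat_lit 0), ([nat_lit 34, nat_lit 314, nat_lit 34], nat_lit 0), ([nat_lit 69, nat_lit 314, nat_lit 69], nat_lit 0), ([nat_lit 104, nat_lit 314, nat_lit 104], nat_lit 0), ([nat_lit 139, nat_lit 314, nat_lit 139], nat_lit 0), ([nat_lit 174, nat_lit 314, nat_lit 174], nat_lit 0), ([nat_lit 209, nat_lit 314, nat_lit 209], nat_lit 0), ([nat_lit 244, nat_lit 314, nat_lit 244], nat_lit 0), ([nat_lit 384, nat_lit 314, nat_lit 384], nat_lit 0), ([nat_lit 419, nat_lit 314, nat_lit 419], nat_lit 0), ([nat_lit 279, nat_lit 314, nat_lit 279, nat_lit 314, nat_lit 279], nat_lit 0), ([nat_lit 349, nat_lit 209, nat_lit 384, nat_lit 419, nat_lit 209, nat_lit 174, nat_lit 139, nat_lit 104, nat_lit 69, nat_lit 34, nat_lit 209, nat_lit 244, nat_lit 279, nat_lit 314, nat_lit 349, nat_lit 209, nat_lit 384, nat_lit 419, nat_lit 209, nat_lit 174, nat_lit 139, nat_lit 104, nat_lit 69, nat_lit 34, nat_lit 209, nat_lit 244, nat_lit 279, nat_lit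 314, nat_lit 349, nat_lit 209, nat_lit 384, nat_lit 419, nat_lit 209, nat_lit 174, nat_lit 139, nat_lit 104, nat_lit 69, nat_lit 34, nat_lit 209, nat_lit 244, nat_lit 279, nat_lit 314, nat_lit 349, nat_lit 209, nat_lit 384, nat_lit 419, nat_lit 209, nat_lit 174, nat_lit 139, nat_lit 104, nat_lit 69, nat_lit 34, nat_lit 209, nat_lit 244, nat_lit 279, nat_lit 314, nat_lit 349, nat_lit 209, nat_lit 384, nat_lit 419, nat_lit 209, nat_lit 174, nat_lit 139, nat_lit 104, nat_lit 69, nat_lit 34, nat_lit 209, nat_lit 244, nat_lit 279, nat_lit 314, nat_lit 349, nat_lit 209, nat_lit 384, nat_lit 419, nat_lit 209, nat_lit 174, nat_lit 139, nat_lit 104, nat_lit 69, nat_lit 34, nat_lit 209, nat_lit 244, nat_lit 279, nat_lit 314, nat_lit 349, nat_lit 209, nat_lit 384, nat_lit 419, nat_lit 209, nat_lit 174, nat_lit 139, nat_lit 104, nat_lit 69, nat_lit 34, nat_lit 209, nat_lit 244, nat_lit 279, nat_lit 314, nat_lit 349, nat_lit 209, nat_lit 384, nat_lit 419, nat_lit 209, nat_lit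 174, nat_lit 139, nat_lit 104, nat_lit 69, nat_lit 34, nat_lit 209, nat_lit 244, nat_lit 279, nat_lit 314, nat_lit 349, nat_lit 209, nat_lit 384, nat_lit 419, nat_lit 209, nat_lit 174, nat_lit 139, nat_lit 104, nat_lit 69, nat_lit 34, nat_lit 209, nat_lit 244, nat_lit 279, nat_lit 314, nat_lit 349, nat_lit 209, nat_lit 384, nat_lit 419, nat_lit 209, nat_lit 174, nat_lit 139, nat_lit 104, nat_lit 69, nat_lit 34, nat_lit 209, nat_lit 244, nat_lit 279, nat_lit 314, nat_lit 349, nat_lit 209, nat_lit 384, nat_lit 419, nat_lit 209, nat_lit 174, nat_lit 139, nat_lit 104, nat_lit 69, nat_lit 34, nat_lit 209, nat_lit 244, nat_lit 279, nat_lit 314, nat_lit 349, nat_lit 209, nat_lit 384, nat_lit 419, nat_lit 209, nat_lit 174, nat_lit 139, nat_lit 104, nat_lit 69, nat_lit 34, nat_lit 209, nat_lit 244, nat_lit 279, nat_lit 314, nat_lit 349, nat_lit 209, nat_lit 384, nat_lit 419, nat_lit 209, nat_lit 174, nat_lit 139, nat_lit 104, nat_lit 69, nat_lit 34, nat_lit 209, nat_lit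 244, nat_lit 279, nat_lit 314, nat_lit 349, nat_lit 209, nat_lit 384, nat_lit 419, nat_lit 209, nat_lit 174, nat_lit 139, nat_lit 104, nat_lit 69, nat_lit 34, nat_lit 209, nat_lit 244, nat_lit 279, nat_lit 314, nat_lit 349, nat_lit 209, nat_lit 384, nat_lit 419, nat_lit 209, nat_lit 174, nat_lit 139, nat_lit 104, nat_lit 69, nat_lit 34, nat_lit 209, nat_lit 244, nat_lit 279, nat_lit 314, nat_lit 349, nat_lit 209, nat_lit 384, nat_lit 419, nat_lit 209, nat_lit 174, nat_lit 139, nat_lit 104, nat_lit 69, nat_lit 34, nat_lit 209, nat_lit 244, nat_lit 279, nat_lit 314, nat_lit 349, nat_lit 209, nat_lit 384, nat_lit 419, nat_lit 209, nat_lit 174, nat_lit 139, nat_lit 104, nat_lit 69, nat_lit 34, nat_lit 209, nat_lit 244, nat_lit 279], nat_lit 0), ([nat_lit 349, nat_lit 314, nat_lit 349, nat_lit 314, nat_lit 349], nat_lit 0)]⟩,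
  ⟨nat_lit 349, nat_lit 1, [([nat_lit 349], nat_lit 0), ([nat_lit 34, nat_lit 349, nat_lit 34], nat_lit 0), ([nat_lit 69, nat_lit 349, nat_lit 69], nat_lit 0), ([nat_lit 104, nat_lit 349, nat_lit 104], nat_lit 0), ([nat_lit 139, nat_lit 349, nat_lit 139], nat_lit 0), ([nat_lit 174, nat_lit 349, nat_lit 174], nat_lit 0), ([nat_lit 209, nat_lit 349, nat_lit 209], nat_lit 0), ([nat_lit 244, nat_lit 349, nat_lit 244], nat_lit 0), ([nat_lit 279, nat_lit 349, nat_lit 279], nat_lit 0), ([nat_lit 384, nat_lit 349, nat_lit 384], nat_lit 0), ([nat_lit 419, nat_lit 349, nat_lit 419], nat_lit 0), ([nat_lit 314, nat_lit 349, nat_lit 314, nat_lit 349, nat_lit 314], nat_lit 0), ([nat_lit 209, nat_lit 384, nat_lit 419, nat_lit 209, nat_lit 174, nat_lit 139, nat_lit 104, nat_lit 69, nat_lit 34, nat_lit 209, nat_lit 244, nat_lit 279, nat_lit 314, nat_lit 349, nat_lit 209, nat_lit 384, nat_lit 419, nat_lit 209, nat_lit 174, nat_lit 139, nat_lit 104, nat_lit 69, nat_lit 34, nat_lit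 209, nat_lit 244, nat_lit 279, nat_lit 314, nat_lit 349, nat_lit 209, nat_lit 384, nat_lit 419, nat_lit 209, nat_lit 174, nat_lit 139, nat_lit 104, nat_lit 69, nat_lit 34, nat_lit 209, nat_lit 244, nat_lit 279, nat_lit 314, nat_lit 349, nat_lit 209, nat_lit 384, nat_lit 419, nat_lit 209, nat_lit 174, nat_lit 139, nat_lit 104, nat_lit 69, nat_lit 34, nat_lit 209, nat_lit 244, nat_lit 279, nat_lit 314, nat_lit 349, nat_lit 209, nat_lit 384, nat_lit 419, nat_lit 209, nat_lit 174, nat_lit 139, nat_lit 104, nat_lit 69, nat_lit 34, nat_lit 209, nat_lit 244, nat_lit 279, nat_lit 314, nat_lit 349, nat_lit 209, nat_lit 384, nat_lit 419, nat_lit 209, nat_lit 174, nat_lit 139, nat_lit 104, nat_lit 69, nat_lit 34, nat_lit 209, nat_lit 244, nat_lit 279, nat_lit 314, nat_lit 349, nat_lit 209, nat_lit 384, nat_lit 419, nat_lit 209, nat_lit 174, nat_lit 139, nat_lit 104, nat_lit 69, nat_lit 34, nat_lit 209, nat_lit 244, nat_lit 279, nat_lit 314, nat_lit 349, nat_lit 209, nat_lit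 384, nat_lit 419, nat_lit 209, nat_lit 174, nat_lit 139, nat_lit 104, nat_lit 69, nat_lit 34, nat_lit 209, nat_lit 244, nat_lit 279, nat_lit 314, nat_lit 349, nat_lit 209, nat_lit 384, nat_lit 419, nat_lit 209, nat_lit 174, nat_lit 139, nat_lit 104, nat_lit 69, nat_lit 34, nat_lit 209, nat_lit 244, nat_lit 279, nat_lit 314, nat_lit 349, nat_lit 209, nat_lit 384, nat_lit 419, nat_lit 209, nat_lit 174, nat_lit 139, nat_lit 104, nat_lit 69, nat_lit 34, nat_lit 209, nat_lit 244, nat_lit 279, nat_lit 314, nat_lit 349, nat_lit 209, nat_lit 384, nat_lit 419, nat_lit 209, nat_lit 174, nat_lit 139, nat_lit 104, nat_lit 69, nat_lit 34, nat_lit 209, nat_lit 244, nat_lit 279, nat_lit 314, nat_lit 349, nat_lit 209, nat_lit 384, nat_lit 419, nat_lit 209, nat_lit 174, nat_lit 139, nat_lit 104, nat_lit 69, nat_lit 34, nat_lit 209, nat_lit 244, nat_lit 279, nat_lit 314, nat_lit 349, nat_lit 209, nat_lit 384, nat_lit 419, nat_lit 209, nat_lit 174, nat_lit 139, nat_lit 104, nat_lit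 69, nat_lit 34, nat_lit 209, nat_lit 244, nat_lit 279, nat_lit 314, nat_lit 349, nat_lit 209, nat_lit 384, nat_lit 419, nat_lit 209, nat_lit 174, nat_lit 139, nat_lit 104, nat_lit 69, nat_lit 34, nat_lit 209, nat_lit 244, nat_lit 279, nat_lit 314, nat_lit 349, nat_lit 209, nat_lit 384, nat_lit 419, nat_lit 209, nat_lit 174, nat_lit 139, nat_lit 104, nat_lit 69, nat_lit 34, nat_lit 209, nat_lit 244, nat_lit 279, nat_lit 314, nat_lit 349, nat_lit 209, nat_lit 384, nat_lit 419, nat_lit 209, nat_lit 174, nat_lit 139, nat_lit 104, nat_lit 69, nat_lit 34, nat_lit 209, nat_lit 244, nat_lit 279, nat_lit 314, nat_lit 349, nat_lit 209, nat_lit 384, nat_lit 419, nat_lit 209, nat_lit 174, nat_lit 139, nat_lit 104, nat_lit 69, nat_lit 34, nat_lit 209, nat_lit 244, nat_lit 279, nat_lit 314], nat_lit 0)]⟩,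
  ⟨nat_lit 384, nat_lit 1, [([nat_lit 384], nat_lit 0), ([nat_lit 34, nat_lit 384, nat_lit 34], nat_lit 0), ([nat_lit 69, nat_lit 384, nat_lit 69], nat_lit 0), ([nat_lit 104, nat_lit 384, nat_lit 104], nat_lit 0), ([nat_lit 139, nat_lit 384, nat_lit 139], nat_lit 0), ([nat_lit 174, nat_lit 384, nat_lit 174], nat_lit 0), ([nat_lit 244, nat_lit 384, nat_lit 244], nat_lit 0), ([nat_lit 279, nat_lit 384, nat_lit 279], nat_lit 0), ([nat_lit 314, nat_lit 384, nat_lit 314], nat_lit 0), ([nat_lit 209, nat_lit 384, nat_lit 209, nat_lit 384, nat_lit 209], nat_lit 0), ([nat_lit 349, nat_lit 384, nat_lit 349], nat_lit 0), ([nat_lit 419, nat_lit 384, nat_lit 419, nat_lit 384, nat_lit 419], nat_lit 0), ([nat_lit 279, nat_lit 244, nat_lit 209, nat_lit 174, nat_lit 139, nat_lit 104, nat_lit 384, nat_lit 279, nat_lit 244, nat_lit 209, nat_lit 174, nat_lit 139, nat_lit 104, nat_lit 384, nat_lit 279, nat_lit 244, nat_lit 209, nat_lit 174, nat_lit 139, nat_lit 104, nat_lit 384, nat_lit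 279, nat_lit 244, nat_lit 209, nat_lit 174, nat_lit 139, nat_lit 104, nat_lit 384, nat_lit 279, nat_lit 244, nat_lit 209, nat_lit 174, nat_lit 139, nat_lit 104, nat_lit 384, nat_lit 279, nat_lit 244, nat_lit 209, nat_lit 174, nat_lit 139, nat_lit 104, nat_lit 384, nat_lit 279, nat_lit 244, nat_lit 209, nat_lit 174, nat_lit 139, nat_lit 104, nat_lit 384, nat_lit 279, nat_lit 244, nat_lit 209, nat_lit 174, nat_lit 139, nat_lit 104, nat_lit 384, nat_lit 279, nat_lit 244, nat_lit 209, nat_lit 174, nat_lit 139, nat_lit 104, nat_lit 34], nat_lit 0), ([nat_lit 419, nat_lit 209, nat_lit 174, nat_lit 139, nat_lit 104, nat_lit 69, nat_lit 34, nat_lit 209, nat_lit 244, nat_lit 279, nat_lit 314, nat_lit 349, nat_lit 209, nat_lit 384, nat_lit 419, nat_lit 209, nat_lit 174, nat_lit 139, nat_lit 104, nat_lit 69, nat_lit 34, nat_lit 209, nat_lit 244, nat_lit 279, nat_lit 314, nat_lit 349, nat_lit 209, nat_lit 384, nat_lit 419, nat_lit 209, nat_lit 174, nat_lit 139, nat_lit 104,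 nat_lit 69, nat_lit 34, nat_lit 209, nat_lit 244, nat_lit 279, nat_lit 314, nat_lit 349, nat_lit 209, nat_lit 384, nat_lit 419, nat_lit 209, nat_lit 174, nat_lit 139, nat_lit 104, nat_lit 69, nat_lit 34, nat_lit 209, nat_lit 244, nat_lit 279, nat_lit 314, nat_lit 349, nat_lit 209, nat_lit 384, nat_lit 419, nat_lit 209, nat_lit 174, nat_lit 139, nat_lit 104, nat_lit 69, nat_lit 34, nat_lit 209, nat_lit 244, nat_lit 279, nat_lit 314, nat_lit 349, nat_lit 209, nat_lit 384, nat_lit 419, nat_lit 209, nat_lit 174, nat_lit 139, nat_lit 104, nat_lit 69, nat_lit 34, nat_lit 209, nat_lit 244, nat_lit 279, nat_lit 314, nat_lit 349, nat_lit 209, nat_lit 384, nat_lit 419, nat_lit 209, nat_lit 174, nat_lit 139, nat_lit 104, nat_lit 69, nat_lit 34, nat_lit 209, nat_lit 244, nat_lit 279, nat_lit 314, nat_lit 349, nat_lit 209, nat_lit 384, nat_lit 419, nat_lit 209, nat_lit 174, nat_lit 139, nat_lit 104, nat_lit 69, nat_lit 34, nat_lit 209, nat_lit 244, nat_lit 279, nat_lit 314,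 nat_lit 349, nat_lit 209, nat_lit 384, nat_lit 419, nat_lit 209, nat_lit 174, nat_lit 139, nat_lit 104, nat_lit 69, nat_lit 34, nat_lit 209, nat_lit 244, nat_lit 279, nat_lit 314, nat_lit 349, nat_lit 209, nat_lit 384, nat_lit 419, nat_lit 209, nat_lit 174, nat_lit 139, nat_lit 104, nat_lit 69, nat_lit 34, nat_lit 209, nat_lit 244, nat_lit 279, nat_lit 314, nat_lit 349, nat_lit 209, nat_lit 384, nat_lit 419, nat_lit 209, nat_lit 174, nat_lit 139, nat_lit 104, nat_lit 69, nat_lit 34, nat_lit 209, nat_lit 244, nat_lit 279, nat_lit 314, nat_lit 349, nat_lit 209, nat_lit 384, nat_lit 419, nat_lit 209, nat_lit 174, nat_lit 139, nat_lit 104, nat_lit 69, nat_lit 34, nat_lit 209, nat_lit 244, nat_lit 279, nat_lit 314, nat_lit 349, nat_lit 209, nat_lit 384, nat_lit 419, nat_lit 209, nat_lit 174, nat_lit 139, nat_lit 104, nat_lit 69, nat_lit 34, nat_lit 209, nat_lit 244, nat_lit 279, nat_lit 314, nat_lit 349, nat_lit 209, nat_lit 384, nat_lit 419, nat_lit 209, nat_lit 174,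 nat_lit 139, nat_lit 104, nat_lit 69, nat_lit 34, nat_lit 209, nat_lit 244, nat_lit 279, nat_lit 314, nat_lit 349, nat_lit 209, nat_lit 384, nat_lit 419, nat_lit 209, nat_lit 174, nat_lit 139, nat_lit 104, nat_lit 69, nat_lit 34, nat_lit 209, nat_lit 244, nat_lit 279, nat_lit 314, nat_lit 349, nat_lit 209, nat_lit 384, nat_lit 419, nat_lit 209, nat_lit 174, nat_lit 139, nat_lit 104, nat_lit 69, nat_lit 34, nat_lit 209, nat_lit 244, nat_lit 279, nat_lit 314, nat_lit 349, nat_lit 209, nat_lit 384, nat_lit 419, nat_lit 209, nat_lit 174, nat_lit 139, nat_lit 104, nat_lit 69, nat_lit 34, nat_lit 209, nat_lit 244, nat_lit 279, nat_lit 314, nat_lit 349, nat_lit 209], nat_lit 0), ([nat_lit 279, nat_lit 244, nat_lit 209, nat_lit 174, nat_lit 139, nat_lit 104, nat_lit 384, nat_lit 279, nat_lit 244, nat_lit 209, nat_lit 174, nat_lit 139, nat_lit 104, nat_lit 384, nat_lit 279, nat_lit 244, nat_lit 209, nat_lit 174, nat_lit 139, nat_lit 104, nat_lit 384, nat_lit 279, nat_lit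 244, nat_lit 209, nat_lit 174, nat_lit 139, nat_lit 104, nat_lit 384, nat_lit 279, nat_lit 244, nat_lit 209, nat_lit 174, nat_lit 139, nat_lit 104, nat_lit 384, nat_lit 279, nat_lit 244, nat_lit 209, nat_lit 174, nat_lit 139, nat_lit 104, nat_lit 384, nat_lit 279, nat_lit 244, nat_lit 209, nat_lit 174, nat_lit 139, nat_lit 104, nat_lit 384, nat_lit 279, nat_lit 244, nat_lit 209, nat_lit 174, nat_lit 139, nat_lit 104, nat_lit 34, nat_lit 384, nat_lit 279, nat_lit 244, nat_lit 209, nat_lit 174, nat_lit 139, nat_lit 104], nat_lit 0), ([nat_lit 279, nat_lit 244, nat_lit 209, nat_lit 174, nat_lit 139, nat_lit 104, nat_lit 34, nat_lit 384, nat_lit 279, nat_lit 244, nat_lit 209, nat_lit 174, nat_lit 139, nat_lit 104, nat_lit 384, nat_lit 279, nat_lit 244, nat_lit 209, nat_lit 174, nat_lit 139, nat_lit 104, nat_lit 384, nat_lit 279, nat_lit 244, nat_lit 209, nat_lit 174, nat_lit 139, nat_lit 104, nat_lit 384, nat_lit 279, nat_lit 244, nat_lit 209, nat_lit 174, nat_lit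 139, nat_lit 104, nat_lit 384, nat_lit 279, nat_lit 244, nat_lit 209, nat_lit 174, nat_lit 139, nat_lit 104, nat_lit 384, nat_lit 279, nat_lit 244, nat_lit 209, nat_lit 174, nat_lit 139, nat_lit 104, nat_lit 384, nat_lit 279, nat_lit 244, nat_lit 209, nat_lit 174, nat_lit 139, nat_lit 104, nat_lit 384, nat_lit 279, nat_lit 244, nat_lit 209, nat_lit 174, nat_lit 139, nat_lit 104], nat_lit 0), ([nat_lit 279, nat_lit 244, nat_lit 209, nat_lit 174, nat_lit 139, nat_lit 104, nat_lit 384, nat_lit 279, nat_lit 244, nat_lit 209, nat_lit 174, nat_lit 139, nat_lit 104, nat_lit 384, nat_lit 279, nat_lit 244, nat_lit 209, nat_lit 174, nat_lit 139, nat_lit 104, nat_lit 384, nat_lit 279, nat_lit 244, nat_lit 209, nat_lit 174, nat_lit 139, nat_lit 104, nat_lit 384, nat_lit 279, nat_lit 244, nat_lit 209, nat_lit 174, nat_lit 139, nat_lit 104, nat_lit 384, nat_lit 279, nat_lit 244, nat_lit 209, nat_lit 174, nat_lit 139, nat_lit 104, nat_lit 384, nat_lit 279, nat_lit 244, nat_lit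 209, nat_lit 174, nat_lit 139, nat_lit 104, nat_lit 34, nat_lit 384, nat_lit 279, nat_lit 244, nat_lit 209, nat_lit 174, nat_lit 139, nat_lit 104, nat_lit 384, nat_lit 279, nat_lit 244, nat_lit 209, nat_lit 174, nat_lit 139, nat_lit 104], nat_lit 0), ([nat_lit 279, nat_lit 244, nat_lit 209, nat_lit 174, nat_lit 139, nat_lit 104, nat_lit 384, nat_lit 279, nat_lit 244, nat_lit 209, nat_lit 174, nat_lit 139, nat_lit 104, nat_lit 384, nat_lit 279, nat_lit 244, nat_lit 209, nat_lit 174, nat_lit 139, nat_lit 104, nat_lit 384, nat_lit 279, nat_lit 244, nat_lit 209, nat_lit 174, nat_lit 139, nat_lit 104, nat_lit 384, nat_lit 279, nat_lit 244, nat_lit 209, nat_lit 174, nat_lit 139, nat_lit 104, nat_lit 34, nat_lit 384, nat_lit 279, nat_lit 244, nat_lit 209, nat_lit 174, nat_lit 139, nat_lit 104, nat_lit 384, nat_lit 279, nat_lit 244, nat_lit 209, nat_lit 174, nat_lit 139, nat_lit 104, nat_lit 384, nat_lit 279, nat_lit 244, nat_lit 209, nat_lit 174, nat_lit 139, nat_lit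 104, nat_lit 384, nat_lit 279, nat_lit 244, nat_lit 209, nat_lit 174, nat_lit 139, nat_lit 104], nat_lit 0), ([nat_lit 279, nat_lit 244, nat_lit 209, nat_lit 174, nat_lit 139, nat_lit 104, nat_lit 384, nat_lit 279, nat_lit 244, nat_lit 209, nat_lit 174, nat_lit 139, nat_lit 104, nat_lit 384, nat_lit 279, nat_lit 244, nat_lit 209, nat_lit 174, nat_lit 139, nat_lit 104, nat_lit 384, nat_lit 279, nat_lit 244, nat_lit 209, nat_lit 174, nat_lit 139, nat_lit 104, nat_lit 384, nat_lit 279, nat_lit 244, nat_lit 209, nat_lit 174, nat_lit 139, nat_lit 104, nat_lit 384, nat_lit 279, nat_lit 244, nat_lit 209, nat_lit 174, nat_lit 139, nat_lit 104, nat_lit 34, nat_lit 384, nat_lit 279, nat_lit 244, nat_lit 209, nat_lit 174, nat_lit 139, nat_lit 104, nat_lit 384, nat_lit 279, nat_lit 244, nat_lit 209, nat_lit 174, nat_lit 139, nat_lit 104, nat_lit 384, nat_lit 279, nat_lit 244, nat_lit 209, nat_lit 174, nat_lit 139, nat_lit 104], nat_lit 0), ([nat_lit 279, nat_lit 244, nat_lit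 209, nat_lit 174, nat_lit 139, nat_lit 104, nat_lit 384, nat_lit 279, nat_lit 244, nat_lit 209, nat_lit 174, nat_lit 139, nat_lit 104, nat_lit 34, nat_lit 384, nat_lit 279, nat_lit 244, nat_lit 209, nat_lit 174, nat_lit 139, nat_lit 104, nat_lit 384, nat_lit 279, nat_lit 244, nat_lit 209, nat_lit 174, nat_lit 139, nat_lit 104, nat_lit 384, nat_lit 279, nat_lit 244, nat_lit 209, nat_lit 174, nat_lit 139, nat_lit 104, nat_lit 384, nat_lit 279, nat_lit 244, nat_lit 209, nat_lit 174, nat_lit 139, nat_lit 104, nat_lit 384, nat_lit 279, nat_lit 244, nat_lit 209, nat_lit 174, nat_lit 139, nat_lit 104, nat_lit 384, nat_lit 279, nat_lit 244, nat_lit 209, nat_lit 174, nat_lit 139, nat_lit 104, nat_lit 384, nat_lit 279, nat_lit 244, nat_lit 209, nat_lit 174, nat_lit 139, nat_lit 104], nat_lit 0), ([nat_lit 279, nat_lit 244, nat_lit 209, nat_lit 174, nat_lit 139, nat_lit 104, nat_lit 384, nat_lit 279, nat_lit 244, nat_lit 209, nat_lit 174, nat_lit 139, nat_lit 104, nat_lit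 384, nat_lit 279, nat_lit 244, nat_lit 209, nat_lit 174, nat_lit 139, nat_lit 104, nat_lit 384, nat_lit 279, nat_lit 244, nat_lit 209, nat_lit 174, nat_lit 139, nat_lit 104, nat_lit 34, nat_lit 384, nat_lit 279, nat_lit 244, nat_lit 209, nat_lit 174, nat_lit 139, nat_lit 104, nat_lit 384, nat_lit 279, nat_lit 244, nat_lit 209, nat_lit 174, nat_lit 139, nat_lit 104, nat_lit 384, nat_lit 279, nat_lit 244, nat_lit 209, nat_lit 174, nat_lit 139, nat_lit 104, nat_lit 384, nat_lit 279, nat_lit 244, nat_lit 209, nat_lit 174, nat_lit 139, nat_lit 104, nat_lit 384, nat_lit 279, nat_lit 244, nat_lit 209, nat_lit 174, nat_lit 139, nat_lit 104], nat_lit 0), ([nat_lit 279, nat_lit 244, nat_lit 209, nat_lit 174, nat_lit 139, nat_lit 104, nat_lit 384, nat_lit 279, nat_lit 244, nat_lit 209, nat_lit 174, nat_lit 139, nat_lit 104, nat_lit 384, nat_lit 279, nat_lit 244, nat_lit 209, nat_lit 174, nat_lit 139, nat_lit 104, nat_lit 34, nat_lit 384, nat_lit 279, nat_lit 244, nat_lit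 209, nat_lit 174, nat_lit 139, nat_lit 104, nat_lit 384, nat_lit 279, nat_lit 244, nat_lit 209, nat_lit 174, nat_lit 139, nat_lit 104, nat_lit 384, nat_lit 279, nat_lit 244, nat_lit 209, nat_lit 174, nat_lit 139, nat_lit 104, nat_lit 384, nat_lit 279, nat_lit 244, nat_lit 209, nat_lit 174, nat_lit 139, nat_lit 104, nat_lit 384, nat_lit 279, nat_lit 244, nat_lit 209, nat_lit 174, nat_lit 139, nat_lit 104, nat_lit 384, nat_lit 279, nat_lit 244, nat_lit 209, nat_lit 174, nat_lit 139, nat_lit 104], nat_lit 0)]⟩,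
  ⟨nat_lit 419, nat_lit 1, [([nat_lit 419], nat_lit 0), ([nat_lit 34, nat_lit 419, nat_lit 34], nat_lit 0), ([nat_lit 69, nat_lit 419, nat_lit 69], nat_lit 0), ([nat_lit 104, nat_lit 419, nat_lit 104], nat_lit 0), ([nat_lit 139, nat_lit 419, nat_lit 139], nat_lit 0), ([nat_lit 174, nat_lit 419, nat_lit 174], nat_lit 0), ([nat_lit 209, nat_lit 419, nat_lit 209], nat_lit 0), ([nat_lit 244, nat_lit 419, nat_lit 244], nat_lit 0), ([nat_lit 279, nat_lit 419, nat_lit 279], nat_lit 0), ([nat_lit 384, nat_lit 419, nat_lit 384, nat_lit 419, nat_lit 384], nat_lit 0), ([nat_lit 314, nat_lit 419, nat_lit 314], nat_lit 0), ([nat_lit 349, nat_lit 419, nat_lit 349], nat_lit 0), ([nat_lit 209, nat_lit 174, nat_lit 139, nat_lit 104, nat_lit 69, nat_lit 34, nat_lit 209, nat_lit 244, nat_lit 279, nat_lit 314, nat_lit 349, nat_lit 209, nat_lit 384, nat_lit 419, nat_lit 209, nat_lit 174, nat_lit 139, nat_lit 104, nat_lit 69, nat_lit 34, nat_lit 209, nat_lit 244, nat_lit 279, nat_lit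 314, nat_lit 349, nat_lit 209, nat_lit 384, nat_lit 419, nat_lit 209, nat_lit 174, nat_lit 139, nat_lit 104, nat_lit 69, nat_lit 34, nat_lit 209, nat_lit 244, nat_lit 279, nat_lit 314, nat_lit 349, nat_lit 209, nat_lit 384, nat_lit 419, nat_lit 209, nat_lit 174, nat_lit 139, nat_lit 104, nat_lit 69, nat_lit 34, nat_lit 209, nat_lit 244, nat_lit 279, nat_lit 314, nat_lit 349, nat_lit 209, nat_lit 384, nat_lit 419, nat_lit 209, nat_lit 174, nat_lit 139, nat_lit 104, nat_lit 69, nat_lit 34, nat_lit 209, nat_lit 244, nat_lit 279, nat_lit 314, nat_lit 349, nat_lit 209, nat_lit 384, nat_lit 419, nat_lit 209, nat_lit 174, nat_lit 139, nat_lit 104, nat_lit 69, nat_lit 34, nat_lit 209, nat_lit 244, nat_lit 279, nat_lit 314, nat_lit 349, nat_lit 209, nat_lit 384, nat_lit 419, nat_lit 209, nat_lit 174, nat_lit 139, nat_lit 104, nat_lit 69, nat_lit 34, nat_lit 209, nat_lit 244, nat_lit 279, nat_lit 314, nat_lit 349, nat_lit 209, nat_lit 384, nat_lit 419, nat_lit 209, nat_lit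 174, nat_lit 139, nat_lit 104, nat_lit 69, nat_lit 34, nat_lit 209, nat_lit 244, nat_lit 279, nat_lit 314, nat_lit 349, nat_lit 209, nat_lit 384, nat_lit 419, nat_lit 209, nat_lit 174, nat_lit 139, nat_lit 104, nat_lit 69, nat_lit 34, nat_lit 209, nat_lit 244, nat_lit 279, nat_lit 314, nat_lit 349, nat_lit 209, nat_lit 384, nat_lit 419, nat_lit 209, nat_lit 174, nat_lit 139, nat_lit 104, nat_lit 69, nat_lit 34, nat_lit 209, nat_lit 244, nat_lit 279, nat_lit 314, nat_lit 349, nat_lit 209, nat_lit 384, nat_lit 419, nat_lit 209, nat_lit 174, nat_lit 139, nat_lit 104, nat_lit 69, nat_lit 34, nat_lit 209, nat_lit 244, nat_lit 279, nat_lit 314, nat_lit 349, nat_lit 209, nat_lit 384, nat_lit 419, nat_lit 209, nat_lit 174, nat_lit 139, nat_lit 104, nat_lit 69, nat_lit 34, nat_lit 209, nat_lit 244, nat_lit 279, nat_lit 314, nat_lit 349, nat_lit 209, nat_lit 384, nat_lit 419, nat_lit 209, nat_lit 174, nat_lit 139, nat_lit 104, nat_lit 69, nat_lit 34, nat_lit 209, nat_lit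 244, nat_lit 279, nat_lit 314, nat_lit 349, nat_lit 209, nat_lit 384, nat_lit 419, nat_lit 209, nat_lit 174, nat_lit 139, nat_lit 104, nat_lit 69, nat_lit 34, nat_lit 209, nat_lit 244, nat_lit 279, nat_lit 314, nat_lit 349, nat_lit 209, nat_lit 384, nat_lit 419, nat_lit 209, nat_lit 174, nat_lit 139, nat_lit 104, nat_lit 69, nat_lit 34, nat_lit 209, nat_lit 244, nat_lit 279, nat_lit 314, nat_lit 349, nat_lit 209, nat_lit 384, nat_lit 419, nat_lit 209, nat_lit 174, nat_lit 139, nat_lit 104, nat_lit 69, nat_lit 34, nat_lit 209, nat_lit 244, nat_lit 279, nat_lit 314, nat_lit 349, nat_lit 209, nat_lit 384, nat_lit 419, nat_lit 209, nat_lit 174, nat_lit 139, nat_lit 104, nat_lit 69, nat_lit 34, nat_lit 209, nat_lit 244, nat_lit 279, nat_lit 314, nat_lit 349, nat_lit 209, nat_lit 384], nat_lit 0)]⟩]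

noncomputable def erots : List (List ℕ × ℕ) := [([nat_lit 419, nat_lit 419], nat_lit 0),
  ([nat_lit 384, nat_lit 384], nat_lit 0),
  ([nat_lit 209, nat_lit 209], nat_lit 0),
  ([nat_lit 244, nat_lit 244], nat_lit 0),
  ([nat_lit 314, nat_lit 314], nat_lit 0),
  ([nat_lit 279, nat_lit 279], nat_lit 0),
  ([nat_lit 349, nat_lit 349], nat_lit 0),
  ([nat_lit 174, nat_lit 174], nat_lit 0),
  ([nat_lit 139, nat_lit 139], nat_lit 0),
  ([nat_lit 104, nat_lit 104], nat_lit 0),
  ([nat_lit 69, nat_lit 69], nat_lit 0),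
  ([nat_lit 34, nat_lit 34], nat_lit 0),
  ([nat_lit 174, nat_lit 139, nat_lit 104, nat_lit 384, nat_lit 279, nat_lit 244, nat_lit 209, nat_lit 174, nat_lit 139, nat_lit 104, nat_lit 384, nat_lit 279, nat_lit 244, nat_lit 209, nat_lit 174, nat_lit 139, nat_lit 104, nat_lit 384, nat_lit 279, nat_lit 244, nat_lit 209, nat_lit 174, nat_lit 139, nat_lit 104, nat_lit 384, nat_lit 279, nat_lit 244, nat_lit 209, nat_lit 174, nat_lit 139, nat_lit 104, nat_lit 384, nat_lit 279, nat_lit 244, nat_lit 209, nat_lit 174, nat_lit 139, nat_lit 104, nat_lit 384, nat_lit 279, nat_lit 244, nat_lit 209, nat_lit 174, nat_lit 139, nat_lit 104, nat_lit 384, nat_lit 279, nat_lit 244, nat_lit 209, nat_lit 174, nat_lit 139, nat_lit 104, nat_lit 384, nat_lit 279, nat_lit 244, nat_lit 209, nat_lit 174, nat_lit 139, nat_lit 104, nat_lit 34, nat_lit 384, nat_lit 279, nat_lit 244, nat_lit 209], nat_lit 0),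
  ([nat_lit 104, nat_lit 384, nat_lit 279, nat_lit 244, nat_lit 209, nat_lit 174, nat_lit 139, nat_lit 104, nat_lit 384, nat_lit 279, nat_lit 244, nat_lit 209, nat_lit 174, nat_lit 139, nat_lit 104, nat_lit 384, nat_lit 279, nat_lit 244, nat_lit 209, nat_lit 174, nat_lit 139, nat_lit 104, nat_lit 384, nat_lit 279, nat_lit 244, nat_lit 209, nat_lit 174, nat_lit 139, nat_lit 104, nat_lit 384, nat_lit 279, nat_lit 244, nat_lit 209, nat_lit 174, nat_lit 139, nat_lit 104, nat_lit 384, nat_lit 279, nat_lit 244, nat_lit 209, nat_lit 174, nat_lit 139, nat_lit 104, nat_lit 384, nat_lit 279, nat_lit 244, nat_lit 209, nat_lit 174, nat_lit 139, nat_lit 104, nat_lit 384, nat_lit 279, nat_lit 244, nat_lit 209, nat_lit 174, nat_lit 139, nat_lit 104, nat_lit 34, nat_lit 384, nat_lit 279, nat_lit 244, nat_lit 209, nat_lit 174, nat_lit 139], nat_lit 0),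
  ([nat_lit 139, nat_lit 104, nat_lit 384, nat_lit 279, nat_lit 244, nat_lit 209, nat_lit 174, nat_lit 139, nat_lit 104, nat_lit 384, nat_lit 279, nat_lit 244, nat_lit 209, nat_lit 174, nat_lit 139, nat_lit 104, nat_lit 384, nat_lit 279, nat_lit 244, nat_lit 209, nat_lit 174, nat_lit 139, nat_lit 104, nat_lit 384, nat_lit 279, nat_lit 244, nat_lit 209, nat_lit 174, nat_lit 139, nat_lit 104, nat_lit 384, nat_lit 279, nat_lit 244, nat_lit 209, nat_lit 174, nat_lit 139, nat_lit 104, nat_lit 384, nat_lit 279, nat_lit 244, nat_lit 209, nat_lit 174, nat_lit 139, nat_lit 104, nat_lit 384, nat_lit 279, nat_lit 244, nat_lit 209, nat_lit 174, nat_lit 139, nat_lit 104, nat_lit 384, nat_lit 279, nat_lit 244, nat_lit 209, nat_lit 174, nat_lit 139, nat_lit 104, nat_lit 34, nat_lit 384, nat_lit 279, nat_lit 244, nat_lit 209, nat_lit 174], nat_lit 0),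
  ([nat_lit 209, nat_lit 174, nat_lit 139, nat_lit 104, nat_lit 384, nat_lit 279, nat_lit 244, nat_lit 209, nat_lit 174, nat_lit 139, nat_lit 104, nat_lit 384, nat_lit 279, nat_lit 244, nat_lit 209, nat_lit 174, nat_lit 139, nat_lit 104, nat_lit 384, nat_lit 279, nat_lit 244, nat_lit 209, nat_lit 174, nat_lit 139, nat_lit 104, nat_lit 384, nat_lit 279, nat_lit 244, nat_lit 209, nat_lit 174, nat_lit 139, nat_lit 104, nat_lit 384, nat_lit 279, nat_lit 244, nat_lit 209, nat_lit 174, nat_lit 139, nat_lit 104, nat_lit 384, nat_lit 279, nat_lit 244, nat_lit 209, nat_lit 174, nat_lit 139, nat_lit 104, nat_lit 384, nat_lit 279, nat_lit 244, nat_lit 209, nat_lit 174, nat_lit 139, nat_lit 104, nat_lit 384, nat_lit 279, nat_lit 244, nat_lit 209, nat_lit 174, nat_lit 139, nat_lit 104, nat_lit 34, nat_lit 384, nat_lit 279, nat_lit 244], nat_lit 0),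
  ([nat_lit 384, nat_lit 209, nat_lit 384, nat_lit 209, nat_lit 384, nat_lit 209], nat_lit 0),
  ([nat_lit 384, nat_lit 419, nat_lit 384, nat_lit 419, nat_lit 384, nat_lit 419], nat_lit 0),
  ([nat_lit 209, nat_lit 174, nat_lit 209, nat_lit 174, nat_lit 209, nat_lit 174], nat_lit 0),
  ([nat_lit 209, nat_lit 384, nat_lit 209, nat_lit 384, nat_lit 209, nat_lit 384], nat_lit 0),
  ([nat_lit 279, nat_lit 244, nat_lit 209, nat_lit 174, nat_lit 139, nat_lit 104, nat_lit 384, nat_lit 279, nat_lit 244, nat_lit 209, nat_lit 174, nat_lit 139, nat_lit 104, nat_lit 384, nat_lit 279, nat_lit 244, nat_lit 209, nat_lit 174, nat_lit 139, nat_lit 104, nat_lit 384, nat_lit 279, nat_lit 244, nat_lit 209, nat_lit 174, nat_lit 139, nat_lit 104, nat_lit 384, nat_lit 279, nat_lit 244, nat_lit 209, nat_lit 174, nat_lit 139, nat_lit 104, nat_lit 384, nat_lit 279, nat_lit 244, nat_lit 209, nat_lit 174, nat_lit 139, nat_lit 104, nat_lit 384, nat_lit 279, nat_lit 244, nat_lit 209, nat_lit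 174, nat_lit 139, nat_lit 104, nat_lit 384, nat_lit 279, nat_lit 244, nat_lit 209, nat_lit 174, nat_lit 139, nat_lit 104, nat_lit 384, nat_lit 279, nat_lit 244, nat_lit 209, nat_lit 174, nat_lit 139, nat_lit 104, nat_lit 34, nat_lit 384], nat_lit 0),
  ([nat_lit 139, nat_lit 174, nat_lit 139, nat_lit 174, nat_lit 139, nat_lit 174], nat_lit 0),
  ([nat_lit 174, nat_lit 209, nat_lit 174, nat_lit 209, nat_lit 174, nat_lit 209], nat_lit 0),
  ([nat_lit 244, nat_lit 209, nat_lit 244, nat_lit 209, nat_lit 244, nat_lit 209], nat_lit 0),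
  ([nat_lit 244, nat_lit 209, nat_lit 174, nat_lit 139, nat_lit 104, nat_lit 384, nat_lit 279, nat_lit 244, nat_lit 209, nat_lit 174, nat_lit 139, nat_lit 104, nat_lit 384, nat_lit 279, nat_lit 244, nat_lit 209, nat_lit 174, nat_lit 139, nat_lit 104, nat_lit 384, nat_lit 279, nat_lit 244, nat_lit 209, nat_lit 174, nat_lit 139, nat_lit 104, nat_lit 384, nat_lit 279, nat_lit 244, nat_lit 209, nat_lit 174, nat_lit 139, nat_lit 104, nat_lit 384, nat_lit 279, nat_lit 244, nat_lit 209, nat_lit 174, nat_lit 139, nat_lit 104, nat_lit 384, nat_lit 279, nat_lit 244, nat_lit 209, nat_lit 174, nat_lit 139, nat_lit 104, nat_lit 384, nat_lit 279, nat_lit 244, nat_lit 209, nat_lit 174, nat_lit 139, nat_lit 104, nat_lit 384, nat_lit 279, nat_lit 244, nat_lit 209, nat_lit 174, nat_lit 139, nat_lit 104, nat_lit 34, nat_lit 384, nat_lit 279], nat_lit 0),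
  ([nat_lit 69, nat_lit 384, nat_lit 69, nat_lit 384], nat_lit 0),
  ([nat_lit 104, nat_lit 384, nat_lit 279, nat_lit 244, nat_lit 209, nat_lit 174, nat_lit 139, nat_lit 104, nat_lit 384, nat_lit 279, nat_lit 244, nat_lit 209, nat_lit 174, nat_lit 139, nat_lit 104, nat_lit 384, nat_lit 279, nat_lit 244, nat_lit 209, nat_lit 174, nat_lit 139, nat_lit 104, nat_lit 384, nat_lit 279, nat_lit 244, nat_lit 209, nat_lit 174, nat_lit 139, nat_lit 104, nat_lit 384, nat_lit 279, nat_lit 244, nat_lit 209, nat_lit 174, nat_lit 139, nat_lit 104, nat_lit 384, nat_lit 279, nat_lit 244, nat_lit 209, nat_lit 174, nat_lit 139, nat_lit 104, nat_lit 384, nat_lit 279, nat_lit 244, nat_lit 209, nat_lit 174, nat_lit 139, nat_lit 104, nat_lit 34, nat_lit 384, nat_lit 279, nat_lit 244, nat_lit 209, nat_lit 174, nat_lit 139, nat_lit 104, nat_lit 384, nat_lit 279, nat_lit 244, nat_lit 209, nat_lit 174, nat_lit 139], nat_lit 0),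
  ([nat_lit 139, nat_lit 349, nat_lit 139, nat_lit 349], nat_lit 0),
  ([nat_lit 139, nat_lit 104, nat_lit 384, nat_lit 279, nat_lit 244, nat_lit 209, nat_lit 174, nat_lit 139, nat_lit 104, nat_lit 384, nat_lit 279, nat_lit 244, nat_lit 209, nat_lit 174, nat_lit 139, nat_lit 104, nat_lit 384, nat_lit 279, nat_lit 244, nat_lit 209, nat_lit 174, nat_lit 139, nat_lit 104, nat_lit 384, nat_lit 279, nat_lit 244, nat_lit 209, nat_lit 174, nat_lit 139, nat_lit 104, nat_lit 384, nat_lit 279, nat_lit 244, nat_lit 209, nat_lit 174, nat_lit 139, nat_lit 104, nat_lit 384, nat_lit 279, nat_lit 244, nat_lit 209, nat_lit 174, nat_lit 139, nat_lit 104, nat_lit 384, nat_lit 279, nat_lit 244, nat_lit 209, nat_lit 174, nat_lit 139, nat_lit 104, nat_lit 34, nat_lit 384, nat_lit 279, nat_lit 244, nat_lit 209, nat_lit 174, nat_lit 139, nat_lit 104, nat_lit 384, nat_lit 279, nat_lit 244, nat_lit 209, nat_lit 174], nat_lit 0),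
  ([nat_lit 139, nat_lit 104, nat_lit 384, nat_lit 279, nat_lit 244, nat_lit 209, nat_lit 174, nat_lit 139, nat_lit 104, nat_lit 384, nat_lit 279, nat_lit 244, nat_lit 209, nat_lit 174, nat_lit 139, nat_lit 104, nat_lit 34, nat_lit 384, nat_lit 279, nat_lit 244, nat_lit 209, nat_lit 174, nat_lit 139, nat_lit 104, nat_lit 384, nat_lit 279, nat_lit 244, nat_lit 209, nat_lit 174, nat_lit 139, nat_lit 104, nat_lit 384, nat_lit 279, nat_lit 244, nat_lit 209, nat_lit 174, nat_lit 139, nat_lit 104, nat_lit 384, nat_lit 279, nat_lit 244, nat_lit 209, nat_lit 174, nat_lit 139, nat_lit 104, nat_lit 384, nat_lit 279, nat_lit 244, nat_lit 209, nat_lit 174, nat_lit 139, nat_lit 104, nat_lit 384, nat_lit 279, nat_lit 244, nat_lit 209, nat_lit 174, nat_lit 139, nat_lit 104, nat_lit 384, nat_lit 279, nat_lit 244, nat_lit 209, nat_lit 174], nat_lit 0),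
  ([nat_lit 174, nat_lit 139, nat_lit 104, nat_lit 384, nat_lit 279, nat_lit 244, nat_lit 209, nat_lit 174, nat_lit 139, nat_lit 104, nat_lit 384, nat_lit 279, nat_lit 244, nat_lit 209, nat_lit 174, nat_lit 139, nat_lit 104, nat_lit 384, nat_lit 279, nat_lit 244, nat_lit 209, nat_lit 174, nat_lit 139, nat_lit 104, nat_lit 384, nat_lit 279, nat_lit 244, nat_lit 209, nat_lit 174, nat_lit 139, nat_lit 104, nat_lit 34, nat_lit 384, nat_lit 279, nat_lit 244, nat_lit 209, nat_lit 174, nat_lit 139, nat_lit 104, nat_lit 384, nat_lit 279, nat_lit 244, nat_lit 209, nat_lit 174, nat_lit 139, nat_lit 104, nat_lit 384, nat_lit 279, nat_lit 244, nat_lit 209, nat_lit 174, nat_lit 139, nat_lit 104, nat_lit 384, nat_lit 279, nat_lit 244, nat_lit 209, nat_lit 174, nat_lit 139, nat_lit 104, nat_lit 384, nat_lit 279, nat_lit 244, nat_lit 209], nat_lit 0),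
  ([nat_lit 174, nat_lit 139, nat_lit 104, nat_lit 34, nat_lit 384, nat_lit 279, nat_lit 244, nat_lit 209, nat_lit 174, nat_lit 139, nat_lit 104, nat_lit 384, nat_lit 279, nat_lit 244, nat_lit 209, nat_lit 174, nat_lit 139, nat_lit 104, nat_lit 384, nat_lit 279, nat_lit 244, nat_lit 209, nat_lit 174, nat_lit 139, nat_lit 104, nat_lit 384, nat_lit 279, nat_lit 244, nat_lit 209, nat_lit 174, nat_lit 139, nat_lit 104, nat_lit 384, nat_lit 279, nat_lit 244, nat_lit 209, nat_lit 174, nat_lit 139, nat_lit 104, nat_lit 384, nat_lit 279, nat_lit 244, nat_lit 209, nat_lit 174, nat_lit 139, nat_lit 104, nat_lit 384, nat_lit 279, nat_lit 244, nat_lit 209, nat_lit 174, nat_lit 139, nat_lit 104, nat_lit 384, nat_lit 279, nat_lit 244, nat_lit 209, nat_lit 174, nat_lit 139, nat_lit 104, nat_lit 384, nat_lit 279, nat_lit 244, nat_lit 209], nat_lit 0),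
  ([nat_lit 209, nat_lit 244, nat_lit 209, nat_lit 244, nat_lit 209, nat_lit 244], nat_lit 0),
  ([nat_lit 209, nat_lit 174, nat_lit 139, nat_lit 104, nat_lit 384, nat_lit 279, nat_lit 244, nat_lit 209, nat_lit 174, nat_lit 139, nat_lit 104, nat_lit 384, nat_lit 279, nat_lit 244, nat_lit 209, nat_lit 174, nat_lit 139, nat_lit 104, nat_lit 384, nat_lit 279, nat_lit 244, nat_lit 209, nat_lit 174, nat_lit 139, nat_lit 104, nat_lit 384, nat_lit 279, nat_lit 244, nat_lit 209, nat_lit 174, nat_lit 139, nat_lit 104, nat_lit 384, nat_lit 279, nat_lit 244, nat_lit 209, nat_lit 174, nat_lit 139, nat_lit 104, nat_lit 384, nat_lit 279, nat_lit 244, nat_lit 209, nat_lit 174, nat_lit 139, nat_lit 104, nat_lit 384, nat_lit 279, nat_lit 244, nat_lit 209, nat_lit 174, nat_lit 139, nat_lit 104, nat_lit 34, nat_lit 384, nat_lit 279, nat_lit 244, nat_lit 209, nat_lit 174, nat_lit 139, nat_lit 104, nat_lit 384, nat_lit 279, nat_lit 244], nat_lit 0),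
  ([nat_lit 244, nat_lit 209, nat_lit 174, nat_lit 139, nat_lit 104, nat_lit 384, nat_lit 279, nat_lit 244, nat_lit 209, nat_lit 174, nat_lit 139, nat_lit 104, nat_lit 384, nat_lit 279, nat_lit 244, nat_lit 209, nat_lit 174, nat_lit 139, nat_lit 104, nat_lit 34, nat_lit 384, nat_lit 279, nat_lit 244, nat_lit 209, nat_lit 174, nat_lit 139, nat_lit 104, nat_lit 384, nat_lit 279, nat_lit 244, nat_lit 209, nat_lit 174, nat_lit 139, nat_lit 104, nat_lit 384, nat_lit 279, nat_lit 244, nat_lit 209, nat_lit 174, nat_lit 139, nat_lit 104, nat_lit 384, nat_lit 279, nat_lit 244, nat_lit 209, nat_lit 174, nat_lit 139, nat_lit 104, nat_lit 384, nat_lit 279, nat_lit 244, nat_lit 209, nat_lit 174, nat_lit 139, nat_lit 104, nat_lit 384, nat_lit 279, nat_lit 244, nat_lit 209, nat_lit 174, nat_lit 139, nat_lit 104, nat_lit 384, nat_lit 279], nat_lit 0),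
  ([nat_lit 279, nat_lit 139, nat_lit 279, nat_lit 139], nat_lit 0),
  ([nat_lit 314, nat_lit 384, nat_lit 314, nat_lit 384], nat_lit 0),
  ([nat_lit 314, nat_lit 349, nat_lit 314, nat_lit 349, nat_lit 314, nat_lit 349], nat_lit 0),
  ([nat_lit 384, nat_lit 174, nat_lit 384, nat_lit 174], nat_lit 0),
  ([nat_lit 384, nat_lit 279, nat_lit 244, nat_lit 209, nat_lit 174, nat_lit 139, nat_lit 104, nat_lit 384, nat_lit 279, nat_lit 244, nat_lit 209, nat_lit 174, nat_lit 139, nat_lit 104, nat_lit 384, nat_lit 279, nat_lit 244, nat_lit 209, nat_lit 174, nat_lit 139, nat_lit 104, nat_lit 384, nat_lit 279, nat_lit 244, nat_lit 209, nat_lit 174, nat_lit 139, nat_lit 104, nat_lit 384, nat_lit 279, nat_lit 244, nat_lit 209, nat_lit 174, nat_lit 139, nat_lit 104, nat_lit 384, nat_lit 279, nat_lit 244, nat_lit 209, nat_lit 174, nat_lit 139, nat_lit 104, nat_lit 384, nat_lit 279, nat_lit 244, nat_lit 209, nat_lit 174, nat_lit 139, nat_lit 104, nat_lit 384, nat_lit 279, nat_lit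 244, nat_lit 209, nat_lit 174, nat_lit 139, nat_lit 104, nat_lit 34, nat_lit 384, nat_lit 279, nat_lit 244, nat_lit 209, nat_lit 174, nat_lit 139, nat_lit 104], nat_lit 0),
  ([nat_lit 384, nat_lit 279, nat_lit 244, nat_lit 209, nat_lit 174, nat_lit 139, nat_lit 104, nat_lit 384, nat_lit 279, nat_lit 244, nat_lit 209, nat_lit 174, nat_lit 139, nat_lit 104, nat_lit 384, nat_lit 279, nat_lit 244, nat_lit 209, nat_lit 174, nat_lit 139, nat_lit 104, nat_lit 384, nat_lit 279, nat_lit 244, nat_lit 209, nat_lit 174, nat_lit 139, nat_lit 104, nat_lit 34, nat_lit 384, nat_lit 279, nat_lit 244, nat_lit 209, nat_lit 174, nat_lit 139, nat_lit 104, nat_lit 384, nat_lit 279, nat_lit 244, nat_lit 209, nat_lit 174, nat_lit 139, nat_lit 104, nat_lit 384, nat_lit 279, nat_lit 244, nat_lit 209, nat_lit 174, nat_lit 139, nat_lit 104, nat_lit 384, nat_lit 279, nat_lit 244, nat_lit 209, nat_lit 174, nat_lit 139, nat_lit 104, nat_lit 384, nat_lit 279, nat_lit 244, nat_lit 209, nat_lit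 174, nat_lit 139, nat_lit 104], nat_lit 0),
  ([nat_lit 419, nat_lit 209, nat_lit 419, nat_lit 209], nat_lit 0),
  ([nat_lit 34, nat_lit 209, nat_lit 34, nat_lit 209], nat_lit 0),
  ([nat_lit 69, nat_lit 314, nat_lit 69, nat_lit 314], nat_lit 0),
  ([nat_lit 69, nat_lit 34, nat_lit 69, nat_lit 34, nat_lit 69, nat_lit 34], nat_lit 0),
  ([nat_lit 69, nat_lit 104, nat_lit 69, nat_lit 104, nat_lit 69, nat_lit 104], nat_lit 0),
  ([nat_lit 104, nat_lit 209, nat_lit 104, nat_lit 209], nat_lit 0),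
  ([nat_lit 104, nat_lit 384, nat_lit 279, nat_lit 244, nat_lit 209, nat_lit 174, nat_lit 139, nat_lit 104, nat_lit 384, nat_lit 279, nat_lit 244, nat_lit 209, nat_lit 174, nat_lit 139, nat_lit 104, nat_lit 384, nat_lit 279, nat_lit 244, nat_lit 209, nat_lit 174, nat_lit 139, nat_lit 104, nat_lit 384, nat_lit 279, nat_lit 244, nat_lit 209, nat_lit 174, nat_lit 139, nat_lit 104, nat_lit 384, nat_lit 279, nat_lit 244, nat_lit 209, nat_lit 174, nat_lit 139, nat_lit 104, nat_lit 384, nat_lit 279, nat_lit 244, nat_lit 209, nat_lit 174, nat_lit 139, nat_lit 104, nat_lit 34, nat_lit 384, nat_lit 279, nat_lit 244, nat_lit 209, nat_lit 174, nat_lit 139, nat_lit 104, nat_lit 384, nat_lit 279, nat_lit 244, nat_lit 209, nat_lit 174, nat_lit 139, nat_lit 104, nat_lit 384, nat_lit 279, nat_lit 244, nat_lit 209, nat_lit 174, nat_lit 139], nat_lit 0),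
  ([nat_lit 104, nat_lit 384, nat_lit 279, nat_lit 244, nat_lit 209, nat_lit 174, nat_lit 139, nat_lit 104, nat_lit 384, nat_lit 279, nat_lit 244, nat_lit 209, nat_lit 174, nat_lit 139, nat_lit 104, nat_lit 384, nat_lit 279, nat_lit 244, nat_lit 209, nat_lit 174, nat_lit 139, nat_lit 104, nat_lit 384, nat_lit 279, nat_lit 244, nat_lit 209, nat_lit 174, nat_lit 139, nat_lit 104, nat_lit 34, nat_lit 384, nat_lit 279, nat_lit 244, nat_lit 209, nat_lit 174, nat_lit 139, nat_lit 104, nat_lit 384, nat_lit 279, nat_lit 244, nat_lit 209, nat_lit 174, nat_lit 139, nat_lit 104, nat_lit 384, nat_lit 279, nat_lit 244, nat_lit 209, nat_lit 174, nat_lit 139, nat_lit 104, nat_lit 384, nat_lit 279, nat_lit 244, nat_lit 209, nat_lit 174, nat_lit 139, nat_lit 104, nat_lit 384, nat_lit 279, nat_lit 244, nat_lit 209, nat_lit 174, nat_lit 139], nat_lit 0),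
  ([nat_lit 104, nat_lit 384, nat_lit 279, nat_lit 244, nat_lit 209, nat_lit 174, nat_lit 139, nat_lit 104, nat_lit 384, nat_lit 279, nat_lit 244, nat_lit 209, nat_lit 174, nat_lit 139, nat_lit 104, nat_lit 34, nat_lit 384, nat_lit 279, nat_lit 244, nat_lit 209, nat_lit 174, nat_lit 139, nat_lit 104, nat_lit 384, nat_lit 279, nat_lit 244, nat_lit 209, nat_lit 174, nat_lit 139, nat_lit 104, nat_lit 384, nat_lit 279, nat_lit 244, nat_lit 209, nat_lit 174, nat_lit 139, nat_lit 104, nat_lit 384, nat_lit 279, nat_lit 244, nat_lit 209, nat_lit 174, nat_lit 139, nat_lit 104, nat_lit 384, nat_lit 279, nat_lit 244, nat_lit 209, nat_lit 174, nat_lit 139, nat_lit 104, nat_lit 384, nat_lit 279, nat_lit 244, nat_lit 209, nat_lit 174, nat_lit 139, nat_lit 104, nat_lit 384, nat_lit 279, nat_lit 244, nat_lit 209, nat_lit 174, nat_lit 139], nat_lit 0),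
  ([nat_lit 104, nat_lit 34, nat_lit 384, nat_lit 279, nat_lit 244, nat_lit 209, nat_lit 174, nat_lit 139, nat_lit 104, nat_lit 384, nat_lit 279, nat_lit 244, nat_lit 209, nat_lit 174, nat_lit 139, nat_lit 104, nat_lit 384, nat_lit 279, nat_lit 244, nat_lit 209, nat_lit 174, nat_lit 139, nat_lit 104, nat_lit 384, nat_lit 279, nat_lit 244, nat_lit 209, nat_lit 174, nat_lit 139, nat_lit 104, nat_lit 384, nat_lit 279, nat_lit 244, nat_lit 209, nat_lit 174, nat_lit 139, nat_lit 104, nat_lit 384, nat_lit 279, nat_lit 244, nat_lit 209, nat_lit 174, nat_lit 139, nat_lit 104, nat_lit 384, nat_lit 279, nat_lit 244, nat_lit 209, nat_lit 174, nat_lit 139, nat_lit 104, nat_lit 384, nat_lit 279, nat_lit 244, nat_lit 209, nat_lit 174, nat_lit 139, nat_lit 104, nat_lit 384, nat_lit 279, nat_lit 244, nat_lit 209, nat_lit 174, nat_lit 139], nat_lit 0),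
  ([nat_lit 139, nat_lit 209, nat_lit 139, nat_lit 209], nat_lit 0),
  ([nat_lit 139, nat_lit 279, nat_lit 139, nat_lit 279], nat_lit 0),
  ([nat_lit 139, nat_lit 419, nat_lit 139, nat_lit 419], nat_lit 0),
  ([nat_lit 139, nat_lit 104, nat_lit 384, nat_lit 279, nat_lit 244, nat_lit 209, nat_lit 174, nat_lit 139, nat_lit 104, nat_lit 384, nat_lit 279, nat_lit 244, nat_lit 209, nat_lit 174, nat_lit 139, nat_lit 104, nat_lit 384, nat_lit 279, nat_lit 244, nat_lit 209, nat_lit 174, nat_lit 139, nat_lit 104, nat_lit 384, nat_lit 279, nat_lit 244, nat_lit 209, nat_lit 174, nat_lit 139, nat_lit 104, nat_lit 384, nat_lit 279, nat_lit 244, nat_lit 209, nat_lit 174, nat_lit 139, nat_lit 104, nat_lit 34, nat_lit 384, nat_lit 279, nat_lit 244, nat_lit 209, nat_lit 174, nat_lit 139, nat_lit 104, nat_lit 384, nat_lit 279, nat_lit 244, nat_lit 209, nat_lit 174, nat_lit 139, nat_lit 104, nat_lit 384, nat_lit 279, nat_lit 244, nat_lit 209, nat_lit 174, nat_lit 139, nat_lit 104,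 nat_lit 384, nat_lit 279, nat_lit 244, nat_lit 209, nat_lit 174], nat_lit 0),
  ([nat_lit 139, nat_lit 104, nat_lit 384, nat_lit 279, nat_lit 244, nat_lit 209, nat_lit 174, nat_lit 139, nat_lit 104, nat_lit 384, nat_lit 279, nat_lit 244, nat_lit 209, nat_lit 174, nat_lit 139, nat_lit 104, nat_lit 384, nat_lit 279, nat_lit 244, nat_lit 209, nat_lit 174, nat_lit 139, nat_lit 104, nat_lit 384, nat_lit 279, nat_lit 244, nat_lit 209, nat_lit 174, nat_lit 139, nat_lit 104, nat_lit 34, nat_lit 384, nat_lit 279, nat_lit 244, nat_lit 209, nat_lit 174, nat_lit 139, nat_lit 104, nat_lit 384, nat_lit 279, nat_lit 244, nat_lit 209, nat_lit 174, nat_lit 139, nat_lit 104, nat_lit 384, nat_lit 279, nat_lit 244, nat_lit 209, nat_lit 174, nat_lit 139, nat_lit 104, nat_lit 384, nat_lit 279, nat_lit 244, nat_lit 209, nat_lit 174, nat_lit 139, nat_lit 104, nat_lit 384, nat_lit 279, nat_lit 244, nat_lit 209, nat_lit 174], nat_lit 0),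
  ([nat_lit 139, nat_lit 104, nat_lit 34, nat_lit 384, nat_lit 279, nat_lit 244, nat_lit 209, nat_lit 174, nat_lit 139, nat_lit 104, nat_lit 384, nat_lit 279, nat_lit 244, nat_lit 209, nat_lit 174, nat_lit 139, nat_lit 104, nat_lit 384, nat_lit 279, nat_lit 244, nat_lit 209, nat_lit 174, nat_lit 139, nat_lit 104, nat_lit 384, nat_lit 279, nat_lit 244, nat_lit 209, nat_lit 174, nat_lit 139, nat_lit 104, nat_lit 384, nat_lit 279, nat_lit 244, nat_lit 209, nat_lit 174, nat_lit 139, nat_lit 104, nat_lit 384, nat_lit 279, nat_lit 244, nat_lit 209, nat_lit 174, nat_lit 139, nat_lit 104, nat_lit 384, nat_lit 279, nat_lit 244, nat_lit 209, nat_lit 174, nat_lit 139, nat_lit 104, nat_lit 384, nat_lit 279, nat_lit 244, nat_lit 209, nat_lit 174, nat_lit 139, nat_lit 104, nat_lit 384, nat_lit 279, nat_lit 244, nat_lit 209, nat_lit 174], nat_lit 0),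
  ([nat_lit 174, nat_lit 244, nat_lit 174, nat_lit 244], nat_lit 0),
  ([nat_lit 174, nat_lit 419, nat_lit 174, nat_lit 419], nat_lit 0),
  ([nat_lit 174, nat_lit 139, nat_lit 104, nat_lit 384, nat_lit 279, nat_lit 244, nat_lit 209, nat_lit 174, nat_lit 139, nat_lit 104, nat_lit 384, nat_lit 279, nat_lit 244, nat_lit 209, nat_lit 174, nat_lit 139, nat_lit 104, nat_lit 384, nat_lit 279, nat_lit 244, nat_lit 209, nat_lit 174, nat_lit 139, nat_lit 104, nat_lit 384, nat_lit 279, nat_lit 244, nat_lit 209, nat_lit 174, nat_lit 139, nat_lit 104, nat_lit 384, nat_lit 279, nat_lit 244, nat_lit 209, nat_lit 174, nat_lit 139, nat_lit 104, nat_lit 384, nat_lit 279, nat_lit 244, nat_lit 209, nat_lit 174, nat_lit 139, nat_lit 104, nat_lit 384, nat_lit 279, nat_lit 244, nat_lit 209, nat_lit 174, nat_lit 139, nat_lit 104, nat_lit 34, nat_lit 384, nat_lit 279, nat_lit 244, nat_lit 209, nat_lit 174, nat_lit 139, nat_lit 104, nat_lit 384, nat_lit 279, nat_lit 244, nat_lit 209],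 nat_lit 0),
  ([nat_lit 174, nat_lit 139, nat_lit 104, nat_lit 384, nat_lit 279, nat_lit 244, nat_lit 209, nat_lit 174, nat_lit 139, nat_lit 104, nat_lit 384, nat_lit 279, nat_lit 244, nat_lit 209, nat_lit 174, nat_lit 139, nat_lit 104, nat_lit 384, nat_lit 279, nat_lit 244, nat_lit 209, nat_lit 174, nat_lit 139, nat_lit 104, nat_lit 384, nat_lit 279, nat_lit 244, nat_lit 209, nat_lit 174, nat_lit 139, nat_lit 104, nat_lit 384, nat_lit 279, nat_lit 244, nat_lit 209, nat_lit 174, nat_lit 139, nat_lit 104, nat_lit 34, nat_lit 384, nat_lit 279, nat_lit 244, nat_lit 209, nat_lit 174, nat_lit 139, nat_lit 104, nat_lit 384, nat_lit 279, nat_lit 244, nat_lit 209, nat_lit 174, nat_lit 139, nat_lit 104, nat_lit 384, nat_lit 279, nat_lit 244, nat_lit 209, nat_lit 174, nat_lit 139, nat_lit 104, nat_lit 384, nat_lit 279, nat_lit 244, nat_lit 209], nat_lit 0),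
  ([nat_lit 174, nat_lit 139, nat_lit 104, nat_lit 384, nat_lit 279, nat_lit 244, nat_lit 209, nat_lit 174, nat_lit 139, nat_lit 104, nat_lit 384, nat_lit 279, nat_lit 244, nat_lit 209, nat_lit 174, nat_lit 139, nat_lit 104, nat_lit 34, nat_lit 384, nat_lit 279, nat_lit 244, nat_lit 209, nat_lit 174, nat_lit 139, nat_lit 104, nat_lit 384, nat_lit 279, nat_lit 244, nat_lit 209, nat_lit 174, nat_lit 139, nat_lit 104, nat_lit 384, nat_lit 279, nat_lit 244, nat_lit 209, nat_lit 174, nat_lit 139, nat_lit 104, nat_lit 384, nat_lit 279, nat_lit 244, nat_lit 209, nat_lit 174, nat_lit 139, nat_lit 104, nat_lit 384, nat_lit 279, nat_lit 244, nat_lit 209, nat_lit 174, nat_lit 139, nat_lit 104, nat_lit 384, nat_lit 279, nat_lit 244, nat_lit 209, nat_lit 174, nat_lit 139, nat_lit 104, nat_lit 384, nat_lit 279, nat_lit 244, nat_lit 209], nat_lit 0),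
  ([nat_lit 209, nat_lit 69, nat_lit 209, nat_lit 69], nat_lit 0),
  ([nat_lit 209, nat_lit 419, nat_lit 209, nat_lit 419], nat_lit 0),
  ([nat_lit 209, nat_lit 174, nat_lit 139, nat_lit 104, nat_lit 384, nat_lit 279, nat_lit 244, nat_lit 209, nat_lit 174, nat_lit 139, nat_lit 104, nat_lit 384, nat_lit 279, nat_lit 244, nat_lit 209, nat_lit 174, nat_lit 139, nat_lit 104, nat_lit 384, nat_lit 279, nat_lit 244, nat_lit 209, nat_lit 174, nat_lit 139, nat_lit 104, nat_lit 384, nat_lit 279, nat_lit 244, nat_lit 209, nat_lit 174, nat_lit 139, nat_lit 104, nat_lit 384, nat_lit 279, nat_lit 244, nat_lit 209, nat_lit 174, nat_lit 139, nat_lit 104, nat_lit 384, nat_lit 279, nat_lit 244, nat_lit 209, nat_lit 174, nat_lit 139, nat_lit 104, nat_lit 34, nat_lit 384, nat_lit 279, nat_lit 244, nat_lit 209, nat_lit 174, nat_lit 139, nat_lit 104, nat_lit 384, nat_lit 279, nat_lit 244, nat_lit 209, nat_lit 174, nat_lit 139, nat_lit 104, nat_lit 384, nat_lit 279, nat_lit 244], nat_lit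 0),
  ([nat_lit 209, nat_lit 174, nat_lit 139, nat_lit 104, nat_lit 384, nat_lit 279, nat_lit 244, nat_lit 209, nat_lit 174, nat_lit 139, nat_lit 104, nat_lit 384, nat_lit 279, nat_lit 244, nat_lit 209, nat_lit 174, nat_lit 139, nat_lit 104, nat_lit 384, nat_lit 279, nat_lit 244, nat_lit 209, nat_lit 174, nat_lit 139, nat_lit 104, nat_lit 34, nat_lit 384, nat_lit 279, nat_lit 244, nat_lit 209, nat_lit 174, nat_lit 139, nat_lit 104, nat_lit 384, nat_lit 279, nat_lit 244, nat_lit 209, nat_lit 174, nat_lit 139, nat_lit 104, nat_lit 384, nat_lit 279, nat_lit 244, nat_lit 209, nat_lit 174, nat_lit 139, nat_lit 104, nat_lit 384, nat_lit 279, nat_lit 244, nat_lit 209, nat_lit 174, nat_lit 139, nat_lit 104, nat_lit 384, nat_lit 279, nat_lit 244, nat_lit 209, nat_lit 174, nat_lit 139, nat_lit 104, nat_lit 384, nat_lit 279, nat_lit 244], nat_lit 0),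
  ([nat_lit 209, nat_lit 174, nat_lit 139, nat_lit 104, nat_lit 384, nat_lit 279, nat_lit 244, nat_lit 209, nat_lit 174, nat_lit 139, nat_lit 104, nat_lit 384, nat_lit 279, nat_lit 244, nat_lit 209, nat_lit 174, nat_lit 139, nat_lit 104, nat_lit 34, nat_lit 384, nat_lit 279, nat_lit 244, nat_lit 209, nat_lit 174, nat_lit 139, nat_lit 104, nat_lit 384, nat_lit 279, nat_lit 244, nat_lit 209, nat_lit 174, nat_lit 139, nat_lit 104, nat_lit 384, nat_lit 279, nat_lit 244, nat_lit 209, nat_lit 174, nat_lit 139, nat_lit 104, nat_lit 384, nat_lit 279, nat_lit 244, nat_lit 209, nat_lit 174, nat_lit 139, nat_lit 104, nat_lit 384, nat_lit 279, nat_lit 244, nat_lit 209, nat_lit 174, nat_lit 139, nat_lit 104, nat_lit 384, nat_lit 279, nat_lit 244, nat_lit 209, nat_lit 174, nat_lit 139, nat_lit 104, nat_lit 384, nat_lit 279, nat_lit 244], nat_lit 0),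
  ([nat_lit 244, nat_lit 34, nat_lit 244, nat_lit 34], nat_lit 0),
  ([nat_lit 244, nat_lit 69, nat_lit 244, nat_lit 69], nat_lit 0),
  ([nat_lit 244, nat_lit 174, nat_lit 244, nat_lit 174], nat_lit 0),
  ([nat_lit 244, nat_lit 279, nat_lit 244, nat_lit 279, nat_lit 244, nat_lit 279], nat_lit 0),
  ([nat_lit 244, nat_lit 209, nat_lit 174, nat_lit 139, nat_lit 104, nat_lit 384, nat_lit 279, nat_lit 244, nat_lit 209, nat_lit 174, nat_lit 139, nat_lit 104, nat_lit 384, nat_lit 279, nat_lit 244, nat_lit 209, nat_lit 174, nat_lit 139, nat_lit 104, nat_lit 384, nat_lit 279, nat_lit 244, nat_lit 209, nat_lit 174, nat_lit 139, nat_lit 104, nat_lit 384, nat_lit 279, nat_lit 244, nat_lit 209, nat_lit 174, nat_lit 139, nat_lit 104, nat_lit 384, nat_lit 279, nat_lit 244, nat_lit 209, nat_lit 174, nat_lit 139, nat_lit 104, nat_lit 384, nat_lit 279, nat_lit 244, nat_lit 209, nat_lit 174, nat_lit 139, nat_lit 104, nat_lit 384, nat_lit 279, nat_lit 244, nat_lit 209, nat_lit 174,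 nat_lit 139, nat_lit 104, nat_lit 34, nat_lit 384, nat_lit 279, nat_lit 244, nat_lit 209, nat_lit 174, nat_lit 139, nat_lit 104, nat_lit 384, nat_lit 279], nat_lit 0),
  ([nat_lit 244, nat_lit 209, nat_lit 174, nat_lit 139, nat_lit 104, nat_lit 384, nat_lit 279, nat_lit 244, nat_lit 209, nat_lit 174, nat_lit 139, nat_lit 104, nat_lit 384, nat_lit 279, nat_lit 244, nat_lit 209, nat_lit 174, nat_lit 139, nat_lit 104, nat_lit 384, nat_lit 279, nat_lit 244, nat_lit 209, nat_lit 174, nat_lit 139, nat_lit 104, nat_lit 384, nat_lit 279, nat_lit 244, nat_lit 209, nat_lit 174, nat_lit 139, nat_lit 104, nat_lit 384, nat_lit 279, nat_lit 244, nat_lit 209, nat_lit 174, nat_lit 139, nat_lit 104, nat_lit 34, nat_lit 384, nat_lit 279, nat_lit 244, nat_lit 209, nat_lit 174, nat_lit 139, nat_lit 104, nat_lit 384, nat_lit 279, nat_lit 244, nat_lit 209, nat_lit 174, nat_lit 139, nat_lit 104, nat_lit 384, nat_lit 279, nat_lit 244, nat_lit 209, nat_lit 174, nat_lit 139, nat_lit 104,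 nat_lit 384, nat_lit 279], nat_lit 0),
  ([nat_lit 244, nat_lit 209, nat_lit 174, nat_lit 139, nat_lit 104, nat_lit 384, nat_lit 279, nat_lit 244, nat_lit 209, nat_lit 174, nat_lit 139, nat_lit 104, nat_lit 384, nat_lit 279, nat_lit 244, nat_lit 209, nat_lit 174, nat_lit 139, nat_lit 104, nat_lit 384, nat_lit 279, nat_lit 244, nat_lit 209, nat_lit 174, nat_lit 139, nat_lit 104, nat_lit 384, nat_lit 279, nat_lit 244, nat_lit 209, nat_lit 174, nat_lit 139, nat_lit 104, nat_lit 34, nat_lit 384, nat_lit 279, nat_lit 244, nat_lit 209, nat_lit 174, nat_lit 139, nat_lit 104, nat_lit 384, nat_lit 279, nat_lit 244, nat_lit 209, nat_lit 174, nat_lit 139, nat_lit 104, nat_lit 384, nat_lit 279, nat_lit 244, nat_lit 209, nat_lit 174, nat_lit 139, nat_lit 104, nat_lit 384, nat_lit 279, nat_lit 244, nat_lit 209, nat_lit 174, nat_lit 139, nat_lit 104, nat_lit 384, nat_lit 279], nat_lit 0),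
  ([nat_lit 244, nat_lit 209, nat_lit 174, nat_lit 139, nat_lit 104, nat_lit 384, nat_lit 279, nat_lit 244, nat_lit 209, nat_lit 174, nat_lit 139, nat_lit 104, nat_lit 34, nat_lit 384, nat_lit 279, nat_lit 244, nat_lit 209, nat_lit 174, nat_lit 139, nat_lit 104, nat_lit 384, nat_lit 279, nat_lit 244, nat_lit 209, nat_lit 174, nat_lit 139, nat_lit 104, nat_lit 384, nat_lit 279, nat_lit 244, nat_lit 209, nat_lit 174, nat_lit 139, nat_lit 104, nat_lit 384, nat_lit 279, nat_lit 244, nat_lit 209, nat_lit 174, nat_lit 139, nat_lit 104, nat_lit 384, nat_lit 279, nat_lit 244, nat_lit 209, nat_lit 174, nat_lit 139, nat_lit 104, nat_lit 384, nat_lit 279, nat_lit 244, nat_lit 209, nat_lit 174, nat_lit 139, nat_lit 104, nat_lit 384, nat_lit 279, nat_lit 244, nat_lit 209, nat_lit 174, nat_lit 139, nat_lit 104, nat_lit 384, nat_lit 279], nat_lit 0),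
  ([nat_lit 244, nat_lit 209, nat_lit 174, nat_lit 139, nat_lit 104, nat_lit 34, nat_lit 384, nat_lit 279, nat_lit 244, nat_lit 209, nat_lit 174, nat_lit 139, nat_lit 104, nat_lit 384, nat_lit 279, nat_lit 244, nat_lit 209, nat_lit 174, nat_lit 139, nat_lit 104, nat_lit 384, nat_lit 279, nat_lit 244, nat_lit 209, nat_lit 174, nat_lit 139, nat_lit 104, nat_lit 384, nat_lit 279, nat_lit 244, nat_lit 209, nat_lit 174, nat_lit 139, nat_lit 104, nat_lit 384, nat_lit 279, nat_lit 244, nat_lit 209, nat_lit 174, nat_lit 139, nat_lit 104, nat_lit 384, nat_lit 279, nat_lit 244, nat_lit 209, nat_lit 174, nat_lit 139, nat_lit 104, nat_lit 384, nat_lit 279, nat_lit 244, nat_lit 209, nat_lit 174, nat_lit 139, nat_lit 104, nat_lit 384, nat_lit 279, nat_lit 244, nat_lit 209, nat_lit 174, nat_lit 139, nat_lit 104, nat_lit 384, nat_lit 279], nat_lit 0),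
  ([nat_lit 279, nat_lit 209, nat_lit 279, nat_lit 209], nat_lit 0),
  ([nat_lit 279, nat_lit 384, nat_lit 279, nat_lit 384], nat_lit 0),
  ([nat_lit 279, nat_lit 244, nat_lit 279, nat_lit 244, nat_lit 279, nat_lit 244], nat_lit 0),
  ([nat_lit 279, nat_lit 314, nat_lit 279, nat_lit 314, nat_lit 279, nat_lit 314], nat_lit 0),
  ([nat_lit 279, nat_lit 244, nat_lit 209, nat_lit 174, nat_lit 139, nat_lit 104, nat_lit 384, nat_lit 279, nat_lit 244, nat_lit 209, nat_lit 174, nat_lit 139, nat_lit 104, nat_lit 384, nat_lit 279, nat_lit 244, nat_lit 209, nat_lit 174, nat_lit 139, nat_lit 104, nat_lit 384, nat_lit 279, nat_lit 244, nat_lit 209, nat_lit 174, nat_lit 139, nat_lit 104, nat_lit 34, nat_lit 384, nat_lit 279, nat_lit 244, nat_lit 209, nat_lit 174, nat_lit 139, nat_lit 104, nat_lit 384, nat_lit 279, nat_lit 244, nat_lit 209, nat_lit 174, nat_lit 139, nat_lit 104, nat_lit 384, nat_lit 279, nat_lit 244, nat_lit 209, nat_lit 174, nat_lit 139, nat_lit 104, nat_lit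 384, nat_lit 279, nat_lit 244, nat_lit 209, nat_lit 174, nat_lit 139, nat_lit 104, nat_lit 384, nat_lit 279, nat_lit 244, nat_lit 209, nat_lit 174, nat_lit 139, nat_lit 104, nat_lit 384], nat_lit 0),
  ([nat_lit 279, nat_lit 244, nat_lit 209, nat_lit 174, nat_lit 139, nat_lit 104, nat_lit 384, nat_lit 279, nat_lit 244, nat_lit 209, nat_lit 174, nat_lit 139, nat_lit 104, nat_lit 34, nat_lit 384, nat_lit 279, nat_lit 244, nat_lit 209, nat_lit 174, nat_lit 139, nat_lit 104, nat_lit 384, nat_lit 279, nat_lit 244, nat_lit 209, nat_lit 174, nat_lit 139, nat_lit 104, nat_lit 384, nat_lit 279, nat_lit 244, nat_lit 209, nat_lit 174, nat_lit 139, nat_lit 104, nat_lit 384, nat_lit 279, nat_lit 244, nat_lit 209, nat_lit 174, nat_lit 139, nat_lit 104, nat_lit 384, nat_lit 279, nat_lit 244, nat_lit 209, nat_lit 174, nat_lit 139, nat_lit 104, nat_lit 384, nat_lit 279, nat_lit 244, nat_lit 209, nat_lit 174, nat_lit 139, nat_lit 104, nat_lit 384, nat_lit 279, nat_lit 244, nat_lit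 209, nat_lit 174, nat_lit 139, nat_lit 104, nat_lit 384], nat_lit 0),
  ([nat_lit 314, nat_lit 174, nat_lit 314, nat_lit 174], nat_lit 0),
  ([nat_lit 314, nat_lit 209, nat_lit 314, nat_lit 209], nat_lit 0),
  ([nat_lit 314, nat_lit 244, nat_lit 314, nat_lit 244], nat_lit 0),
  ([nat_lit 314, nat_lit 279, nat_lit 314, nat_lit 279, nat_lit 314, nat_lit 279], nat_lit 0),
  ([nat_lit 384, nat_lit 34, nat_lit 384, nat_lit 34], nat_lit 0),
  ([nat_lit 384, nat_lit 139, nat_lit 384, nat_lit 139], nat_lit 0),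
  ([nat_lit 384, nat_lit 279, nat_lit 244, nat_lit 209, nat_lit 174, nat_lit 139, nat_lit 104, nat_lit 384, nat_lit 279, nat_lit 244, nat_lit 209, nat_lit 174, nat_lit 139, nat_lit 104, nat_lit 384, nat_lit 279, nat_lit 244, nat_lit 209, nat_lit 174, nat_lit 139, nat_lit 104, nat_lit 384, nat_lit 279, nat_lit 244, nat_lit 209, nat_lit 174, nat_lit 139, nat_lit 104, nat_lit 384, nat_lit 279, nat_lit 244, nat_lit 209, nat_lit 174, nat_lit 139, nat_lit 104, nat_lit 384, nat_lit 279, nat_lit 244, nat_lit 209, nat_lit 174, nat_lit 139, nat_lit 104, nat_lit 384, nat_lit 279, nat_lit 244, nat_lit 209, nat_lit 174, nat_lit 139, nat_lit 104, nat_lit 384, nat_lit 279, nat_lit 244, nat_lit 209, nat_lit 174, nat_lit 139, nat_lit 104, nat_lit 384, nat_lit 279, nat_lit 244, nat_lit 209, nat_lit 174, nat_lit 139, nat_lit 104, nat_lit 34], nat_lit 0),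
  ([nat_lit 384, nat_lit 279, nat_lit 244, nat_lit 209, nat_lit 174, nat_lit 139, nat_lit 104, nat_lit 384, nat_lit 279, nat_lit 244, nat_lit 209, nat_lit 174, nat_lit 139, nat_lit 104, nat_lit 384, nat_lit 279, nat_lit 244, nat_lit 209, nat_lit 174, nat_lit 139, nat_lit 104, nat_lit 384, nat_lit 279, nat_lit 244, nat_lit 209, nat_lit 174, nat_lit 139, nat_lit 104, nat_lit 384, nat_lit 279, nat_lit 244, nat_lit 209, nat_lit 174, nat_lit 139, nat_lit 104, nat_lit 384, nat_lit 279, nat_lit 244, nat_lit 209, nat_lit 174, nat_lit 139, nat_lit 104, nat_lit 384, nat_lit 279, nat_lit 244, nat_lit 209, nat_lit 174, nat_lit 139, nat_lit 104, nat_lit 34, nat_lit 384, nat_lit 279, nat_lit 244, nat_lit 209, nat_lit 174, nat_lit 139, nat_lit 104, nat_lit 384, nat_lit 279, nat_lit 244, nat_lit 209, nat_lit 174, nat_lit 139, nat_lit 104], nat_lit 0),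
  ([nat_lit 384, nat_lit 279, nat_lit 244, nat_lit 209, nat_lit 174, nat_lit 139, nat_lit 104, nat_lit 384, nat_lit 279, nat_lit 244, nat_lit 209, nat_lit 174, nat_lit 139, nat_lit 104, nat_lit 34, nat_lit 384, nat_lit 279, nat_lit 244, nat_lit 209, nat_lit 174, nat_lit 139, nat_lit 104, nat_lit 384, nat_lit 279, nat_lit 244, nat_lit 209, nat_lit 174, nat_lit 139, nat_lit 104, nat_lit 384, nat_lit 279, nat_lit 244, nat_lit 209, nat_lit 174, nat_lit 139, nat_lit 104, nat_lit 384, nat_lit 279, nat_lit 244, nat_lit 209, nat_lit 174, nat_lit 139, nat_lit 104, nat_lit 384, nat_lit 279, nat_lit 244, nat_lit 209, nat_lit 174, nat_lit 139, nat_lit 104, nat_lit 384, nat_lit 279, nat_lit 244, nat_lit 209, nat_lit 174, nat_lit 139, nat_lit 104, nat_lit 384, nat_lit 279, nat_lit 244, nat_lit 209, nat_lit 174, nat_lit 139, nat_lit 104], nat_lit 0),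
  ([nat_lit 419, nat_lit 174, nat_lit 419, nat_lit 174], nat_lit 0),
  ([nat_lit 419, nat_lit 279, nat_lit 419, nat_lit 279], nat_lit 0),
  ([nat_lit 419, nat_lit 384, nat_lit 419, nat_lit 384, nat_lit 419, nat_lit 384], nat_lit 0)]

noncomputable def gens : List ℕ := [nat_lit 34, nat_lit 69, nat_lit 104, nat_lit 139, nat_lit 174, nat_lit 209, nat_lit 244, nat_lit 279, nat_lit 314, nat_lit 349, nat_lit 384, nat_lit 419]

noncomputable def chk : ℕ → Bool := chkRow1 row (nat_lit 354049) (nat_lit 306936) (nat_lit 0x7ffff) (nat_lit 0x7f80000) (nat_lit 27) (nat_lit 0xff) (nat_lit 0) (nat_lit 0x7ffff) (nat_lit 19) (nat_lit 0x1ff) (nat_lit 0x3f0000000) (nat_lit 454) (nat_lit 489) (nat_lit 3) [] cols erots gens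

end Cfsg.Agent.L0.Fi24Tc1
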